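import Cfsg.Agent.Lib.M22Order.Sound

/-!
# Integer data for the simple groups of order 10200960

A row is a principal block of defect one without the trivial character, as for the order 443520:
signed degrees `M` of the members which are not exceptional, and `1 + M.sum` for the others.
-/

set_option autoImplicit false

namespace Cfsg.Agent.M23Order

open Cfsg.Agent.M22Order (combs sqrtB forceN forceI forceL forceLL allPick sqSum)

/-- The group order. -/
def ord : ℤ := 10200960

def divs : List ℕ := [
    1, 2, 3, 4, 5, 6, 7, 8, 9, 10, 11, 12, 14, 15, 16, 18, 20, 21, 22, 23, 24, 28, 30, 32, 33, 35,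
    36, 40, 42, 44, 45, 46, 48, 55, 56, 60, 63, 64, 66, 69, 70, 72, 77, 80, 84, 88, 90, 92, 96,
    99, 105, 110, 112, 115, 120, 126, 128, 132, 138, 140, 144, 154, 160, 161, 165, 168, 176, 180,
    184, 192, 198, 207, 210, 220, 224, 230, 231, 240, 252, 253, 264, 276, 280, 288, 308, 315, 320,
    322, 330, 336, 345, 352, 360, 368, 384, 385, 396, 414, 420, 440, 448, 460, 462, 480, 483, 495,
    504, 506, 528, 552, 560, 576, 616, 630, 640, 644, 660, 672, 690, 693, 704, 720, 736, 759, 770,
    792, 805, 828, 840, 880, 896, 920, 924, 960, 966, 990, 1008, 1012, 1035, 1056, 1104, 1120,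
    1152, 1155, 1232, 1260, 1265, 1288, 1320, 1344, 1380, 1386, 1408, 1440, 1449, 1472, 1518,
    1540, 1584, 1610, 1656, 1680, 1760, 1771, 1840, 1848, 1920, 1932, 1980, 2016, 2024, 2070,
    2112, 2208, 2240, 2277, 2310, 2415, 2464, 2520, 2530, 2576, 2640, 2688, 2760, 2772, 2880,
    2898, 2944, 3036, 3080, 3168, 3220, 3312, 3360, 3465, 3520, 3542, 3680, 3696, 3795, 3864,
    3960, 4032, 4048, 4140, 4224, 4416, 4480, 4554, 4620, 4830, 4928, 5040, 5060, 5152, 5280,
    5313, 5520, 5544, 5760, 5796, 6072, 6160, 6336, 6440, 6624, 6720, 6930, 7040, 7084, 7245,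
    7360, 7392, 7590, 7728, 7920, 8064, 8096, 8280, 8832, 8855, 9108, 9240, 9660, 9856, 10080,
    10120, 10304, 10560, 10626, 11040, 11088, 11385, 11592, 12144, 12320, 12672, 12880, 13248,
    13440, 13860, 14168, 14490, 14720, 14784, 15180, 15456, 15840, 15939, 16192, 16560, 17710,
    18216, 18480, 19320, 20160, 20240, 20608, 21120, 21252, 22080, 22176, 22770, 23184, 24288,
    24640, 25760, 26496, 26565, 27720, 28336, 28980, 29568, 30360, 30912, 31680, 31878, 32384,
    33120, 35420, 36432, 36960, 38640, 40320, 40480, 42504, 44160, 44352, 45540, 46368, 48576,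
    49280, 51520, 53130, 55440, 56672, 57960, 60720, 61824, 63360, 63756, 66240, 70840, 72864,
    73920, 77280, 79695, 80960, 85008, 88704, 91080, 92736, 97152, 103040, 106260, 110880, 113344,
    115920, 121440, 127512, 132480, 141680, 145728, 147840, 154560, 159390, 161920, 170016,
    182160, 185472, 212520, 221760, 226688, 231840, 242880, 255024, 283360, 291456, 309120,
    318780, 340032, 364320, 425040, 443520, 463680, 485760, 510048, 566720, 637560, 680064,
    728640, 850080, 927360, 1020096, 1133440, 1275120, 1457280, 1700160, 2040192, 2550240,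
    3400320, 5100480, 10200960]

/-- The possible non-trivial degrees. -/
def degList : List ℕ := [
    2, 3, 4, 5, 6, 7, 8, 9, 10, 11, 12, 14, 15, 16, 18, 20, 21, 22, 23, 24, 28, 30, 32, 33, 35,
    36, 40, 42, 44, 45, 46, 48, 55, 56, 60, 63, 64, 66, 69, 70, 72, 77, 80, 84, 88, 90, 92, 96,
    99, 105, 110, 112, 115, 120, 126, 128, 132, 138, 140, 144, 154, 160, 161, 165, 168, 176, 180,
    184, 192, 198, 207, 210, 220, 224, 230, 231, 240, 252, 253, 264, 276, 280, 288, 308, 315, 320,
    322, 330, 336, 345, 352, 360, 368, 384, 385, 396, 414, 420, 440, 448, 460, 462, 480, 483, 495,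
    504, 506, 528, 552, 560, 576, 616, 630, 640, 644, 660, 672, 690, 693, 704, 720, 736, 759, 770,
    792, 805, 828, 840, 880, 896, 920, 924, 960, 966, 990, 1008, 1012, 1035, 1056, 1104, 1120,
    1152, 1155, 1232, 1260, 1265, 1288, 1320, 1344, 1380, 1386, 1408, 1440, 1449, 1472, 1518,
    1540, 1584, 1610, 1656, 1680, 1760, 1771, 1840, 1848, 1920, 1932, 1980, 2016, 2024, 2070,
    2112, 2208, 2240, 2277, 2310, 2415, 2464, 2520, 2530, 2576, 2640, 2688, 2760, 2772, 2880,
    2898, 2944, 3036, 3080, 3168]

/-- A possible degree in the principal `p`-block if `|C(P)| = p c`. -/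
def dOK (p c d : ℕ) : Bool :=
  ([(2, 128), (3, 9), (5, 5), (7, 7), (11, 11), (23, 23)] : List (ℕ × ℕ)).all
      (fun qf => (c % qf.1 != 0) || (d % qf.2 != 0)) && ((c == 1) || decide (2 * p ≤ d))

/-- A degree of a character lying in the principal 23-block unless 23 divides it. -/
def in23 (d : ℕ) : Bool :=
  (d % 23 == 0) || (d % 23 == 1) || (d % 23 == 22) || (d % 23 == 11) || (d % 23 == 12)

/-- A degree of a character lying in the principal 11-block unless 11 divides it. -/
def in11 (d : ℕ) : Bool :=
  (d % 11 == 0) || (d % 11 == 1) || (d % 11 == 10) || (d % 11 == 5) || (d % 11 == 6)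

/-- The degrees left when 11 is excluded. -/
def okDeg (d : ℕ) : Bool := in23 d && in11 d && (d != 11)

/-- Two degrees which are not `±1` modulo 23 are the same, being exceptional. -/
def excOK (ds : List ℕ) : Bool :=
  let e := ds.filter fun d => (d % 23 == 11) || (d % 23 == 12)
  e.all fun a => e.all fun b => a == b

/-- The possible signed degrees. -/
def candList (p c : ℕ) (ok : ℕ → Bool) : List ℤ :=
  ((degList.filter fun d => dOK p c d && ok d).flatMap fun d : ℕ => [(d : ℤ), -(d : ℤ)]).filter
    fun z => z % (p : ℤ) == 1

/-- The possible rows with members among `X`. -/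
def rowsIn (ok : ℕ → Bool) (X : List ℤ) (p e c : ℕ) : List (List ℤ) :=
  if e + 1 = p then
    (combs X (e - 1)).filter fun M => forceI (-1 - M.sum) fun z₀ => forceN z₀.natAbs fun d₀ =>
      X.contains z₀ && (M.all fun z => Nat.ble z.natAbs d₀) &&
        decide (1 + sqSum M + z₀ * z₀ ≤ ord)
  else
    (combs X (e - 1)).filter fun M => forceI (1 + M.sum) fun l =>
      ((l - (e : ℤ)) % (p : ℤ) == 0) && forceN l.natAbs (fun d => ok d && degList.contains d && dOK p c d)
        && decide (1 + sqSum M + (((p - 1) / e : ℕ) : ℤ) * (l * l) ≤ ord)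

def rows (ok : ℕ → Bool) (p e c : ℕ) : List (List ℤ) :=
  forceL (candList p c ok) fun X => rowsIn ok X p e c

/-- The possible `(e, c)` for a Sylow subgroup of order `p`. -/
def ecList (p : ℕ) : List (ℕ × ℕ) :=
  (List.range p).flatMap fun e =>
    if Nat.ble 2 e && (p - 1) % e == 0 then
      forceN (10200960 / p) fun m =>
        (divs.filter fun c =>
          (m % (c * e) == 0) && (m / (c * e) % p == 1) && Nat.blt 1 (m / (c * e)) && (c % p != 0)).map
            fun c => (e, c)
    else []

def memOK (z u : ℤ) : Bool := ((z - u) % 4 == 0) && Nat.blt u.natAbs z.natAbs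

/-- Conditions for the value `u`, congruent to `r` modulo `p`. -/
def congOK (p : ℕ) (r : ℤ) (u : ℤ) : Bool := (u - r) % (p : ℤ) == 0

/-- The possible signed values at an involution with centralizer of order `C`. -/
def opts (C : ℕ) (z : ℤ) : List ℤ :=
  forceN (z.natAbs / Nat.gcd z.natAbs (10200960 / C)) fun s =>
    forceN (sqrtB C 12 0 4096 / s) fun n =>
      ((List.range (2 * n + 1)).map fun i : ℕ => ((i : ℤ) - (n : ℤ)) * (s : ℤ)).filter (memOK z)

/-- The options with a congruence. -/
def optsP (p C : ℕ) (r z : ℤ) : List ℤ := (opts C z).filter (congOK p r)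

/-- The least square in a list, and `B + 1` for the empty list. -/
def minSq (B : ℕ) : List ℤ → ℕ
  | [] => B + 1
  | u :: l => forceN (minSq B l) fun m => forceN (u.natAbs * u.natAbs) fun q => bif Nat.blt q m then q else m

/-- Every vector chosen from `os`, with `1 + Σ` in `oW`, and squares up to `B`, satisfies `good`. -/
def allV (B K : ℕ) (os : List (List ℤ)) (oW : List ℤ) (good : List ℤ → Bool) : Bool :=
  oW.isEmpty || Nat.blt B ((os.map (minSq B)).sum + K * minSq B oW) ||
    allPick os B fun us => forceI (1 + us.sum) fun W =>
      !(oW.contains W) || Nat.blt B ((us.map fun u => u.natAbs * u.natAbs).sum + K * (W.natAbs * W.natAbs))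
        || good us

/-- The principal block part of the class multiplication coefficient. -/
def quad (M us : List ℤ) : ℤ :=
  ord + (List.zipWith (fun z u => ord / z * (u * u)) M us).sum -
    ord / (1 + M.sum) * ((1 + us.sum) * (1 + us.sum))

/-- The condition on the coefficient of an involution with centralizer of order `C`. -/
def quadOK (p e c C : ℕ) (Q : ℤ) : Bool :=
  if e % 2 = 1 then Q == 0
  else decide (0 ≤ Q) && ((Q * c) % ((C : ℤ) * C) == 0) &&
    decide (Q * c ≤ (C : ℤ) * C * ((p * c * e - p * c) * c : ℕ))

/-- Evaluate a list of numbers before using it. -/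
def forceNL {β : Type} : List ℕ → (List ℕ → β) → β
  | [], k => k []
  | a :: l, k => forceN a fun x => forceNL l fun t => k (x :: t)

/-- The orders allowed for the centralizer of an involution of `C(P)`. -/
def cList (p e c : ℕ) (ex : List ℕ) : List ℕ :=
  forceN (p * c * e) fun n =>
    forceNL (divs.filter fun m => (m % p == 0) && (n % m == 0)) fun ms =>
      divs.filter fun C =>
        (C % p == 0) && (C % 2 == 0) && Nat.blt C 10200960 && !ex.contains C &&
          ms.any fun m => (C % m == 0) && (C / m % p == 1)

/-- The list of options belonging to `z`. -/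
def lookOpt (X : List ℤ) (os : List (List ℤ)) (z : ℤ) : List ℤ :=
  match X, os with
  | x :: X', o :: os' => bif x == z then o else lookOpt X' os' z
  | _, _ => []

/-- No values at an involution with centralizer of order `C` fit one of the rows `Ms`. -/
def deadAt (p e c : ℕ) (X : List ℤ) (Ms : List (List ℤ)) (useQuad : Bool) (C : ℕ) : Bool :=
  forceLL (X.map (optsP p C 1)) fun os =>
    Ms.all fun M => forceI (1 + M.sum) fun l => forceL (optsP p C (e : ℤ) l) fun oW =>
      forceLL (M.map (lookOpt X os)) fun oM =>
        allV (C - 1) ((p - 1) / e) oM oW fun us => useQuad && !quadOK p e c C (quad M us)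

/-- No values at an involution of `C(P)` fit a row of the list `Ms`. -/
def dead (p e c : ℕ) (X : List ℤ) (Ms : List (List ℤ)) (ex : List ℕ) (useQuad : Bool) : Bool :=
  (c % 2 == 0) && forceNL (cList p e c ex) fun Cs => Cs.all (deadAt p e c X Ms useQuad)

/-- The largest count of members of signed degree `z`, none if the value has no option. -/
def maxCnt (os : List ℤ) : ℕ := if os.isEmpty then 0 else 22

/-- No 22 members with signed degrees among `70, -160, 231, -528, -1540, 1680`, adding up to `-1`,
have squared values fitting below `C`: only the degrees which 70 does not divide are counted. -/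
def full23 (c C : ℕ) : Bool :=
  (c % 2 == 0) && forceL (optsP 23 C 1 (-160)) fun a => forceL (optsP 23 C 1 231) fun b =>
    forceL (optsP 23 C 1 (-528)) fun d =>
      forceN (minSq C a) fun ma => forceN (minSq C b) fun mb => forceN (minSq C d) fun md =>
        (List.range (maxCnt b + 1)).all fun j => (List.range (maxCnt a + 1)).all fun i =>
          (List.range (maxCnt d + 1)).all fun k => Nat.blt 22 (i + j + k) ||
            (((-160) * (i : ℤ) + 231 * (j : ℤ) + (-528) * (k : ℤ) + 1) % 70 != 0) ||
              Nat.blt C (1 + i * ma + j * mb + k * md + (22 - (i + j + k)) * 484)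

/-- The signed degrees possible in the principal 23-block if it is its own centralizer. -/
def cand23 : List ℤ := [-22, 24, -45, 70, -160, 231, -252, -528, 576, -896, 990, -1540, 1680]

/-- Five members of degree 24 and value `-20` at an involution with centralizer of order `C`, a
further character having squared value 441, fit into no principal 23-block. -/
def scan24 (Ms : List (List ℤ)) (C : ℕ) : Bool :=
  forceLL (cand23.map (opts C)) fun os =>
    Ms.all fun M5 => forceLL (List.replicate 5 [-20] ++ M5.map (lookOpt cand23 os)) fun oM =>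
      forceI (121 + M5.sum) fun l => forceL (opts C l) fun oW =>
        allV (C - 442) 2 oM oW fun us => quad (List.replicate 5 24 ++ M5) us != 0

/-- Rows at 23 containing five members of degree 24. -/
def rows24 : List (List ℤ) :=
  (combs cand23 5).filter fun M => forceI (121 + M.sum) fun l =>
    ((l - 11) % 23 == 0) && forceN l.natAbs (fun d => degList.contains d) &&
      decide (2881 + sqSum M + 2 * (l * l) ≤ ord)

/-- The possible centralizer orders of an involution central in a Sylow 2-subgroup. -/
def cs128 : List ℕ := [
    128, 384, 640, 896, 1152, 1920, 2688, 4480, 5760, 8064, 13440, 40320]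

/-- The first possible principal 11-block. -/
def rowA : List ℤ := [45, 45, 1035, -230]

/-- The second possible principal 11-block. -/
def rowB : List ℤ := [45, 45, 1288, -483]

/-- The values found at the central involution. -/
def targetL (C : ℕ) (L us : List ℤ) (u : ℤ) : Bool :=
  (C == 2688) && (L == rowA) && (us == [-3, -3, 27, -22]) && (u == 7)

/-- Values at a central involution of the principal blocks at 11 and 5. -/
def scanL (L : List ℤ) (C : ℕ) : Bool :=
  forceLL (L.map (opts C)) fun os => forceL (opts C (1 + L.sum)) fun oW =>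
    forceL (opts C 231) fun oA => forceL (opts C 2024) fun oV =>
      allV (C - 1) 2 os oW fun us => (quad L us != 0) || forceI (1 + us.sum) fun W =>
        oA.all fun u => forceI (1 + u + 2 * W) fun V => !(oV.contains V) ||
          Nat.blt C (1 + (us.map fun x => x.natAbs * x.natAbs).sum + 2 * (W.natAbs * W.natAbs) +
            u.natAbs * u.natAbs + V.natAbs * V.natAbs) || targetL C L us u

/-- The signed degrees at 23 which 11 divides. -/
def cand253 : List ℤ := [-22, 231, -528, 990, -1540]

/-- The further members of the principal 23-block, one being of degree 231. -/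
def rows231 : List (List ℤ) :=
  (combs cand253 5).filter fun M => forceI (231 + M.sum - 1881) fun l =>
    ((l - 11) % 23 == 0) && forceN l.natAbs (fun d => (d % 11 == 0) && (d != 11) && degList.contains d) &&
      decide (1 + sqSum ([-45, -45, -896, -896, 231] ++ M) + 2 * (l * l) +
        sqSum [230, 1035, 2024] ≤ ord)

/-- Degrees and values from signed ones. -/
def pairs (K : ℕ) (M us : List ℤ) : List (ℕ × ℤ) :=
  List.zipWith Cfsg.Agent.M22Order.sm M us ++
    List.replicate K (Cfsg.Agent.M22Order.sm (1 + M.sum) (1 + us.sum))

/-- The Cauchy inequality between degrees and values. -/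
def csOK (C : ℕ) (P : List (ℕ × ℤ)) : Bool :=
  let a := 1 + (P.map fun x => x.2 * x.2).sum
  let b := 1 + (P.map fun x => (x.1 : ℤ) * (x.1 : ℤ)).sum
  let s := 1 + (P.map fun x => (x.1 : ℤ) * x.2).sum
  decide (a ≤ (C : ℤ)) && decide (b ≤ ord) && decide (s * s ≤ (ord - b) * ((C : ℤ) - a))

/-- The members and values found, apart from `230`, `1035` and `2024`. -/
def targetM : List (ℕ × ℤ) := [
    (45, -3), (45, -3), (896, 0), (896, 0), (231, 7), (22, 6), (231, 7), (231, 7), (990, -18),
    (990, -18), (770, -14), (770, -14)]

/-- Values at a central involution of the principal 23-block. -/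
def scanM (M5 : List ℤ) : Bool :=
  forceL ([-45, -45, -896, -896, 231] ++ M5) fun M =>
    forceLL ([[3], [3], [0], [0], [7]] ++ M5.map (opts 2688)) fun os =>
      forceL (opts 2688 (1 + M.sum)) fun oW =>
        allV (2688 - 1 - 1277) 2 os oW fun us => (quad M us != 0) ||
          !csOK 2688 (pairs 2 M us ++ [(230, 22), (1035, 27), (2024, 8)]) ||
            (pairs 2 M us).isPerm targetM

end Cfsg.Agent.M23Order
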