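import Cfsg.Agent.Lib.M22Order.Blocks
import Cfsg.Agent.Lib.M23Order.Data

/-!
# Simple groups of order 10200960: basic facts
-/

set_option autoImplicit false
set_option linter.style.haveILetI false
set_option linter.unusedSectionVars false

namespace Cfsg.Agent.M23Order

open Subgroup
open Cfsg.Agent.Characters Cfsg.Agent.Blocks Cfsg.Agent.PrimeBlock
open Cfsg.Agent.SmallSimple
open Cfsg.Agent.M12Order (cen cls)

universe u

variable {G : Type u} [Group G] [Finite G]

instance fact23 : Fact (Nat.Prime 23) := ⟨by norm_num⟩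

theorem mem_divs {d : ℕ} (hd : d ∣ 10200960) : d ∈ divs := by
  have key : ((List.range 8).all fun a => (List.range 3).all fun b => (List.range 2).all fun c =>
      (List.range 2).all fun d => (List.range 2).all fun e => (List.range 2).all fun f =>
        divs.contains (2 ^ a * 3 ^ b * 5 ^ c * 7 ^ d * 11 ^ e * 23 ^ f)) = true := by decide +kernel
  rw [show 10200960 = 2 ^ 7 * 3 ^ 2 * 5 ^ 1 * 7 ^ 1 * 11 ^ 1 * 23 ^ 1 by norm_num] at hd
  obtain ⟨x, y, hx, hy, rfl⟩ := Nat.dvd_mul.1 hd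
  obtain ⟨x, z, hx', hz, rfl⟩ := Nat.dvd_mul.1 hx
  obtain ⟨x, w, hx'', hw, rfl⟩ := Nat.dvd_mul.1 hx'
  obtain ⟨x, v, hx3, hv, rfl⟩ := Nat.dvd_mul.1 hx''
  obtain ⟨x, q, hx4, hq, rfl⟩ := Nat.dvd_mul.1 hx3
  obtain ⟨a, ha, rfl⟩ := (Nat.dvd_prime_pow Nat.prime_two).1 hx4
  obtain ⟨b, hb, rfl⟩ := (Nat.dvd_prime_pow Nat.prime_three).1 hq
  obtain ⟨c, hc, rfl⟩ := (Nat.dvd_prime_pow (show Nat.Prime 5 by norm_num)).1 hv
  obtain ⟨g, hg, rfl⟩ := (Nat.dvd_prime_pow (show Nat.Prime 7 by norm_num)).1 hw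
  obtain ⟨e, he, rfl⟩ := (Nat.dvd_prime_pow (show Nat.Prime 11 by norm_num)).1 hz
  obtain ⟨f, hf, rfl⟩ := (Nat.dvd_prime_pow (show Nat.Prime 23 by norm_num)).1 hy
  simp only [List.all_eq_true, List.mem_range, List.contains_iff_mem] at key
  exact key a (by omega) b (by omega) c (by omega) g (by omega) e (by omega) f (by omega)

theorem mem_degList {d : ℕ} (hd : d ∣ 10200960) (h2 : 2 ≤ d) (hlt : d * d < 10200960) :
    d ∈ degList := by
  have key : (divs.all fun d => !(Nat.ble 2 d && Nat.blt (d * d) 10200960) || degList.contains d) = true := by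
    decide +kernel
  have h := List.all_eq_true.1 key d (mem_divs hd)
  have h2' : Nat.ble 2 d = true := (Nat.ble_eq (x := 2) (y := d)).mpr h2
  have hlt' : Nat.blt (d * d) 10200960 = true := (Nat.blt_eq (x := d * d) (y := 10200960)).mpr hlt
  simpa [h2', hlt'] using h

section

variable [IsSimpleGroup G] (hcard : Nat.card G = 10200960)

include hcard

theorem not_comm : ¬ IsMulCommutative G :=
  Basic.not_comm_of_not_prime (by rw [hcard]; norm_num)

theorem cen_dvd (g : G) : cen g ∣ 10200960 := hcard ▸ card_subgroup_dvd_card _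

theorem cen_mul_cls (g : G) : cen g * cls g = 10200960 := hcard ▸ card_mul_index _

theorem deg_mem {χ : Cfsg.IrrCharacter G} (hne : χ ≠ trivIrr G) : deg χ ∈ degList := by
  have h1 : deg χ ≠ 1 := deg_ne_one (not_comm hcard) hne
  have h2 : 0 < deg χ := charDegree_pos χ
  exact mem_degList (hcard ▸ char_degree_dvd_card χ) (by omega)
    (hcard ▸ deg_sq_lt hne)

theorem factorization_one {q : ℕ} (hq : q = 5 ∨ q = 7 ∨ q = 11 ∨ q = 23) :
    (Nat.card G).factorization q = 1 := by
  haveI : Fact q.Prime := ⟨by rcases hq with rfl | rfl | rfl | rfl <;> norm_num⟩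
  rw [hcard, Nat.factorization_def _ (Fact.out : q.Prime),
    show 10200960 = q ^ 1 * (10200960 / q) by rcases hq with rfl | rfl | rfl | rfl <;> norm_num,
    padicValNat.mul (pow_ne_zero _ (Fact.out : q.Prime).ne_zero)
      (by rcases hq with rfl | rfl | rfl | rfl <;> norm_num),
    padicValNat.prime_pow, padicValNat.eq_zero_of_not_dvd
      (by rcases hq with rfl | rfl | rfl | rfl <;> norm_num)]

theorem factorization_three : (Nat.card G).factorization 3 = 2 := by
  rw [hcard, Nat.factorization_def _ Nat.prime_three, show 10200960 = 3 ^ 2 * 1133440 by norm_num,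
    padicValNat.mul (by norm_num) (by norm_num), padicValNat.prime_pow,
    padicValNat.eq_zero_of_not_dvd (by norm_num)]

theorem zero_of_singular {q : ℕ} (hq : q = 5 ∨ q = 7 ∨ q = 11 ∨ q = 23) (χ : Cfsg.IrrCharacter G)
    (hd : q ∣ deg χ) {g : G} (hg : q ∣ orderOf g) : (χ : G → ℂ) g = 0 :=
  BlockCharsA.DefectZeroVanish.eq_zero_of_singular
    (by rcases hq with rfl | rfl | rfl | rfl <;> norm_num) χ
    (by rw [factorization_one hcard hq, pow_one]; exact hd) hg

theorem nine_zero (χ : Cfsg.IrrCharacter G) (hd : 9 ∣ deg χ) {g : G} (hg : 3 ∣ orderOf g) :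
    (χ : G → ℂ) g = 0 :=
  BlockCharsA.DefectZeroVanish.eq_zero_of_singular Nat.prime_three χ
    (by rw [factorization_three hcard]; exact hd) hg

theorem card_sylow {q : ℕ} [Fact q.Prime] (hq : q = 5 ∨ q = 7 ∨ q = 11 ∨ q = 23) (P : Sylow q G) :
    Nat.card (P : Subgroup G) = q := by
  rw [Basic.card_sylow_eq, factorization_one hcard hq, pow_one]

theorem card_sylow_three (P : Sylow 3 G) : Nat.card (P : Subgroup G) = 9 := by
  rw [Basic.card_sylow_eq, factorization_three hcard]; norm_num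

theorem card_sylow_two (P : Sylow 2 G) : Nat.card (P : Subgroup G) = 128 := by
  rw [Basic.card_sylow_eq_pow (a := 7) (m := 79695) (by rw [hcard]; norm_num) (by norm_num) P]
  norm_num

theorem exists_sylow_eq {q : ℕ} [Fact q.Prime] (hq : q = 5 ∨ q = 7 ∨ q = 11 ∨ q = 23) {x : G}
    (hx : orderOf x = q) : ∃ P : Sylow q G, (P : Subgroup G) = zpowers x := by
  obtain ⟨P, hP⟩ := (IsPGroup.of_card (p := q) (n := 1)
    (by rw [Nat.card_zpowers, hx, pow_one]) : IsPGroup q (zpowers x)).exists_le_sylow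
  exact ⟨P, (eq_of_le_of_card_ge hP (by rw [Nat.card_zpowers, hx, card_sylow hcard hq P])).symm⟩

theorem p_not_dvd_c {p : ℕ} [Fact p.Prime] (hp : p = 5 ∨ p = 7 ∨ p = 11 ∨ p = 23) {P : Sylow p G} {c : ℕ}
    (hC : Nat.card (centralizer ((P : Subgroup G) : Set G)) = p * c) : ¬ p ∣ c := fun hd => by
  have h2 : p ^ 2 ∣ Nat.card G := by
    rw [pow_two]
    exact (Nat.mul_dvd_mul_left p hd).trans (hC ▸ card_subgroup_dvd_card _)
  have := ((Fact.out : p.Prime).pow_dvd_iff_le_factorization Nat.card_pos.ne').1 h2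
  rw [factorization_one hcard hp] at this
  omega

/-- The parameters of the normalizer of a Sylow subgroup of prime order. -/
theorem sylow_params {p : ℕ} [Fact p.Prime] (hp : p = 5 ∨ p = 7 ∨ p = 11 ∨ p = 23) {P : Sylow p G}
    (D : PBlock P) : ∃ c : ℕ, Nat.card (centralizer ((P : Subgroup G) : Set G)) = p * c ∧
      Nat.card (normalizer ((P : Subgroup G) : Set G)) = p * c * D.e ∧ 2 ≤ D.e ∧
      (D.e, c) ∈ ecList p := by
  have hG := not_comm hcard
  have hP := card_sylow hcard hp P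
  have hpp : p.Prime := Fact.out
  obtain ⟨x, hx1, hx⟩ := D.exists_ne_one
  have hpG : p ∣ Nat.card G := by rw [hcard]; rcases hp with rfl | rfl | rfl | rfl <;> norm_num
  set C := centralizer ((P : Subgroup G) : Set G)
  set N := normalizer ((P : Subgroup G) : Set G)
  have hPC : (P : Subgroup G) ≤ C := fun z hz => mem_centralizer_iff.2 fun y hy => by
    haveI : IsCyclic (P : Subgroup G) := isCyclic_of_prime_card hP
    letI := IsCyclic.commGroup (α := (P : Subgroup G))
    exact congrArg Subtype.val (mul_comm (⟨y, hy⟩ : (P : Subgroup G)) ⟨z, hz⟩)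
  obtain ⟨c, hc⟩ : p ∣ Nat.card C := hP ▸ card_dvd_of_le hPC
  have hCN : C ≤ N := centralizer_le_normalizer ..
  have hN : Nat.card N = p * c * D.e := by
    rw [← hc, ← D.he, Subgroup.relIndex, ← Nat.card_congr (subgroupOfEquivOfLe hCN).toEquiv,
      card_mul_index]
  have he2 : 2 ≤ D.e := by
    have h1 := D.e_pos
    by_contra hlt
    exact Basic.not_normalizer_le_centralizer hG hpG P
      (relIndex_eq_one.1 (D.he.trans (show D.e = 1 by omega)))
  refine ⟨c, hc, hN, he2, ?_⟩
  have hdN : p * c * D.e ∣ 10200960 := hN ▸ hcard ▸ card_subgroup_dvd_card N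
  have hn := Basic.card_normalizer_mul P
  rw [hN, hcard] at hn
  have hm : 10200960 / p = c * D.e * Nat.card (Sylow p G) := by
    rw [← hn]
    rw [show p * c * D.e * Nat.card (Sylow p G) = p * (c * D.e * Nat.card (Sylow p G)) by ring,
      Nat.mul_div_cancel_left _ hpp.pos]
  have hce : 0 < c * D.e := Nat.mul_pos (Nat.pos_of_ne_zero fun h => by
    rw [h, mul_zero] at hc; exact Nat.card_pos.ne' hc) D.e_pos
  have hc10 : c ∣ 10200960 := ((dvd_mul_left c p).trans (dvd_mul_right _ _)).trans hdN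
  refine List.mem_flatMap.2 ⟨D.e, List.mem_range.2 D.e_lt, ?_⟩
  rw [if_pos (by simp [Nat.ble_eq, he2, Nat.mod_eq_zero_of_dvd D.e_dvd]), M22Order.forceN_eq]
  refine List.mem_map.2 ⟨c, List.mem_filter.2 ⟨mem_divs hc10, ?_⟩, rfl⟩
  simp only [Bool.and_eq_true, bne_iff_ne, ne_eq, beq_iff_eq, Nat.blt_eq]
  refine ⟨⟨⟨Nat.mod_eq_zero_of_dvd (hm ▸ dvd_mul_right _ _), ?_⟩, ?_⟩,
    fun h => p_not_dvd_c hcard hp hc (Nat.dvd_of_mod_eq_zero h)⟩
  · rw [hm, Nat.mul_div_cancel_left _ hce, card_sylow_modEq_one p G,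
      Nat.one_mod_eq_one.2 hpp.ne_one]
  · rw [hm, Nat.mul_div_cancel_left _ hce]
    exact Basic.one_lt_card_sylow hG hpG

end

end Cfsg.Agent.M23Order
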