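import Cfsg.Agent.Lib.M23Order.Normal
import Cfsg.Agent.Lib.M23Order.Model

/-!
# The representation is written over the field with two elements

An element of order 23 becomes the companion matrix and one of order 11 the Frobenius map; the
products of their powers span all matrices, so the traces determine the entries.
-/

set_option autoImplicit false
set_option maxRecDepth 20000

namespace Cfsg.Agent.M23Order

open Matrix BitMat Model

/-- The polynomial of the companion matrix. -/
def pp {K : Type*} [CommRing K] (x : K) : K := x ^ 11 + x ^ 9 + x ^ 7 + x ^ 6 + x ^ 5 + x + 1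

section Field

variable {K : Type*} [Field K] [CharP K 2]

theorem two_zero : (2 : K) = 0 := CharTwo.two_eq_zero

theorem pp_sq {x : K} (h : pp x = 0) : pp (x ^ 2) = 0 := by
  have : pp (x ^ 2) = pp x ^ 2 := by
    simp only [pp, CharTwo.add_sq, ← pow_mul, one_pow, Nat.reduceMul]
  rw [this, h, zero_pow two_ne_zero]

theorem pp_sq_pow {x : K} (h : pp x = 0) : ∀ n, pp (x ^ 2 ^ n) = 0
  | 0 => by rwa [pow_zero, pow_one]
  | n + 1 => by rw [pow_succ, pow_mul]; exact pp_sq (pp_sq_pow h n)

theorem pow_twentythree {w : K} (h : ∑ j ∈ Finset.range 23, w ^ j = 0) : w ^ 23 = 1 ∧ w ≠ 1 := by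
  refine ⟨?_, ?_⟩
  · have := geom_sum_mul w 23
    rw [h, zero_mul] at this
    exact sub_eq_zero.1 this.symm
  · rintro rfl
    simp only [one_pow, Finset.sum_const, Finset.card_range, nsmul_one] at h
    have h1 : ((23 : ℕ) : K) = 1 := by
      rw [show (23 : ℕ) = 2 * 11 + 1 from rfl, Nat.cast_add, Nat.cast_mul, Nat.cast_one,
        Nat.cast_ofNat, two_zero, zero_mul, zero_add]
    exact one_ne_zero (h1.symm.trans h)

theorem root_or_inverse {w : K} (h : ∑ j ∈ Finset.range 23, w ^ j = 0) : pp w = 0 ∨ pp w⁻¹ = 0 := by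
  obtain ⟨h23, -⟩ := pow_twentythree h
  have hw : w ≠ 0 := fun e => by rw [e] at h23; norm_num at h23
  simp only [Finset.sum_range_succ, Finset.sum_range_zero, pow_zero, pow_one, zero_add] at h
  have hprod : pp w * (w ^ 11 + w ^ 10 + w ^ 6 + w ^ 5 + w ^ 4 + w ^ 2 + 1) = 0 := by
    simp only [pp]
    linear_combination h + (w ^ 5 + w ^ 6 + w ^ 7 + w ^ 9 + w ^ 10 + 3 * w ^ 11 + w ^ 12 + w ^ 13 +
      w ^ 15 + w ^ 16 + w ^ 17) * two_zero (K := K)
  rcases mul_eq_zero.1 hprod with h' | h'
  · exact Or.inl h'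
  · refine Or.inr ?_
    have e : pp w⁻¹ * w ^ 11 = 0 := by
      simp only [pp, inv_pow]
      field_simp
      linear_combination h'
    exact (mul_eq_zero.1 e).resolve_right (pow_ne_zero _ hw)

end Field

/-- The field with two elements inside a field of characteristic two. -/
abbrev incl (K : Type*) [Field K] [CharP K 2] : ZMod 2 →+* K := ZMod.castHom dvd_rfl K

theorem incl_injective (K : Type*) [Field K] [CharP K 2] : Function.Injective (incl K) :=
  (incl K).injective

theorem bit_two_pow (q i : ℕ) : bit (2 ^ q) i = if q = i then 1 else 0 := by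
  simp only [bit, Nat.testBit_two_pow, decide_eq_true_eq]

theorem toMatF_comb (n s : ℕ) :
    toMatF (combF (n + 1) s) = (if s.testBit n then toMatF (cuF.getD n 0) else 0) + toMatF (combF n s) := by
  rw [combF]
  split
  · exact Matrix.ext fun i j => by simp only [toMatF, Matrix.of_apply, Matrix.add_apply, bit_xor]
  · rw [zero_add]

theorem toMat_cu {q : ℕ} (hq : q < 121) :
    ∃ i j, toMatF (cuF.getD q 0) = toMat cM ^ i * toMat uM ^ j := by
  have hi : q / 11 < 11 := by omega
  have hj : q % 11 < 11 := Nat.mod_lt _ (by norm_num)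
  have h1 := List.all_eq_true.1 (List.all_eq_true.1 cuL_check _ (List.mem_range.2 hi)) _ (List.mem_range.2 hj)
  rw [show q / 11 * 11 + q % 11 = q by omega] at h1
  refine ⟨q / 11, q % 11, ?_⟩
  rw [← toMat_powB 4 cM _ (by omega), ← toMat_powB 4 uM _ (by omega), ← toMat_mulB, ← eq_of_eqB h1]
  have h2 := List.all_eq_true.1 cuF_check q (List.mem_range.2 hq)
  simp only [List.all_eq_true, List.mem_range, beq_iff_eq] at h2
  exact Matrix.ext fun i j => by simp only [toMatF, toMat, Matrix.of_apply, bit, h2 j j.2 i i.2]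

/-- A matrix trace orthogonal to all the products of powers of the two generators vanishes. -/
theorem eq_zero_of_trace {K : Type*} [Field K] [CharP K 2] (Δ : Matrix (Fin 11) (Fin 11) K)
    (h : ∀ i j, trace (Δ * ((toMat cM ^ i * toMat uM ^ j).map (incl K))) = 0) : Δ = 0 := by
  have hall : ∀ n ≤ 121, ∀ s, trace (Δ * ((toMatF (combF n s)).map (incl K))) = 0 := by
    intro n
    induction n with
    | zero =>
      intro _ s
      have : (toMatF (combF 0 s)).map (incl K) = 0 :=
        Matrix.ext fun i j => by simp [toMatF, combF, bit_zero]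
      rw [this, mul_zero, trace_zero]
    | succ n ih =>
      intro hn s
      rw [toMatF_comb, Matrix.map_add _ (map_add (incl K)), mul_add, trace_add, ih (by omega) s, add_zero]
      split
      · obtain ⟨i, j, e⟩ := toMat_cu (show n < 121 by omega)
        rw [e]
        exact h i j
      · rw [Matrix.map_zero _ (map_zero (incl K)), mul_zero, trace_zero]
  refine Matrix.ext fun a b => ?_
  have hq : 11 * (a : ℕ) + b < 121 := by omega
  have hs := List.all_eq_true.1 span_check _ (List.mem_range.2 hq)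
  rw [beq_iff_eq] at hs
  have he : (toMatF (2 ^ (11 * (a : ℕ) + b))).map (incl K) = Matrix.single b a (1 : K) := by
    refine Matrix.ext fun i j => ?_
    simp only [Matrix.map_apply, toMatF, Matrix.of_apply, bit_two_pow, Matrix.single_apply]
    by_cases hij : b = i ∧ a = j
    · obtain ⟨rfl, rfl⟩ := hij
      simp
    · rw [if_neg hij, if_neg, map_zero]
      intro e
      exact hij ⟨Fin.ext (by omega), Fin.ext (by omega)⟩
  have := hall 121 le_rfl (spanL.getD (11 * (a : ℕ) + b) 0)
  rw [hs, he] at this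
  rw [Matrix.zero_apply, ← this]
  simp [Matrix.trace, Matrix.mul_apply, Matrix.single_apply, Finset.sum_ite_eq, Finset.mem_univ, ite_and]

/-- The exponents of the eigenvalues. -/
def expo (j : ℕ) : ℕ := 2 ^ (10 * j)

theorem expo_distinct : ∀ i : Fin 11, ∀ j : Fin 11, expo i % 23 = expo j % 23 → i = j := by
  decide +kernel

theorem bit_one : ∀ m : Fin 11, bit 1 m = if m = 0 then 1 else 0 := by decide +kernel

universe u

section Closed

variable {G : Type u} [Group G] [Finite G] {K : Type} [Field K] [CharP K 2]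

omit [Finite G] in
theorem eigen_pow (R : G →* Matrix (Fin 11) (Fin 11) K) {g : G} {c : K} {x : Fin 11 → K}
    (h : (R g).mulVec x = c • x) : ∀ n : ℕ, (R (g ^ n)).mulVec x = c ^ n • x
  | 0 => by rw [pow_zero, pow_zero, map_one, one_mulVec, one_smul]
  | n + 1 => by
    rw [pow_succ', map_mul, ← mulVec_mulVec, eigen_pow R h n, mulVec_smul, h, smul_smul, ← pow_succ]

variable [IsAlgClosed K]

omit [Finite G] in
theorem exists_eigen (R : G →* Matrix (Fin 11) (Fin 11) K) {z : G}
    (hsum : ∑ j ∈ Finset.range 23, R z ^ j = 0) :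
    ∃ (z' : G) (w : K) (v : Fin 11 → K), (z' = z ∨ z' = z⁻¹) ∧ v ≠ 0 ∧ (R z').mulVec v = w • v ∧
      pp w = 0 ∧ w ^ 23 = 1 ∧ w ≠ 1 := by
  obtain ⟨w, hw⟩ := Module.End.exists_eigenvalue (Matrix.toLin' (R z))
  obtain ⟨v, hv⟩ := hw.exists_hasEigenvector
  have hmv : (R z).mulVec v = w • v := by
    have := hv.apply_eq_smul
    rwa [Matrix.toLin'_apply] at this
  have hv0 : v ≠ 0 := hv.2
  have hs : ∑ j ∈ Finset.range 23, w ^ j = 0 := by
    have h1 : (∑ j ∈ Finset.range 23, R z ^ j).mulVec v = (∑ j ∈ Finset.range 23, w ^ j) • v := by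
      rw [Matrix.sum_mulVec, Finset.sum_smul]
      exact Finset.sum_congr rfl fun j _ => by rw [← map_pow, eigen_pow R hmv]
    rw [hsum, zero_mulVec, eq_comm, smul_eq_zero] at h1
    exact h1.resolve_right hv0
  obtain ⟨h23, h1⟩ := pow_twentythree hs
  have hw0 : w ≠ 0 := fun e => by rw [e] at h23; norm_num at h23
  rcases root_or_inverse hs with h | h
  · exact ⟨z, w, v, Or.inl rfl, hv0, hmv, h, h23, h1⟩
  · refine ⟨z⁻¹, w⁻¹, v, Or.inr rfl, hv0, ?_, h, by rw [inv_pow, h23, inv_one], by simpa using h1⟩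
    have h2 := congrArg (R z⁻¹).mulVec hmv
    rw [mulVec_mulVec, ← map_mul, inv_mul_cancel, map_one, one_mulVec, mulVec_smul] at h2
    rw [eq_inv_smul_iff₀ hw0]
    exact h2.symm

omit [Finite G] in
/-- In a suitable basis the two generators are the companion matrix and the Frobenius map. -/
theorem exists_basis (R : G →* Matrix (Fin 11) (Fin 11) K) {z u : G} (hz : z ^ 23 = 1) (hu : u ^ 11 = 1)
    (huz : u * z * u⁻¹ = z ^ 2) {w : K} {v : Fin 11 → K} (hv : v ≠ 0) (hmv : (R z).mulVec v = w • v)
    (hp : pp w = 0) (h23 : w ^ 23 = 1) (hw1 : w ≠ 1) :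
    ∃ P : (Matrix (Fin 11) (Fin 11) K)ˣ,
      R z * P = P * (toMat cM).map (incl K) ∧ R u * P = P * (toMat uM).map (incl K) := by
  classical
  haveI : Fact (Nat.Prime 23) := ⟨by norm_num⟩
  have hord : orderOf w = 23 := orderOf_eq_prime h23 hw1
  let lam : Fin 11 → K := fun j => w ^ expo j
  have hlam : Function.Injective lam := by
    intro i j h
    refine expo_distinct i j ?_
    have h' : w ^ (expo i % 23) = w ^ (expo j % 23) := by
      rw [← hord, pow_mod_orderOf, pow_mod_orderOf]
      exact h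
    exact (hord ▸ IsPrimitiveRoot.orderOf w : IsPrimitiveRoot w 23).pow_inj (Nat.mod_lt _ (by norm_num))
      (Nat.mod_lt _ (by norm_num)) h'
  have hroot : ∀ j, pp (lam j) = 0 := fun j => pp_sq_pow hp _
  have hcomm : z * u = u * z ^ 12 := by
    have h24 : u * z ^ 12 * u⁻¹ = z := by
      rw [← conj_pow, huz, ← pow_mul, show 2 * 12 = 23 + 1 from rfl, pow_succ, hz, one_mul]
    exact (mul_inv_eq_iff_eq_mul.1 h24).symm
  let vec : ℕ → Fin 11 → K := fun j => (R (u ^ j)).mulVec v
  have hvec : ∀ j, (R z).mulVec (vec j) = (w ^ expo j) • vec j := by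
    intro j
    induction j with
    | zero => simpa [vec, expo] using hmv
    | succ j ih =>
      show (R z).mulVec ((R (u ^ (j + 1))).mulVec v) = _ • (R (u ^ (j + 1))).mulVec v
      rw [pow_succ', map_mul, ← mulVec_mulVec, mulVec_mulVec, ← map_mul, hcomm, map_mul, ← mulVec_mulVec,
        show (R (z ^ 12)).mulVec ((R (u ^ j)).mulVec v) = (w ^ expo j) ^ 12 • (R (u ^ j)).mulVec v from
          eigen_pow R ih 12, mulVec_smul, ← pow_mul]
      congr 1
      rw [← pow_mod_orderOf, ← pow_mod_orderOf (n := expo (j + 1)), hord, expo, expo,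
        show 10 * (j + 1) = 10 * j + 10 by ring, pow_add]
      exact congrArg (w ^ ·) (Nat.ModEq.mul_left _ (by decide : Nat.ModEq 23 12 (2 ^ 10)))
  have hinvu : ∀ j, (R ((u ^ j)⁻¹)).mulVec (vec j) = v := fun j => by
    show (R ((u ^ j)⁻¹)).mulVec ((R (u ^ j)).mulVec v) = v
    rw [mulVec_mulVec, ← map_mul, inv_mul_cancel, map_one, one_mulVec]
  have hli : LinearIndependent K (fun j : Fin 11 => vec j) := by
    refine Module.End.eigenvectors_linearIndependent' (Matrix.toLin' (R z)) lam hlam _ fun j => ?_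
    refine ⟨Module.End.mem_eigenspace_iff.2 (by rw [Matrix.toLin'_apply]; exact hvec j), fun e => hv ?_⟩
    rw [← hinvu (j : ℕ), show vec (j : ℕ) = 0 from e, mulVec_zero]
  let x : Fin 11 → K := ∑ j ∈ Finset.range 11, vec j
  have hxn : ∀ n : ℕ, (R (z ^ n)).mulVec x = ∑ j : Fin 11, lam j ^ n • vec j := by
    intro n
    rw [show x = ∑ j : Fin 11, vec j from Finset.sum_range _, Matrix.mulVec_sum]
    exact Finset.sum_congr rfl fun j _ => eigen_pow R (hvec j) n
  let P : Matrix (Fin 11) (Fin 11) K := Matrix.of fun a i => (R (z ^ (i : ℕ))).mulVec x a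
  have hcol : ∀ i : Fin 11, P.col i = ∑ j : Fin 11, lam j ^ (i : ℕ) • vec j := fun i =>
    (show P.col i = (R (z ^ (i : ℕ))).mulVec x from rfl).trans (hxn i)
  have hP : IsUnit P := by
    rw [← Matrix.linearIndependent_cols_iff_isUnit, Fintype.linearIndependent_iff]
    intro c hc
    have h0 : ∑ j : Fin 11, (∑ i : Fin 11, c i * lam j ^ (i : ℕ)) • vec j = 0 := by
      rw [← hc]
      simp only [hcol, Finset.smul_sum, Finset.sum_smul, smul_smul]
      rw [Finset.sum_comm]
    have := Matrix.eq_zero_of_forall_index_sum_mul_pow_eq_zero hlam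
      (Fintype.linearIndependent_iff.1 hli _ h0)
    exact congrFun this
  obtain ⟨P', hP'⟩ := hP
  refine ⟨P', ?_⟩
  rw [hP']
  -- the companion matrix
  have hred : ∀ (c : K), pp c = 0 → ∀ i : Fin 11,
      ∑ m : Fin 11, incl K (bit (cM.getD (i : ℕ) 0) m) * c ^ (m : ℕ) = c ^ ((i : ℕ) + 1) := by
    intro c hc i
    have hb : ∀ i m : Fin 11, bit (cM.getD (i : ℕ) 0) m =
        if (i : ℕ) + 1 = (m : ℕ) ∨ ((i : ℕ) = 10 ∧ (m : ℕ) ∈ [0, 1, 5, 6, 7, 9]) then 1 else 0 := by
      decide +kernel
    simp only [hb, apply_ite (incl K), map_one, map_zero, ite_mul, one_mul, zero_mul]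
    fin_cases i <;> simp [Fin.sum_univ_succ]
    simp only [pp] at hc
    linear_combination hc - (c ^ 11) * two_zero (K := K)
  have hA : R z * P = P * (toMat cM).map (incl K) := by
    refine Matrix.ext fun a i => ?_
    have hl : (R z * P) a i = (R (z ^ ((i : ℕ) + 1))).mulVec x a := by
      rw [pow_succ', map_mul, ← mulVec_mulVec]
      rfl
    have hr : (P * (toMat cM).map (incl K)) a i =
        (∑ m : Fin 11, incl K (bit (cM.getD (i : ℕ) 0) m) • (R (z ^ (m : ℕ))).mulVec x) a := by
      rw [Matrix.mul_apply, Finset.sum_apply]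
      exact Finset.sum_congr rfl fun m _ => mul_comm _ _
    rw [hl, hr]
    refine congrFun ?_ a
    simp only [hxn, Finset.smul_sum, smul_smul]
    rw [Finset.sum_comm]
    refine Finset.sum_congr rfl fun j _ => ?_
    rw [← Finset.sum_smul, hred _ (hroot j) i]
  refine ⟨hA, ?_⟩
  have hAn : ∀ n : ℕ, R (z ^ n) * P = P * ((toMat cM) ^ n).map (incl K) := by
    intro n
    induction n with
    | zero => rw [pow_zero, pow_zero, map_one, one_mul, Matrix.map_one _ (map_zero _) (map_one _), mul_one]
    | succ n ih =>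
      rw [pow_succ, map_mul, mul_assoc, hA, ← mul_assoc, ih, pow_succ, mul_assoc, ← Matrix.map_mul]
  have hfix : (R u).mulVec x = x := by
    show (R u).mulVec (∑ j ∈ Finset.range 11, vec j) = ∑ j ∈ Finset.range 11, vec j
    rw [Matrix.mulVec_sum]
    have h1 : ∀ j, (R u).mulVec (vec j) = vec (j + 1) := fun j => by
      show (R u).mulVec ((R (u ^ j)).mulVec v) = (R (u ^ (j + 1))).mulVec v
      rw [pow_succ', map_mul, ← mulVec_mulVec]
    rw [Finset.sum_congr rfl fun j _ => h1 j]
    have h11 : vec 11 = vec 0 := by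
      show (R (u ^ 11)).mulVec v = (R (u ^ 0)).mulVec v
      rw [hu, pow_zero]
    rw [Finset.sum_range_succ, h11, Finset.sum_range_succ' vec 10]
  refine Matrix.ext fun a i => ?_
  have hzu : u * z ^ (i : ℕ) = z ^ (2 * (i : ℕ)) * u := by
    rw [pow_mul, ← huz, conj_pow, inv_mul_cancel_right]
  have hl : (R u * P) a i = (R (z ^ (2 * (i : ℕ)))).mulVec x a := by
    have : (R (u * z ^ (i : ℕ))).mulVec x = (R (z ^ (2 * (i : ℕ)))).mulVec x := by
      rw [hzu, map_mul, ← mulVec_mulVec, hfix]
    rw [← congrFun this a, map_mul, ← mulVec_mulVec]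
    rfl
  have hx : (R (z ^ (2 * (i : ℕ)))).mulVec x a = (R (z ^ (2 * (i : ℕ))) * P) a 0 := by
    rw [Matrix.mul_apply]
    show ∑ m, R (z ^ (2 * (i : ℕ))) a m * x m =
      ∑ m, R (z ^ (2 * (i : ℕ))) a m * (R (z ^ ((0 : Fin 11) : ℕ))).mulVec x m
    rw [Fin.val_zero, pow_zero, map_one, one_mulVec]
  rw [hl, hx, hAn, Matrix.mul_apply, Matrix.mul_apply]
  refine Finset.sum_congr rfl fun m _ => ?_
  congr 1
  have hb := List.all_eq_true.1 basis_check _ (List.mem_range.2 i.2)
  simp only [Bool.and_eq_true, beq_iff_eq] at hb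
  rw [Matrix.map_apply, Matrix.map_apply, ← toMat_powB 5 cM (2 * (i : ℕ)) (by omega)]
  show incl K _ = incl K (bit (uM.getD (i : ℕ) 0) m)
  rw [hb.2, bit_app]
  simp [bit_one]

/-- The representation over the field with two elements. -/
theorem exists_binary (R : G →* Matrix (Fin 11) (Fin 11) K) (hinj : Function.Injective R)
    (htr : ∀ g, trace (R g) = 0 ∨ trace (R g) = 1)
    (hsum : ∀ z : G, orderOf z = 23 → ∑ j ∈ Finset.range 23, R z ^ j = 0)
    {z u : G} (hz : orderOf z = 23) (hu : orderOf u = 11) (huz : u * z * u⁻¹ = z ^ 2) :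
    ∃ (z' : G) (S : G →* M11), orderOf z' = 23 ∧ u * z' * u⁻¹ = z' ^ 2 ∧ Function.Injective S ∧
      S z' = toMat cM ∧ S u = toMat uM := by
  classical
  obtain ⟨z', w, v, hzz, hv, hmv, hp, h23, hw1⟩ := exists_eigen R (hsum z hz)
  have hz' : orderOf z' = 23 := by rcases hzz with rfl | rfl <;> simp [hz]
  have huz' : u * z' * u⁻¹ = z' ^ 2 := by
    rcases hzz with rfl | rfl
    · exact huz
    · rw [inv_pow, ← huz]; group
  obtain ⟨P, hC, hU⟩ := exists_basis R (hz' ▸ pow_orderOf_eq_one z') (hu ▸ pow_orderOf_eq_one u) huz'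
    hv hmv hp h23 hw1
  let X : G →* Matrix (Fin 11) (Fin 11) K :=
    { toFun := fun g => (↑P⁻¹ : Matrix (Fin 11) (Fin 11) K) * R g * P
      map_one' := by simp
      map_mul' := fun a b => by
        rw [map_mul]
        simp [mul_assoc] }
  have hXdef : ∀ g, X g = (↑P⁻¹ : Matrix (Fin 11) (Fin 11) K) * R g * P := fun g => rfl
  have hXz : X z' = (toMat cM).map (incl K) := by rw [hXdef, mul_assoc, hC, Units.inv_mul_cancel_left]
  have hXu : X u = (toMat uM).map (incl K) := by rw [hXdef, mul_assoc, hU, Units.inv_mul_cancel_left]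
  have hXtr : ∀ g, trace (X g) = 0 ∨ trace (X g) = 1 := fun g => by
    rw [hXdef, trace_units_conj']; exact htr g
  have hfix : ∀ a : ZMod 2, incl K a ^ 2 = incl K a := fun a => by
    rw [← map_pow]; congr 1; revert a; decide
  let fr : K →+* K := frobenius K 2
  have hentry : ∀ g a b, X g a b = 0 ∨ X g a b = 1 := by
    intro g
    have hΔ : (X g).map fr - X g = 0 := by
      refine eq_zero_of_trace _ fun i j => ?_
      have hM : (toMat cM ^ i * toMat uM ^ j).map (incl K) = X (z' ^ i * u ^ j) := by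
        rw [map_mul, map_pow, map_pow, hXz, hXu]
        exact (map_mul (incl K).mapMatrix _ _).trans (by rw [map_pow, map_pow]; rfl)
      have hMfix : (X (z' ^ i * u ^ j)).map fr = X (z' ^ i * u ^ j) := by
        rw [← hM]
        exact Matrix.ext fun a b => by simp only [Matrix.map_apply, fr, frobenius_def, hfix]
      rw [hM, sub_mul, trace_sub, sub_eq_zero]
      conv_lhs => rw [← hMfix]
      have htf : ∀ M : Matrix (Fin 11) (Fin 11) K, trace (M.map fr) = fr (trace M) := fun M => by
        simp [Matrix.trace, map_sum]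
      rw [← Matrix.map_mul, htf, ← map_mul X]
      rcases hXtr (g * (z' ^ i * u ^ j)) with h | h <;> rw [h] <;> simp only [map_zero, map_one]
    intro a b
    have h := congrFun (congrFun (sub_eq_zero.1 hΔ) a) b
    simp only [Matrix.map_apply, fr, frobenius_def] at h
    rcases eq_or_ne (X g a b) 0 with h0 | h0
    · exact Or.inl h0
    · exact Or.inr (mul_left_cancel₀ h0 (by rw [mul_one, ← pow_two]; exact h))
  let S₀ : G → M11 := fun g => Matrix.of fun a b => if X g a b = 0 then 0 else 1
  have hS : ∀ g, (incl K).mapMatrix (S₀ g) = X g := fun g => Matrix.ext fun a b => by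
    show incl K (if X g a b = 0 then 0 else 1) = X g a b
    rcases hentry g a b with h | h <;> simp [h]
  have hmi : Function.Injective ((incl K).mapMatrix : M11 →+* Matrix (Fin 11) (Fin 11) K) :=
    Matrix.map_injective (incl_injective K)
  let S : G →* M11 :=
    { toFun := S₀
      map_one' := hmi (by rw [hS, map_one, map_one])
      map_mul' := fun a b => hmi (by rw [hS, map_mul, map_mul, hS, hS]) }
  refine ⟨z', S, hz', huz', fun a b h => hinj ?_, hmi ?_, hmi ?_⟩
  · have := congrArg (incl K).mapMatrix h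
    change (incl K).mapMatrix (S₀ a) = (incl K).mapMatrix (S₀ b) at this
    rw [hS, hS, hXdef, hXdef] at this
    exact (Units.mul_right_inj _).1 ((Units.mul_left_inj _).1 this)
  · exact (hS z').trans hXz
  · exact (hS u).trans hXu

end Closed

end Cfsg.Agent.M23Order
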