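import Mathlib

/-!
# Square matrices of size eleven over the field with two elements, as lists of columns

A column is the natural number with the entries as binary digits.
-/

set_option autoImplicit false

namespace Cfsg.Agent.M23Order.BitMat

/-- Eleven by eleven matrices over the field with two elements. -/
abbrev M11 := Matrix (Fin 11) (Fin 11) (ZMod 2)

/-- A binary digit as an element of the field. -/
def bit (v i : ℕ) : ZMod 2 := if v.testBit i then 1 else 0

theorem bit_zero (i : ℕ) : bit 0 i = 0 := by simp [bit]

theorem bit_xor (a b i : ℕ) : bit (a ^^^ b) i = bit a i + bit b i := by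
  unfold bit
  rw [Nat.testBit_xor]
  cases a.testBit i <;> cases b.testBit i <;> rfl

/-- The matrix of a list of columns. -/
def toMat (a : List ℕ) : M11 := Matrix.of fun i j => bit (a.getD (j : ℕ) 0) i

/-- The vector of a number. -/
def toVec (v : ℕ) : Fin 11 → ZMod 2 := fun i => bit v i

/-- The sum of the first `n` columns selected by a vector. -/
def appN : ℕ → List ℕ → ℕ → ℕ
  | 0, _, _ => 0
  | n + 1, a, v => if v.testBit n then a.getD n 0 ^^^ appN n a v else appN n a v

/-- The image of a vector. -/
def app (a : List ℕ) (v : ℕ) : ℕ := appN 11 a v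

/-- The product. -/
def mulB (a b : List ℕ) : List ℕ := b.map (app a)

theorem bit_appN (a : List ℕ) (v i : ℕ) :
    ∀ n, bit (appN n a v) i = ∑ m ∈ Finset.range n, bit (a.getD m 0) i * bit v m
  | 0 => by simp [appN, bit_zero]
  | n + 1 => by
    rw [Finset.sum_range_succ, ← bit_appN a v i n, appN]
    by_cases h : v.testBit n
    · rw [if_pos h, bit_xor, show bit v n = 1 from if_pos h, mul_one, add_comm]
    · rw [if_neg h, show bit v n = 0 from if_neg h, mul_zero, add_zero]

theorem app_zero (a : List ℕ) : app a 0 = 0 := by
  simp [app, appN]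

theorem bit_app (a : List ℕ) (v : ℕ) (i : Fin 11) :
    bit (app a v) i = ∑ m : Fin 11, toMat a i m * bit v m := by
  rw [app, bit_appN, Finset.sum_range]
  rfl

theorem toVec_app (a : List ℕ) (v : ℕ) : toVec (app a v) = (toMat a).mulVec (toVec v) :=
  funext fun i => bit_app a v i

theorem toMat_mulB (a b : List ℕ) : toMat (mulB a b) = toMat a * toMat b := by
  refine Matrix.ext fun i j => ?_
  have h : (mulB a b).getD (j : ℕ) 0 = app a (b.getD (j : ℕ) 0) := by
    unfold mulB
    conv_lhs => rw [← app_zero a]
    exact List.getD_map _ _ _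
  rw [Matrix.mul_apply]
  show bit ((mulB a b).getD (j : ℕ) 0) i = _
  rw [h, bit_app]
  rfl

/-- The identity. -/
def oneB : List ℕ := [1, 2, 4, 8, 16, 32, 64, 128, 256, 512, 1024]

/-- Equality of the matrices. -/
def eqB (a b : List ℕ) : Bool :=
  (List.range 11).all fun j => (List.range 11).all fun i =>
    (a.getD j 0).testBit i == (b.getD j 0).testBit i

/-- Whether the second is the transpose of the first. -/
def trB (a b : List ℕ) : Bool :=
  (List.range 11).all fun j => (List.range 11).all fun i =>
    (a.getD j 0).testBit i == (b.getD i 0).testBit j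

theorem eqB_iff (a b : List ℕ) : eqB a b = true ↔ toMat a = toMat b := by
  simp only [eqB, List.all_eq_true, List.mem_range, beq_iff_eq]
  constructor
  · intro h
    exact Matrix.ext fun i j => by simp only [toMat, Matrix.of_apply, bit, h j j.2 i i.2]
  · intro h j hj i hi
    have e := congrFun (congrFun h ⟨i, hi⟩) ⟨j, hj⟩
    simp only [toMat, Matrix.of_apply, bit] at e
    revert e
    cases (a.getD j 0).testBit i <;> cases (b.getD j 0).testBit i <;> decide

theorem eq_of_eqB {a b : List ℕ} (h : eqB a b = true) : toMat a = toMat b := (eqB_iff a b).1 h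

theorem transpose_of_trB {a b : List ℕ} (h : trB a b = true) : (toMat a).transpose = toMat b := by
  simp only [trB, List.all_eq_true, List.mem_range, beq_iff_eq] at h
  exact Matrix.ext fun i j => by
    simp only [Matrix.transpose_apply, toMat, Matrix.of_apply, bit, h i i.2 j j.2]

theorem toMat_oneB : toMat oneB = 1 := by decide +kernel

/-- Powers, by repeated squaring. -/
def powB : ℕ → List ℕ → ℕ → List ℕ
  | 0, _, _ => oneB
  | f + 1, a, n =>
    if n = 0 then oneB
    else if n % 2 = 1 then mulB a (powB f (mulB a a) (n / 2))
    else powB f (mulB a a) (n / 2)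

theorem toMat_powB : ∀ (f : ℕ) (a : List ℕ) (n : ℕ), n < 2 ^ f → toMat (powB f a n) = toMat a ^ n
  | 0, a, n, h => by
    have : n = 0 := by simpa using h
    subst this
    rw [powB, toMat_oneB, pow_zero]
  | f + 1, a, n, h => by
    rw [powB]
    by_cases h0 : n = 0
    · rw [if_pos h0, h0, toMat_oneB, pow_zero]
    rw [if_neg h0]
    have ih := toMat_powB f (mulB a a) (n / 2) (by rw [pow_succ] at h; omega)
    rw [toMat_mulB, ← pow_two, ← pow_mul] at ih
    split
    · rename_i h1
      rw [toMat_mulB, ih, ← pow_succ']
      congr 1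
      omega
    · rw [ih]
      congr 1
      omega

end Cfsg.Agent.M23Order.BitMat
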