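import Cfsg.Agent.Lib.M23Order.Frame
import Cfsg.Agent.Lib.PrimeBlock.Basic

/-!
# The seventeen irreducible characters of a simple group of order 10200960

The degrees, the relations of the principal blocks at 23, 11, 7 and 5, and the values at a central
involution and on the elements of order 23 and 5, in the form the parity argument uses.
-/

set_option autoImplicit false

namespace Cfsg.Agent.M23Order

open Subgroup Cfsg.Agent.PrimeBlock Cfsg.Agent.Characters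

universe u

/-- The irreducible characters, named by their degrees. -/
structure Chars (G : Type u) [Group G] [Finite G] where
  a : Cfsg.IrrCharacter G
  b : Cfsg.IrrCharacter G
  b' : Cfsg.IrrCharacter G
  c : Cfsg.IrrCharacter G
  h : Cfsg.IrrCharacter G
  h' : Cfsg.IrrCharacter G
  h'' : Cfsg.IrrCharacter G
  d : Cfsg.IrrCharacter G
  f : Cfsg.IrrCharacter G
  f' : Cfsg.IrrCharacter G
  g : Cfsg.IrrCharacter G
  g' : Cfsg.IrrCharacter G
  k : Cfsg.IrrCharacter G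
  k' : Cfsg.IrrCharacter G
  m : Cfsg.IrrCharacter G
  n : Cfsg.IrrCharacter G
  da : deg a = 22
  db : deg b = 45
  db' : deg b' = 45
  dc : deg c = 230
  dh : deg h = 231
  dh' : deg h' = 231
  dh'' : deg h'' = 231
  dd : deg d = 253
  df : deg f = 770
  df' : deg f' = 770
  dg : deg g = 896
  dg' : deg g' = 896
  dk : deg k = 990
  dk' : deg k' = 990
  dm : deg m = 1035
  dn : deg n = 2024
  nodup : [trivIrr G, a, b, b', c, h, h', h'', d, f, f', g, g', k, k', m, n].Nodup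
  all_mem : ∀ χ, χ ∈ [trivIrr G, a, b, b', c, h, h', h'', d, f, f', g, g', k, k', m, n]
  /-- The principal 23-block. -/
  rel23 : ∀ x : G, ¬ 23 ∣ orderOf x → (f : G → ℂ) x = (f' : G → ℂ) x ∧
    (f : G → ℂ) x = 1 - (a : G → ℂ) x - (b : G → ℂ) x - (b' : G → ℂ) x + (h : G → ℂ) x +
      (h' : G → ℂ) x + (h'' : G → ℂ) x - (g : G → ℂ) x - (g' : G → ℂ) x + (k : G → ℂ) x + (k' : G → ℂ) x
  /-- The principal 11-block. -/
  rel11 : ∀ x : G, ¬ 11 ∣ orderOf x → (g : G → ℂ) x = (g' : G → ℂ) x ∧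
    (g : G → ℂ) x = 1 + (b : G → ℂ) x + (b' : G → ℂ) x + (m : G → ℂ) x - (c : G → ℂ) x
  /-- The principal 7-block. -/
  rel7 : ∀ x : G, ¬ 7 ∣ orderOf x → (k : G → ℂ) x = (k' : G → ℂ) x ∧
    (k : G → ℂ) x = 1 - (m : G → ℂ) x + (n : G → ℂ) x
  /-- The principal 5-block. -/
  rel5 : ∀ x : G, ¬ 5 ∣ orderOf x →
    (n : G → ℂ) x = 1 + (h : G → ℂ) x + (g : G → ℂ) x + (g' : G → ℂ) x
  /-- The values on the elements of order 23. -/
  val23 : ∀ z : G, orderOf z = 23 → (a : G → ℂ) z = -1 ∧ (b : G → ℂ) z = -1 ∧ (b' : G → ℂ) z = -1 ∧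
    (h : G → ℂ) z = 1 ∧ (h' : G → ℂ) z = 1 ∧ (h'' : G → ℂ) z = 1 ∧ (g : G → ℂ) z = -1 ∧
    (g' : G → ℂ) z = -1 ∧ (k : G → ℂ) z = 1 ∧ (k' : G → ℂ) z = 1 ∧
    (f : G → ℂ) z + (f' : G → ℂ) z = -1
  /-- The values on the elements of order 5. -/
  val5 : ∀ y : G, orderOf y = 5 → (h : G → ℂ) y = 1 ∧ (g : G → ℂ) y = 1 ∧ (g' : G → ℂ) y = 1 ∧
    (n : G → ℂ) y = -1
  /-- A central involution. -/
  t : G
  ord_t : orderOf t = 2
  cen_t : Nat.card (centralizer ({t} : Set G)) = 2688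
  val_t : (a : G → ℂ) t = 6 ∧ (b : G → ℂ) t = -3 ∧ (b' : G → ℂ) t = -3 ∧ (c : G → ℂ) t = 22 ∧
    (h : G → ℂ) t = 7 ∧ (h' : G → ℂ) t = 7 ∧ (h'' : G → ℂ) t = 7 ∧ (d : G → ℂ) t = 13 ∧
    (f : G → ℂ) t = -14 ∧ (f' : G → ℂ) t = -14 ∧ (g : G → ℂ) t = 0 ∧ (g' : G → ℂ) t = 0 ∧
    (k : G → ℂ) t = -18 ∧ (k' : G → ℂ) t = -18 ∧ (m : G → ℂ) t = 27 ∧ (n : G → ℂ) t = 8
  /-- The subgroups of order 5. -/
  five : ∀ y : G, orderOf y = 5 → Nat.card (centralizer ({y} : Set G)) = 15 ∧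
    Nat.card (normalizer (zpowers y : Set G)) = 60
  /-- The subgroups of order 7. -/
  seven : ∀ y : G, orderOf y = 7 → ∃ c : ℕ, c ∈ [2, 16, 128] ∧
    Nat.card (centralizer ({y} : Set G)) = 7 * c ∧
    Nat.card (normalizer (zpowers y : Set G)) = 21 * c

end Cfsg.Agent.M23Order
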