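import Cfsg.Agent.Lib.M23Order.Data

/-!
# The searches at the primes 7 and 11
-/

set_option autoImplicit false
set_option maxHeartbeats 4000000

namespace Cfsg.Agent.M23Order

theorem ec7 : ((ecList 7).all fun x => (x.2 % 11 != 0) || (x.2 % 23 == 0) ||
    (rows in23 7 x.1 x.2).isEmpty ||
    dead 7 x.1 x.2 (candList 7 x.2 in23) (rows in23 7 x.1 x.2) [] true) = true := by
  decide +kernel

/-- The centralizer orders the search at 11 leaves open. -/
def ex11 (x : ℕ × ℕ) : List ℕ :=
  if x == (2, 30) then [2640] else if x == (2, 360) then [2640, 5280] else []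

theorem ec11 : ((ecList 11).all fun x => (x.2 % 23 == 0) || (x.2 % 7 == 0) || (x == (5, 1)) ||
    (rows in23 11 x.1 x.2).isEmpty ||
    dead 11 x.1 x.2 (candList 11 x.2 in23) (rows in23 11 x.1 x.2) (ex11 x) true) = true := by
  decide +kernel

theorem rows112 : (([30, 360] : List ℕ).all fun c => rows in23 11 2 c == [[23]]) = true := by
  decide +kernel

theorem opts23 : optsP 11 2640 1 23 = [-21] := by decide +kernel

end Cfsg.Agent.M23Order
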