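import Cfsg.Agent.Lib.M23Order.Data

/-!
# Five members of degree 24 in the principal 23-block, centralizer of order 2640
-/

set_option autoImplicit false
set_option maxHeartbeats 4000000

namespace Cfsg.Agent.M23Order

theorem scan24_2640_0 : scan24 ((rows24.drop 0).take 81) 2640 = true := by
  decide +kernel

theorem scan24_2640_1 : scan24 ((rows24.drop 81).take 81) 2640 = true := by
  decide +kernel

theorem scan24_2640_2 : scan24 ((rows24.drop 162).take 81) 2640 = true := by
  decide +kernel

theorem scan24_2640_3 : scan24 ((rows24.drop 243).take 81) 2640 = true := by
  decide +kernel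

theorem scan24_len : rows24.length = 323 := by decide +kernel

theorem not_5280 : (divs.all fun m => (7920 % m != 0) || (5280 % m != 0) || (m % 16 != 0) ||
    (m % 11 != 0) || (5280 / m % 11 != 1)) = true := by
  decide +kernel

end Cfsg.Agent.M23Order
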