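import Cfsg.Agent.Lib.M23Order.TwentyThree
import Cfsg.Agent.Lib.M23Order.Scan11
import Cfsg.Agent.Lib.M23Order.Scan24

/-!
# Simple groups of order 10200960: the Sylow 11-subgroups are their own centralizers
-/

set_option autoImplicit false
set_option linter.style.haveILetI false
set_option linter.unusedSectionVars false

namespace Cfsg.Agent.M23Order

open Subgroup
open Cfsg.Agent.Characters Cfsg.Agent.Blocks Cfsg.Agent.PrimeBlock
open Cfsg.Agent.SmallSimple
open Cfsg.Agent.M12Order (cen iv iv_spec exists_central_inv)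
open Cfsg.Agent.M22Order (PRow Row combs combs_complete exists_perm_map forceLL_eq forceL_eq
  forceI_eq forceN_eq sqSum not_dvd_cen sylow_centralizer_eq dvd_deg_of_notMem)

universe u

variable {G : Type u} [Group G] [Finite G] [IsSimpleGroup G] (hcard : Nat.card G = 10200960)

include hcard

theorem card_centralizer_twentythree (P : Sylow 23 G) :
    Nat.card (centralizer ((P : Subgroup G) : Set G)) = 23 := by
  obtain ⟨D, ht, hts⟩ := exists_pblock' (not_comm hcard) (by norm_num) P
    (card_sylow hcard (q := 23) (Or.inr (Or.inr (Or.inr rfl))) P)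
  exact (sylow_twentythree hcard P D ht hts).2.1

theorem not_dvd_cen_23 {g : G} (hg : g ≠ 1) (h : ¬ 23 ∣ orderOf g) : ¬ 23 ∣ cen g :=
  not_dvd_cen (card_centralizer_twentythree hcard)
    (fun Q => card_sylow hcard (q := 23) (Or.inr (Or.inr (Or.inr rfl))) Q) hg h

theorem not_dvd_index_23 {p : ℕ} [Fact p.Prime] (hp : p = 5 ∨ p = 7 ∨ p = 11) {P : Sylow p G}
    {c : ℕ} (hC : Nat.card (centralizer ((P : Subgroup G) : Set G)) = p * c) (D : PBlock P) :
    c % 23 ≠ 0 := fun h => by
  obtain ⟨x, hx1, hx⟩ := D.exists_ne_one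
  refine not_dvd_cen_23 hcard hx1 (by
    rw [D.orderOf_eq hx hx1]; rcases hp with rfl | rfl | rfl <;> norm_num) ?_
  rw [cen, sylow_centralizer_eq D.card_P hx hx1, hC]
  exact (Nat.dvd_of_mod_eq_zero h).mul_left p

/-- Eleven divides no centralizer of a Sylow 7-subgroup. -/
theorem eleven_not_dvd_centralizer_seven (Q : Sylow 7 G) :
    ¬ 11 ∣ Nat.card (centralizer ((Q : Subgroup G) : Set G)) := by
  have hp : (7 : ℕ) = 5 ∨ (7 : ℕ) = 7 ∨ (7 : ℕ) = 11 ∨ (7 : ℕ) = 23 := by omega
  obtain ⟨D, ht, hts⟩ := exists_pblock' (not_comm hcard) (by norm_num) Q (card_sylow hcard hp Q)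
  obtain ⟨c, hc, hN, -, hmem⟩ := sylow_params hcard hp D
  intro h11
  rw [hc] at h11
  have h11c : c % 11 = 0 := Nat.mod_eq_zero_of_dvd
    (((show Nat.Prime 11 by norm_num).dvd_mul.1 h11).resolve_left (by norm_num))
  obtain ⟨R, hR⟩ := exists_prow hcard hp ht hts hc in23 fun χ _ hne => deg_in23 hcard hne
  have h23 := not_dvd_index_23 hcard (Or.inr (Or.inl rfl)) hc D
  have key := List.all_eq_true.1 ec7 (D.e, c) hmem
  simp only [Bool.or_eq_true, bne_iff_ne, ne_eq, beq_iff_eq, List.isEmpty_iff] at key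
  rcases key with ((h | h) | h) | h
  · exact h h11c
  · exact h23 h
  · rw [h] at hR; exact absurd hR (by simp)
  · obtain ⟨t, ht', htC⟩ := exists_inv_centralizer hc (even_of_dead h)
    exact absurd (dead_apply hcard hp hc hN R (mem_of_mem_rows hR) hR h ht' htC) (by simp)

/-- The five characters of degree 24 do not exist. -/
theorem not_thirty {P : Sylow 11 G} {D : PBlock P} (R : PRow D) (he : D.e = 2) {c a : ℕ}
    (hca : (c = 30 ∧ a = 2) ∨ (c = 360 ∧ a = 4))
    (hC : Nat.card (centralizer ((P : Subgroup G) : Set G)) = 11 * c)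
    (hN : Nat.card (normalizer ((P : Subgroup G) : Set G)) = 11 * c * D.e)
    (hM : R.M = [23]) (hR : R.M ∈ rows in23 11 D.e c) : False := by
  classical
  have hG := not_comm hcard
  have hp : (11 : ℕ) = 5 ∨ (11 : ℕ) = 7 ∨ (11 : ℕ) = 11 ∨ (11 : ℕ) = 23 := by omega
  obtain ⟨x, hx1, hx⟩ := D.exists_ne_one
  have hz : zpowers x = (P : Subgroup G) := D.zpowers_eq hx hx1
  obtain ⟨t, ht, hct, S, hS, hSN, hSC⟩ := exists_central_inv (u := x) (a := a)
    (by rw [cen, sylow_centralizer_eq D.card_P hx hx1, hC]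
        rcases hca with ⟨rfl, -⟩ | ⟨rfl, -⟩ <;> norm_num)
    (by rw [hz, hN, he]; rcases hca with ⟨rfl, rfl⟩ | ⟨rfl, rfl⟩ <;> norm_num)
  have htC : t ∈ centralizer ((P : Subgroup G) : Set G) := by
    rw [← sylow_centralizer_eq D.card_P hx hx1, mem_centralizer_singleton_iff]; exact hct.eq.symm
  have hcen : cen t = 2640 := by
    have hmem : (D.e, c) ∈ ecList 11 := by
      obtain ⟨c', hc', -, -, hm⟩ := sylow_params hcard hp D
      rwa [Nat.eq_of_mul_eq_mul_left (by norm_num) (hc'.symm.trans hC)] at hm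
    have key := List.all_eq_true.1 ec11 (D.e, c) hmem
    have h23 := not_dvd_index_23 hcard (Or.inr (Or.inr rfl)) hC D
    simp only [Bool.or_eq_true, beq_iff_eq, List.isEmpty_iff, Prod.mk.injEq] at key
    rcases key with (((h | h) | h) | h) | h
    · exact absurd h h23
    · rcases hca with ⟨rfl, -⟩ | ⟨rfl, -⟩ <;> norm_num at h
    · omega
    · rw [h] at hR; exact absurd hR (by simp)
    · have hd := dead_apply hcard hp hC hN R (mem_of_mem_rows hR) hR h ht htC
      rcases hca with ⟨rfl, -⟩ | ⟨rfl, rfl⟩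
      · rw [he] at hd; simpa [ex11] using hd
      · rw [he] at hd
        have hd' : cen t = 2640 ∨ cen t = 5280 := by simpa [ex11] using hd
        refine hd'.resolve_right fun h5 => ?_
        obtain ⟨m, hmp, hmn, hmC, hmod, hmS⟩ := exists_norm_inter hcard hp hN htC
        have h16 : 16 ∣ m := by
          have := hmS S (hz ▸ hSN) hSC; rwa [hS] at this
        have k := List.all_eq_true.1 not_5280 m (mem_divs (hmC.trans (cen_dvd hcard t)))
        rw [h5] at hmC hmod
        rw [he] at hmn
        simp [Nat.mod_eq_zero_of_dvd hmn, Nat.mod_eq_zero_of_dvd hmC, Nat.mod_eq_zero_of_dvd h16,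
          Nat.mod_eq_zero_of_dvd hmp, hmod] at k
  obtain ⟨χ₀, hcs⟩ := List.length_eq_one_iff.1 (R.len_cs.trans (by rw [he]))
  rw [Row.M, hcs, List.map_singleton, List.cons.injEq] at hM
  obtain ⟨hopt, -⟩ := optsP_iv hcard ht (by norm_num) R htC
  have hu := hopt χ₀ (by simp [hcs])
  rw [hM.1, hcen, opts23, List.mem_singleton] at hu
  have hw := R.w_eq χ₀ (by simp [hcs])
  have hd0 : deg χ₀ = 23 := by rcases hw with e | e <;> rw [e] at hM <;> omega
  have hv0 : iv t χ₀ * iv t χ₀ = 441 := by rcases hw with e | e <;> rw [e] at hu <;> nlinarith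
  have hnt : ¬ 11 ∣ orderOf t := by rw [ht]; norm_num
  have hrel := R.relV hnt (f := iv t) fun χ _ => iv_spec hG ht χ
  have hθs : ∀ θ ∈ R.ys, deg θ = 24 ∧ iv t θ = -20 := by
    intro θ hθ
    have h1 := R.rel θ hθ
    have h2 := hrel θ hθ
    rw [hcs, List.map_singleton, List.sum_singleton] at h1
    rw [Row.us, hcs, List.map_singleton, List.sum_singleton, hu] at h2
    rw [hM.1] at h1
    rcases R.δ_eq with e | e <;> rw [e] at h1 h2 <;> constructor <;> omega
  obtain ⟨P', D', R', hC', hN', he', hK'⟩ := exists_row_twentythree hcard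
  have hp' : (23 : ℕ) = 5 ∨ (23 : ℕ) = 7 ∨ (23 : ℕ) = 11 ∨ (23 : ℕ) = 23 := by omega
  have hin : ∀ θ ∈ R.ys, θ ∈ R'.cs ∧ R'.w θ = 1 := by
    intro θ hθ
    have hdθ := (hθs θ hθ).1
    rcases List.mem_append.1 (R'.mem_all_of_not_dvd hC' (R.ne_triv (List.mem_append_right _ hθ))
      (by rw [hdθ]; norm_num)) with h | h
    · refine ⟨h, (R'.w_eq θ h).resolve_right fun e => ?_⟩
      have := R'.cong_cs θ h
      rw [e, hdθ] at this; omega
    · have := R'.cong_ys θ h
      rw [he', hdθ] at this
      rcases R'.δ_eq with e | e <;> rw [e] at this <;> omega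
  set rest := R'.cs.filter fun χ => decide (χ ∉ R.ys) with hrest
  have hndR : R.ys.Nodup := (List.nodup_append.1 R.nodup).2.1
  have hndR' : R'.cs.Nodup := (List.nodup_append.1 R'.nodup).1
  have hperm : (R.ys ++ rest).Perm R'.cs := by
    refine List.perm_of_nodup_nodup_toFinset_eq (List.nodup_append.2 ⟨hndR, hndR'.filter _,
      fun a ha b hb e => ?_⟩) hndR' ?_
    · rw [List.mem_filter, decide_eq_true_eq] at hb; exact hb.2 (e ▸ ha)
    · ext χ
      simp only [List.mem_toFinset, List.mem_append, hrest, List.mem_filter, decide_eq_true_eq]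
      exact ⟨fun h => h.elim (fun h' => (hin χ h').1) (fun h' => h'.1), fun h =>
        (em (χ ∈ R.ys)).imp id fun h' => ⟨h, h'⟩⟩
  have hlen : rest.length = 5 := by
    have := hperm.length_eq
    rw [List.length_append, R.len_ys, R'.len_cs, he, he'] at this
    omega
  have hp23 : ∀ χ ∈ R'.cs, R'.w χ * (deg χ : ℤ) ∈ cand23 := by
    intro χ hχ
    have hm : χ ∈ R'.all := List.mem_append_left _ hχ
    rw [← cand23_eq]
    refine mem_candList hcard (R'.ne_triv hm)
      (dOK_of_mem hcard D' (c := 1) (by rw [hC']) (by norm_num) (R'.mem_block hm) (R'.ne_triv hm))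
      rfl (R'.w_eq χ hχ) ?_
    have := R'.cong_cs χ hχ
    omega
  obtain ⟨M5, hM5, hperm5⟩ := combs_complete cand23 (rest.map fun χ => R'.w χ * (deg χ : ℤ))
    fun z hz => by
      obtain ⟨χ, hχ, rfl⟩ := List.mem_map.1 hz
      exact hp23 χ (List.mem_filter.1 hχ).1
  rw [List.length_map, hlen] at hM5
  obtain ⟨l', hl', hlM⟩ := exists_perm_map hperm5
  set R'' := R'.perm ((hl'.append_left R.ys).trans hperm) with hR''
  have hcs'' : R''.cs = R.ys ++ l' := rfl
  have hys24 : R.ys.map (fun χ => R'.w χ * (deg χ : ℤ)) = List.replicate 5 24 := by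
    refine List.eq_replicate_iff.2 ⟨by rw [List.length_map, R.len_ys, he], fun b hb => ?_⟩
    obtain ⟨θ, hθ, rfl⟩ := List.mem_map.1 hb
    rw [(hin θ hθ).2, (hθs θ hθ).1]; norm_num
  have hM'' : R''.M = List.replicate 5 24 ++ M5 := by
    show (R.ys ++ l').map (fun χ => R'.w χ * (deg χ : ℤ)) = _
    rw [List.map_append, hys24, hlM]
  obtain ⟨θ', hθ'⟩ := List.exists_mem_of_ne_nil _ R''.ys_ne
  have hl : 121 + M5.sum = R''.δ * (deg θ' : ℤ) := by
    have h := R''.rel θ' hθ'
    rw [show (R''.cs.map fun χ => R''.w χ * (deg χ : ℤ)) = R''.M from rfl, hM'', List.sum_append,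
      List.sum_replicate, nsmul_eq_mul] at h
    push_cast at h
    linarith
  have hall'' : θ' ∈ R''.all := List.mem_append_right _ hθ'
  have hmem24 : M5 ∈ rows24 := by
    refine List.mem_filter.2 ⟨hM5, ?_⟩
    simp only [forceI_eq, forceN_eq, Bool.and_eq_true, beq_iff_eq, decide_eq_true_eq,
      List.contains_iff_mem]
    have habs : (121 + M5.sum).natAbs = deg θ' := by
      rw [hl, Row.natAbs_signed R''.δ_eq, Int.natAbs_natCast]
    refine ⟨⟨?_, habs ▸ deg_mem hcard (R''.ne_triv hall'')⟩, ?_⟩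
    · have := R''.cong_ys θ' hθ'
      rw [he', ← hl] at this
      omega
    · have h := deg_sq_le hcard (l := R''.all) R''.nodup fun h => R''.ne_triv h rfl
      rw [Row.all, List.map_append, List.sum_append] at h
      have h1 : (R''.cs.map fun χ => (deg χ : ℤ) * (deg χ : ℤ)).sum = sqSum R''.M := by
        rw [sqSum, Row.M, List.map_map]
        refine congrArg List.sum (List.map_congr_left fun χ hχ => ?_)
        rcases R''.w_eq χ hχ with e | e <;> simp [e]
      have h2 : (R''.ys.map fun χ => (deg χ : ℤ) * (deg χ : ℤ)) =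
          List.replicate 2 ((121 + M5.sum) * (121 + M5.sum)) := by
        refine List.eq_replicate_iff.2 ⟨by rw [List.length_map, R''.len_ys, he'], fun b hb => ?_⟩
        obtain ⟨θ, hθ, rfl⟩ := List.mem_map.1 hb
        have e1 : (deg θ : ℤ) = (deg θ' : ℤ) := by
          have a1 := R''.rel θ hθ
          rw [← R''.rel θ' hθ'] at a1
          rcases R''.δ_eq with e | e <;> rw [e] at a1 <;> linarith
        rw [hl, e1]
        rcases R''.δ_eq with e | e <;> rw [e] <;> ring
      rw [h1, h2, hM''] at h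
      simp only [sqSum, List.map_append, List.map_replicate, List.sum_append, List.sum_replicate,
        nsmul_eq_mul] at h ⊢
      push_cast at h
      linarith
  have hscan : ∀ k : ℕ, ∀ L : List (List ℤ), scan24 L 2640 = true → M5 ∈ L → False := by
    intro _ L h hmem
    simp only [scan24, forceLL_eq, forceL_eq, forceI_eq, List.all_eq_true] at h
    have hk := h M5 hmem
    have hu' : List.Forall₂ (fun u l => u ∈ l) (R''.us (iv t))
        (List.replicate 5 [-20] ++ M5.map (lookOpt cand23 (cand23.map (opts 2640)))) := by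
      have e5 : List.replicate 5 ([-20] : List ℤ) = R.ys.map fun _ => [-20] :=
        (List.eq_replicate_iff.2 ⟨by rw [List.length_map, R.len_ys, he], by simp⟩).symm
      rw [Row.us, hcs'', List.map_append, e5, ← hlM, List.map_map]
      refine List.rel_append ?_ ?_
      · rw [List.forall₂_map_left_iff, List.forall₂_map_right_iff, List.forall₂_same]
        intro θ hθ
        show R'.w θ * iv t θ ∈ _
        rw [(hin θ hθ).2, (hθs θ hθ).2]; norm_num
      · rw [List.forall₂_map_left_iff, List.forall₂_map_right_iff, List.forall₂_same]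
        intro χ hχ
        have hχ' : χ ∈ R'.cs := (List.mem_filter.1 (hl'.mem_iff.1 hχ)).1
        show R'.w χ * iv t χ ∈ _
        rw [Function.comp_apply, lookOpt_map _ (hp23 χ hχ'), ← hcen]
        exact opts_iv hcard ht (R'.ne_triv (List.mem_append_left _ hχ')) (R'.w_eq χ hχ')
    have hnd23 : ¬ 23 ∣ orderOf t := by rw [ht]; norm_num
    have hrel'' := R''.relV hnd23 (f := iv t) fun χ _ => iv_spec hG ht χ
    have hsq := us_sq_le hcard ht (by norm_num) R'' (l := [χ₀]) (E := 441)
      (List.nodup_append.2 ⟨R''.nodup, List.nodup_singleton _, fun a ha b hb e => by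
        rw [List.mem_singleton] at hb
        exact R''.not_dvd_deg ha (by rw [e, hb, hd0])⟩)
      (by simpa using (R.ne_triv (χ := χ₀) (List.mem_append_left _ (by simp [hcs]))).symm)
      (by simp [hv0])
    rw [R''.len_ys, he', hcen] at hsq
    have hg := allV_spec hk hu' (by
        rw [← hrel'' θ' hθ', hl, ← hcen]
        exact opts_iv hcard ht (R''.ne_triv hall'') R''.δ_eq)
      (by norm_num at hsq ⊢; omega)
    have hq := quadOK_iv hcard R'' (c := 1) (by rw [hC']) ht (by norm_num)
    rw [hM''] at hq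
    simp only [quadOK, he'] at hq
    simp only [bne_iff_ne, ne_eq] at hg
    exact hg (by simpa using hq)
  have hsplit : rows24 = rows24.take 81 ++ (rows24.drop 81).take 81 ++ (rows24.drop 162).take 81 ++
      (rows24.drop 243).take 81 := by
    conv_lhs => rw [← List.take_append_drop 81 rows24, ← List.take_append_drop 81 (rows24.drop 81),
      List.drop_drop, ← List.take_append_drop 81 (rows24.drop (81 + 81)), List.drop_drop]
    rw [List.take_of_length_le (l := rows24.drop 243) (by rw [List.length_drop, scan24_len]; omega)]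
    simp [List.append_assoc]
  rw [hsplit] at hmem24
  simp only [List.mem_append] at hmem24
  rcases hmem24 with ((h | h) | h) | h
  · exact hscan 0 _ scan24_2640_0 (by simpa using h)
  · exact hscan 1 _ scan24_2640_1 h
  · exact hscan 2 _ scan24_2640_2 h
  · exact hscan 3 _ scan24_2640_3 h

/-- **The Sylow 11-subgroups are their own centralizers, of index five in their normalizers.** -/
theorem sylow_eleven (P : Sylow 11 G) (D : PBlock P) (ht : trivIrr G ∈ D.X)
    (hts : D.sgn (trivIrr G) = 1) : D.e = 5 ∧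
      Nat.card (centralizer ((P : Subgroup G) : Set G)) = 11 ∧
      Nat.card (normalizer ((P : Subgroup G) : Set G)) = 55 := by
  have hp : (11 : ℕ) = 5 ∨ (11 : ℕ) = 7 ∨ (11 : ℕ) = 11 ∨ (11 : ℕ) = 23 := by omega
  obtain ⟨c, hc, hN, -, hmem⟩ := sylow_params hcard hp D
  obtain ⟨R, hR⟩ := exists_prow hcard hp ht hts hc in23 fun χ _ hne => deg_in23 hcard hne
  have h23 := not_dvd_index_23 hcard (Or.inr (Or.inr rfl)) hc D
  have h7 : c % 7 ≠ 0 := by
    intro h
    obtain ⟨x, hx1, hx⟩ := D.exists_ne_one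
    have hcx : 7 ∣ cen x := by
      rw [cen, sylow_centralizer_eq D.card_P hx hx1, hc]
      exact (Nat.dvd_of_mod_eq_zero h).mul_left 11
    obtain ⟨⟨y, hyC⟩, hy⟩ := exists_prime_orderOf_dvd_card' (G := centralizer ({x} : Set G)) 7 hcx
    rw [Subgroup.orderOf_mk] at hy
    obtain ⟨Q, hQ⟩ := exists_sylow_eq hcard (q := 7) (Or.inr (Or.inl rfl)) hy
    refine eleven_not_dvd_centralizer_seven hcard Q ?_
    have hxQ : x ∈ centralizer ((Q : Subgroup G) : Set G) := by
      rw [hQ, zpowers_eq_closure, centralizer_closure, mem_centralizer_singleton_iff]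
      exact (mem_centralizer_singleton_iff.1 hyC).symm
    have h11 := orderOf_dvd_natCard (⟨x, hxQ⟩ : centralizer ((Q : Subgroup G) : Set G))
    rwa [Subgroup.orderOf_mk, D.orderOf_eq hx hx1] at h11
  have key := List.all_eq_true.1 ec11 (D.e, c) hmem
  simp only [Bool.or_eq_true, beq_iff_eq, Prod.mk.injEq, List.isEmpty_iff] at key
  rcases key with (((h | h) | ⟨he, hc1⟩) | h) | h
  · exact absurd h h23
  · exact absurd h h7
  · rw [hc1] at hc hN; rw [he] at hN
    exact ⟨he, hc, hN⟩
  · rw [h] at hR; exact absurd hR (by simp)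
  · exfalso
    by_cases hex : D.e = 2 ∧ (c = 30 ∨ c = 360)
    · have hM : R.M = [23] := by
        have hl := List.all_eq_true.1 rows112 c (by simpa using hex.2)
        rw [hex.1, beq_iff_eq.1 hl, List.mem_singleton] at hR
        exact hR
      rcases hex.2 with h30 | h360
      · exact not_thirty hcard R hex.1 (Or.inl ⟨h30, rfl⟩) hc hN hM hR
      · exact not_thirty hcard R hex.1 (Or.inr ⟨h360, rfl⟩) hc hN hM hR
    · obtain ⟨t, ht', htC⟩ := exists_inv_centralizer hc (even_of_dead h)
      have hd := dead_apply hcard hp hc hN R (mem_of_mem_rows hR) hR h ht' htC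
      have he0 : ex11 (D.e, c) = [] := by
        unfold ex11
        rw [if_neg, if_neg] <;> simp only [beq_iff_eq, Prod.mk.injEq] <;> tauto
      rw [he0] at hd; simp at hd

theorem card_centralizer_eleven (P : Sylow 11 G) :
    Nat.card (centralizer ((P : Subgroup G) : Set G)) = 11 := by
  obtain ⟨D, ht, hts⟩ := exists_pblock' (not_comm hcard) (by norm_num) P
    (card_sylow hcard (q := 11) (Or.inr (Or.inr (Or.inl rfl))) P)
  exact (sylow_eleven hcard P D ht hts).2.1

theorem not_dvd_cen_11 {g : G} (hg : g ≠ 1) (h : ¬ 11 ∣ orderOf g) : ¬ 11 ∣ cen g :=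
  not_dvd_cen (card_centralizer_eleven hcard)
    (fun Q => card_sylow hcard (q := 11) (Or.inr (Or.inr (Or.inl rfl))) Q) hg h

/-- A row of the principal 11-block. -/
theorem exists_row_eleven : ∃ (P : Sylow 11 G) (D : PBlock P) (R : PRow D),
    Nat.card (centralizer ((P : Subgroup G) : Set G)) = 11 ∧
    Nat.card (normalizer ((P : Subgroup G) : Set G)) = 55 ∧ D.e = 5 ∧ R.ys.length = 2 ∧
    trivIrr G ∈ D.X ∧ D.sgn (trivIrr G) = 1 := by
  obtain ⟨P⟩ : Nonempty (Sylow 11 G) := inferInstance
  obtain ⟨D, ht, hts⟩ := exists_pblock' (not_comm hcard) (by norm_num) P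
    (card_sylow hcard (q := 11) (Or.inr (Or.inr (Or.inl rfl))) P)
  obtain ⟨he, hC, hN⟩ := sylow_eleven hcard P D ht hts
  obtain ⟨R⟩ := Cfsg.Agent.M22Order.exists_prow' ht hts
  exact ⟨P, D, R, hC, hN, he, by rw [R.len_ys, he], ht, hts⟩

/-- The degrees modulo 11. -/
theorem deg_in11 {χ : Cfsg.IrrCharacter G} (hne : χ ≠ trivIrr G) : in11 (deg χ) = true := by
  obtain ⟨P, D, R, hC, -, he, -⟩ := exists_row_eleven hcard
  simp only [in11, Bool.or_eq_true, beq_iff_eq]
  by_cases hd : 11 ∣ deg χ
  · omega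
  rcases List.mem_append.1 (R.mem_all_of_not_dvd hC hne hd) with h | h
  · have := R.cong_cs χ h
    rcases R.w_eq χ h with e | e <;> rw [e] at this <;> omega
  · have := R.cong_ys χ h
    rw [he] at this
    rcases R.δ_eq with e | e <;> rw [e] at this <;> omega

end Cfsg.Agent.M23Order
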