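import Cfsg.Agent.Lib.M23Order.Binary

/-!
# The group is determined: one candidate remains for the element of order five

Two groups satisfying `Local` and `HasRep11` have isomorphic images, generated by the same three
matrices.
-/

set_option autoImplicit false
set_option maxRecDepth 20000

namespace Cfsg.Agent.M23Order

open Matrix BitMat Model

/-- The group generated by the two generators and the first survivor. -/
def target : Submonoid M11 := Submonoid.closure {toMat cM, toMat uM, toMat m1}

theorem exists_num (x : Fin 11 → ZMod 2) : ∃ w < 2048, toVec w = x := by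
  refine ⟨Nat.ofBits (fun i => decide (x i = 1)), Nat.ofBits_lt_two_pow _, funext fun i => ?_⟩
  simp only [toVec, bit]
  rw [Nat.testBit_ofBits_lt _ _ i.2]
  generalize x i = a
  revert a
  decide

theorem bit_col (a : List ℕ) (j : Fin 11) : (fun i => toMat a i j) = toVec (a.getD (j : ℕ) 0) := rfl

/-- A matrix cubing the Frobenius map by conjugation is given by one column. -/
theorem eq_vOf {V : M11} (h : V * toMat uM = toMat uM ^ 3 * V) {w : ℕ}
    (hw : toVec w = V.mulVec (toVec 3)) : V = toMat (vOf w) := by
  have hVU : ∀ n : ℕ, V * toMat uM ^ n = toMat uM ^ (3 * n) * V := by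
    intro n
    induction n with
    | zero => simp
    | succ n ih => rw [pow_succ, ← mul_assoc, ih, mul_assoc, h, ← mul_assoc, ← pow_add]; rfl
  have hE : toMat eM * toMat eInv = 1 := by
    rw [← toMat_mulB, eq_of_eqB group_checks.2.2, toMat_oneB]
  have hW : V * toMat eM = toMat (u3L.map fun a => app a w) := by
    refine Matrix.ext fun i j => ?_
    have hb := List.all_eq_true.1 basis_check _ (List.mem_range.2 j.2)
    simp only [Bool.and_eq_true, beq_iff_eq] at hb
    have hcol : (fun m => toMat eM m j) = (toMat uM ^ (j : ℕ)).mulVec (toVec 3) := by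
      rw [bit_col, hb.1.1, toVec_app, toMat_powB 4 uM _ (lt_trans j.2 (by norm_num))]
    have hl : (V * toMat eM) i j = (V.mulVec fun m => toMat eM m j) i := rfl
    rw [hl, hcol, mulVec_mulVec, hVU, ← mulVec_mulVec, ← hw]
    have hlist : (u3L.map fun a => app a w).getD (j : ℕ) 0 = app (u3L.getD (j : ℕ) []) w := by
      have h0 : app [] w = 0 := by
        have : ∀ n, appN n [] w = 0 := by
          intro n
          induction n with
          | zero => rfl
          | succ n ih => rw [appN]; split <;> simp [ih]
        exact this 11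
      conv_lhs => rw [← h0]
      exact List.getD_map _ _ _
    show _ = bit ((u3L.map fun a => app a w).getD (j : ℕ) 0) i
    rw [hlist, ← toMat_powB 6 uM _ (lt_trans (by omega : 3 * (j : ℕ) < 33) (by norm_num)),
      ← eq_of_eqB hb.1.2, ← toVec_app]
    rfl
  rw [vOf, toMat_mulB, ← hW, mul_assoc, hE, mul_one]

theorem vAct_eq (w x : ℕ) : toVec (vAct w x) = (toMat (vOf w)).mulVec (toVec x) := by
  rw [vAct, toVec_app, toVec_app, vOf, toMat_mulB, mulVec_mulVec]

theorem vAct_lt (w x : ℕ) : ∀ i, 11 ≤ i → (vAct w x).testBit i = false ∨ ¬ w < 2048 := by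
  intro i hi
  by_cases hw : w < 2048
  · left
    have hall : ∀ (a : List ℕ) (v : ℕ) (n : ℕ), (∀ m, (a.getD m 0).testBit i = false) →
        (appN n a v).testBit i = false := by
      intro a v n ha
      induction n with
      | zero => simp [appN]
      | succ n ih =>
        rw [appN]
        split
        · rw [Nat.testBit_xor, ha n, ih]; rfl
        · exact ih
    refine hall _ _ _ fun m => Nat.testBit_lt_two_pow (lt_of_lt_of_le ?_ (Nat.pow_le_pow_right (by norm_num) hi))
    rcases lt_or_ge m 11 with hm | hm
    · have hsmall : ∀ (a : List ℕ) (n : ℕ), (∀ m < n, a.getD m 0 < 2 ^ 11) → appN n a w < 2 ^ 11 := by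
        intro a n ha
        induction n with
        | zero => simp [appN]
        | succ n ih =>
          rw [appN]
          have := ih fun m hm => ha m (by omega)
          split
          · exact Nat.xor_lt_two_pow (ha n (by omega)) this
          · exact this
      have hu3 : ((List.range 11).all fun m => (List.range 11).all fun j =>
          decide ((u3L.getD m []).getD j 0 < 2 ^ 11)) = true := by decide +kernel
      have hlen : u3L.length = 11 := by decide +kernel
      rw [List.getD_eq_getElem _ _ (by rw [List.length_map, hlen]; exact hm), List.getElem_map]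
      refine hsmall _ 11 fun j hj => ?_
      have := of_decide_eq_true
        (List.all_eq_true.1 (List.all_eq_true.1 hu3 m (List.mem_range.2 hm)) j (List.mem_range.2 hj))
      rwa [List.getD_eq_getElem u3L _ (by rw [hlen]; exact hm)] at this
    · rw [List.getD_eq_default _ _ (by rw [List.length_map]; exact le_trans (by decide +kernel) hm)]
      norm_num
  · exact Or.inr hw

theorem toVec_inj {a b : ℕ} (ha : ∀ i, 11 ≤ i → a.testBit i = false) (hb : ∀ i, 11 ≤ i → b.testBit i = false)
    (h : toVec a = toVec b) : a = b := by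
  refine Nat.eq_of_testBit_eq fun i => ?_
  rcases lt_or_ge i 11 with hi | hi
  · have := congrFun h ⟨i, hi⟩
    simp only [toVec, bit] at this
    revert this
    cases a.testBit i <;> cases b.testBit i <;> decide
  · rw [ha i hi, hb i hi]

universe u v

variable {G : Type u} [Group G] [Finite G]

theorem exists_image (L : Local G) (h : HasRep11 G) :
    ∃ S : G →* M11, Function.Injective S ∧ MonoidHom.mrange S = target := by
  classical
  obtain ⟨k, _, _, ρ, hinj, htr, hsum⟩ := h
  let e : k →+* AlgebraicClosure k := algebraMap k (AlgebraicClosure k)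
  haveI : CharP (AlgebraicClosure k) 2 := charP_of_injective_ringHom e.injective 2
  let R : G →* Matrix (Fin 11) (Fin 11) (AlgebraicClosure k) :=
    e.mapMatrix.toMonoidHom.comp ((Units.coeHom _).comp ρ)
  have hR : ∀ g, R g = e.mapMatrix (ρ g : Matrix (Fin 11) (Fin 11) k) := fun g => rfl
  obtain ⟨z₀, u, hz₀, hu, huz₀⟩ := L.exists_pair
  obtain ⟨z, S, hz, huz, hS, hSz, hSu⟩ := exists_binary R
    (fun a b h => hinj (Units.ext (Matrix.map_injective e.injective h)))
    (fun g => by
      have : trace (R g) = e (trace (ρ g : Matrix (Fin 11) (Fin 11) k)) := by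
        show ∑ i, e ((ρ g : Matrix (Fin 11) (Fin 11) k) i i) = e (∑ i, (ρ g : Matrix (Fin 11) (Fin 11) k) i i)
        rw [map_sum]
      rcases htr g with h | h <;> simp [this, h])
    (fun y hy => by
      have := congrArg e.mapMatrix (hsum y hy)
      rw [map_sum, map_zero] at this
      rw [← this]
      exact Finset.sum_congr rfl fun j _ => by rw [hR, map_pow]) hz₀ hu huz₀
  obtain ⟨v, hv, hvu⟩ := L.exists_five hu
  have hSvu : S v * toMat uM = toMat uM ^ 3 * S v := by
    rw [← hSu, ← map_pow, ← map_mul, ← map_mul]
    exact congrArg S (mul_inv_eq_iff_eq_mul.1 hvu)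
  obtain ⟨w, hw, hwv⟩ := exists_num ((S v).mulVec (toVec 3))
  have hV : S v = toMat (vOf w) := eq_vOf hSvu hwv
  have hv5 : v ^ 5 = 1 := hv ▸ pow_orderOf_eq_one v
  have hfix : vAct w (vAct w (vAct w (vAct w w))) = 3 := by
    refine toVec_inj (fun i hi => (vAct_lt w _ i hi).resolve_right (by omega))
      (fun i hi => Nat.testBit_lt_two_pow (lt_of_lt_of_le (by norm_num : 3 < 2 ^ 2)
        (Nat.pow_le_pow_right (by norm_num) (by omega)))) ?_
    simp only [vAct_eq, mulVec_mulVec, hwv, ← hV]
    have h5 : S v * (S v * (S v * (S v * S v))) = 1 := by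
      simp only [← map_mul]
      rw [show v * (v * (v * (v * v))) = v ^ 5 by simp [pow_succ, mul_assoc], hv5, map_one]
    rw [h5, one_mulVec]
  have hs := List.all_eq_true.1 search_check w (List.mem_range.2 hw)
  simp only [hfix, beq_self_eq_true, Bool.not_true, Bool.false_or, List.any_eq_true, beq_iff_eq] at hs
  obtain ⟨⟨w', a, k'⟩, hmem, rfl : w' = w⟩ := hs
  have ht := List.all_eq_true.1 table_check _ hmem
  simp only [Bool.and_eq_true, decide_eq_true_eq] at ht
  obtain ⟨⟨ha, hk⟩, he⟩ := ht
  -- the translate of the element of order five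
  set t := (u ^ a)⁻¹ * v with ht_def
  have hSt : S t = toMat (reps.getD k' []) := by
    have h1 : S (u ^ a) * S t = S (u ^ a) * toMat (reps.getD k' []) := by
      rw [← map_mul, ht_def, mul_inv_cancel_left, hV, eq_of_eqB he, toMat_mulB,
        toMat_powB 4 uM _ (lt_trans ha (by norm_num)), map_pow, hSu]
    have h2 : S (u ^ a)⁻¹ * S (u ^ a) = 1 := by rw [← map_mul, inv_mul_cancel, map_one]
    have := congrArg (S (u ^ a)⁻¹ * ·) h1
    simpa only [← mul_assoc, h2, one_mul] using this
  -- the candidate survives
  have hk2 : k' = 0 ∨ k' = 18 := by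
    by_contra hc
    have hkill := List.all_eq_true.1 kill_check k' (List.mem_range.2 hk)
    simp only [Bool.or_eq_true, beq_iff_eq, Bool.not_eq_true'] at hkill
    have hd := List.all_eq_true.1 survivors.2.2 k' (List.mem_range.2 hk)
    rw [decide_eq_true_eq] at hd
    rcases hkill with (h1 | h1) | h1
    · exact hc (Or.inl h1)
    · exact hc (Or.inr h1)
    have hone : eqB (powB 24 (mulB cM (powB 3 (reps.getD k' []) (kills.getD k' 0))) 10200960) oneB = true := by
      rw [eqB_iff, toMat_powB 24 _ _ (by norm_num), toMat_mulB, toMat_powB 3 _ _ hd, toMat_oneB, ← hSz,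
        ← hSt, ← map_pow, ← map_mul, ← map_pow, ← L.card_G, pow_card_eq_one', map_one]
    rw [hone] at h1
    exact absurd h1 (by simp)
  -- the generators
  have hgen : ∀ {z' : G}, orderOf z' = 23 → u * z' * u⁻¹ = z' ^ 2 → ∀ T : G →* M11,
      T z' = toMat cM → T u = toMat uM → T t = toMat m1 → MonoidHom.mrange T = target := by
    intro z' hz' huz' T h1 h2 h3
    have hclos : Subgroup.closure ({z', u, t} : Set G) = ⊤ := by
      refine eq_top_iff.2 ((L.closure_eq_top hz' hu huz' hv hvu).ge.trans ?_)
      rw [Subgroup.closure_le]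
      rintro g (rfl | rfl | rfl)
      · exact Subgroup.subset_closure (by simp)
      · exact Subgroup.subset_closure (by simp)
      · have hmem : u ^ a * t ∈ Subgroup.closure ({z', u, t} : Set G) :=
          mul_mem (pow_mem (Subgroup.subset_closure (by simp)) _) (Subgroup.subset_closure (by simp))
        rwa [ht_def, mul_inv_cancel_left] at hmem
    have hmc : Submonoid.closure ({z', u, t} : Set G) = ⊤ := by
      rw [← Subgroup.closure_toSubmonoid_of_finite, hclos]
      rfl
    rw [MonoidHom.mrange_eq_map, ← hmc, MonoidHom.map_mclosure, Set.image_insert_eq, Set.image_insert_eq,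
      Set.image_singleton, h1, h2, h3, target]
  rcases hk2 with rfl | rfl
  · exact ⟨S, hS, hgen hz huz S hSz hSu (by rw [hSt, survivors.1])⟩
  · obtain ⟨hB, hB', htC, hC, htU, hU, htM, hM⟩ := swap_check
    have hBB : toMat bM * toMat bInv = 1 := by rw [← toMat_mulB, eq_of_eqB hB, toMat_oneB]
    have hBB' : toMat bInv * toMat bM = 1 := by rw [← toMat_mulB, eq_of_eqB hB', toMat_oneB]
    let T : G →* M11 :=
      { toFun := fun g => toMat bM * (S g⁻¹).transpose * toMat bInv
        map_one' := by rw [inv_one, map_one, transpose_one, mul_one, hBB]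
        map_mul' := fun x y => by
          rw [_root_.mul_inv_rev, map_mul, transpose_mul]
          simp only [mul_assoc]
          rw [← mul_assoc (toMat bInv) (toMat bM), hBB', one_mul] }
    have hTdef : ∀ g, T g = toMat bM * (S g⁻¹).transpose * toMat bInv := fun g => rfl
    have hT : Function.Injective T := fun x y hxy => by
      have := congrArg (fun M => toMat bInv * M * toMat bM) hxy
      simp only [hTdef] at this
      simp only [mul_assoc, hBB', mul_one] at this
      simp only [← mul_assoc, hBB', one_mul] at this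
      exact inv_injective (hS (transpose_injective this))
    refine ⟨T, hT, hgen (z' := z⁻¹) (by simpa using hz) (by rw [inv_pow, ← huz]; group) T ?_ ?_ ?_⟩
    · rw [hTdef, inv_inv, hSz, transpose_of_trB htC, ← toMat_mulB, ← toMat_mulB, eq_of_eqB hC]
    · have hu' : u⁻¹ = u ^ 10 := inv_eq_of_mul_eq_one_right (by rw [← pow_succ', show 10 + 1 = orderOf u from hu.symm, pow_orderOf_eq_one])
      rw [hTdef, hu', map_pow, hSu, ← toMat_powB 4 uM 10 (by norm_num), transpose_of_trB htU, ← toMat_mulB,
        ← toMat_mulB, eq_of_eqB hU]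
    · have ht4 : S t⁻¹ = S t ^ 4 := by
        have h5 : S t ^ 5 = 1 := by
          rw [hSt, survivors.2.1]
          have hm : eqB (powB 3 m2 5) oneB = true := by decide +kernel
          rw [← toMat_powB 3 m2 5 (by norm_num), eq_of_eqB hm, toMat_oneB]
        have hl : S t⁻¹ * S t = 1 := by rw [← map_mul, inv_mul_cancel, map_one]
        calc S t⁻¹ = S t⁻¹ * S t ^ 5 := by rw [h5, mul_one]
          _ = S t ^ 4 := by rw [pow_succ' _ 4, ← mul_assoc, hl, one_mul]
      rw [hTdef, ht4, hSt, survivors.2.1, ← toMat_powB 3 m2 4 (by norm_num), transpose_of_trB htM,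
        ← toMat_mulB, ← toMat_mulB, eq_of_eqB hM]

/-- The group is determined by its centralizers and its representation. -/
theorem nonempty_mulEquiv {H : Type v} [Group H] [Finite H] (L : Local G) (h : HasRep11 G)
    (L' : Local H) (h' : HasRep11 H) : Nonempty (G ≃* H) := by
  obtain ⟨S, hS, hSr⟩ := exists_image L h
  obtain ⟨T, hT, hTr⟩ := exists_image L' h'
  let e : G ≃* target :=
    (MulEquiv.ofBijective S.mrangeRestrict ⟨fun a b e => hS (congrArg Subtype.val e),
      MonoidHom.mrangeRestrict_surjective S⟩).trans (MulEquiv.submonoidCongr hSr)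
  let f : H ≃* target :=
    (MulEquiv.ofBijective T.mrangeRestrict ⟨fun a b e => hT (congrArg Subtype.val e),
      MonoidHom.mrangeRestrict_surjective T⟩).trans (MulEquiv.submonoidCongr hTr)
  exact ⟨e.trans f.symm⟩

end Cfsg.Agent.M23Order
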