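import Cfsg.Agent.Lib.M23Order.Frame
import Cfsg.Agent.Lib.Blocks.BrauerChar.Blocks

/-!
# The normalizers of order 253 and the idempotents of the elements of order 23
-/

set_option autoImplicit false
set_option linter.style.haveILetI false

namespace Cfsg.Agent.M23Order.ModuleLocal

open Cfsg.Agent.Blocks Subgroup
open MonoidAlgebra

universe u

variable {G : Type u} [Group G] [Finite G]

theorem conj_pow_pow {g z : G} {a : ℕ} (h : g * z * g⁻¹ = z ^ a) :
    ∀ n : ℕ, g ^ n * z * (g ^ n)⁻¹ = z ^ a ^ n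
  | 0 => by simp
  | n + 1 => by
    rw [pow_succ', mul_inv_rev, show g * g ^ n * z * ((g ^ n)⁻¹ * g⁻¹) =
        g * (g ^ n * z * (g ^ n)⁻¹) * g⁻¹ by group, conj_pow_pow h n, ← conj_pow, h, ← pow_mul,
      pow_succ' a n]

variable (L : Local G)

include L

theorem exists_order23 : ∃ z : G, orderOf z = 23 := by
  haveI : Fact (Nat.Prime 23) := ⟨by norm_num⟩
  exact exists_prime_orderOf_dvd_card' 23 (by rw [L.card_G]; norm_num)

theorem not_commute {z s : G} (hz : orderOf z = 23) (hs : orderOf s = 11) : ¬ Commute s z := by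
  intro h
  have hmem : s ∈ centralizer ({z} : Set G) := mem_centralizer_singleton_iff.2 h.eq
  have := Subgroup.orderOf_dvd_natCard _ hmem
  rw [L.cen23 z hz, hs] at this
  norm_num at this

/-- An element of order 11 normalizing a subgroup of order 23. -/
theorem exists_normalizing {z : G} (hz : orderOf z = 23) :
    ∃ (g : G) (a : ℕ), orderOf g = 11 ∧ a < 23 ∧ a ≠ 1 ∧ a ^ 11 % 23 = 1 ∧
      g * z * g⁻¹ = z ^ a := by
  classical
  haveI : Fact (Nat.Prime 11) := ⟨by norm_num⟩
  obtain ⟨g, hg⟩ := exists_prime_orderOf_dvd_card' (G := normalizer (zpowers z : Set G)) 11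
    (by rw [L.nor23 z hz]; norm_num)
  rw [← Subgroup.orderOf_coe] at hg
  have hm : (g : G) * z * (g : G)⁻¹ ∈ zpowers z :=
    (mem_normalizer_iff.1 g.2 z).1 (mem_zpowers z)
  rw [mem_zpowers_iff_mem_range_orderOf, hz, Finset.mem_image] at hm
  obtain ⟨a, ha, e⟩ := hm
  refine ⟨g, a, hg, Finset.mem_range.1 ha, ?_, ?_, e.symm⟩
  · rintro rfl
    rw [pow_one, eq_comm, mul_inv_eq_iff_eq_mul] at e
    exact not_commute L hz hg e
  · have h1 := conj_pow_pow e.symm (orderOf (g : G))
    rw [pow_orderOf_eq_one, one_mul, inv_one, mul_one, hg] at h1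
    have h2 : z ^ 1 = z ^ a ^ 11 := by rwa [pow_one]
    have h3 := pow_eq_pow_iff_modEq.1 h2
    rw [hz] at h3
    exact h3.symm

theorem isConj_square {z : G} (hz : orderOf z = 23) : ∃ k : G, k * z * k⁻¹ = z ^ 2 := by
  obtain ⟨g, a, -, ha, ha1, ha11, hg⟩ := exists_normalizing L hz
  have hdec : ∀ a < 23, a ^ 11 % 23 = 1 → a ≠ 1 → ∃ k < 11, a ^ k % 23 = 2 := by decide
  obtain ⟨k, -, hk⟩ := hdec a ha ha11 ha1
  refine ⟨g ^ k, ?_⟩
  rw [conj_pow_pow hg k, ← pow_mod_orderOf, hz, hk]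

theorem factorization_eleven : (Nat.card G).factorization 11 = 1 := by
  have hp : Nat.Prime 11 := by norm_num
  have hn : Nat.card G ≠ 0 := Nat.card_pos.ne'
  have h1 : 1 ≤ (Nat.card G).factorization 11 :=
    (hp.pow_dvd_iff_le_factorization hn).1 (by rw [L.card_G]; norm_num)
  have h2 : ¬ 2 ≤ (Nat.card G).factorization 11 := fun h => by
    have := (hp.pow_dvd_iff_le_factorization hn).2 h
    rw [L.card_G] at this
    norm_num at this
  omega

/-- Each element of order 11 normalizes a subgroup of order 23. -/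
theorem exists_normalized {s : G} (hs : orderOf s = 11) :
    ∃ w : G, orderOf w = 23 ∧ s * w * s⁻¹ ∈ zpowers w := by
  haveI : Fact (Nat.Prime 11) := ⟨by norm_num⟩
  obtain ⟨z, hz⟩ := exists_order23 L
  obtain ⟨g, a, hg, -, -, -, hgz⟩ := exists_normalizing L hz
  have hcard : ∀ x : G, orderOf x = 11 →
      Nat.card (zpowers x) = 11 ^ (Nat.card G).factorization 11 := fun x hx => by
    rw [Nat.card_zpowers, hx, factorization_eleven L, pow_one]
  obtain ⟨k, hk⟩ := MulAction.exists_smul_eq G (Sylow.ofCard (zpowers g) (hcard g hg))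
    (Sylow.ofCard (zpowers s) (hcard s hs))
  have hmem : k * g * k⁻¹ ∈ (Sylow.ofCard (zpowers s) (hcard s hs) : Subgroup G) := by
    rw [← hk]
    exact Subgroup.smul_mem_pointwise_smul g (MulAut.conj k)
      ((Sylow.ofCard (zpowers g) (hcard g hg) : Sylow 11 G) : Subgroup G) (mem_zpowers g)
  have hle : zpowers (k * g * k⁻¹) ≤ zpowers s := by
    rw [zpowers_le]
    exact hmem
  have heq : zpowers (k * g * k⁻¹) = zpowers s := by
    refine eq_of_le_of_card_ge hle ?_
    rw [Nat.card_zpowers, Nat.card_zpowers, hs, ← MulAut.conj_apply, MulEquiv.orderOf_eq, hg]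
  refine ⟨k * z * k⁻¹, by rw [← MulAut.conj_apply, MulEquiv.orderOf_eq, hz], ?_⟩
  have hn : k * g * k⁻¹ ∈ normalizer (zpowers (k * z * k⁻¹) : Set G) := by
    rw [Subgroup.mem_normalizer_iff_map_conj_eq, MonoidHom.map_zpowers]
    refine eq_of_le_of_card_ge (zpowers_le.2 ⟨(a : ℤ), ?_⟩) ?_
    · show (k * z * k⁻¹) ^ (a : ℤ) = MulAut.conj (k * g * k⁻¹) (k * z * k⁻¹)
      rw [zpow_natCast, conj_pow, ← hgz, MulAut.conj_apply]
      group
    · rw [Nat.card_zpowers, Nat.card_zpowers]
      exact ((MulAut.conj (k * g * k⁻¹)).orderOf_eq _).ge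
  have hsn : s ∈ normalizer (zpowers (k * z * k⁻¹) : Set G) :=
    (zpowers_le.2 hn) (heq.symm ▸ mem_zpowers s)
  exact (mem_normalizer_iff.1 hsn _).1 (mem_zpowers _)

omit L

/-! ### The idempotents -/

/-- A primitive root of order 23. -/
noncomputable def zeta : ℂ := Complex.exp (2 * Real.pi * Complex.I / (23 : ℕ))

theorem zeta_prim : IsPrimitiveRoot zeta 23 := Complex.isPrimitiveRoot_exp 23 (by norm_num)

/-- The idempotent of a power of the root. -/
noncomputable def Ez (z : G) (i : ℕ) : MonoidAlgebra ℂ G :=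
  ((23 : ℕ) : ℂ)⁻¹ • ∑ j ∈ Finset.range 23, single (z ^ j) (zeta ^ (i * j))

theorem evalChar_Ez (F : G → ℂ) (z : G) (i : ℕ) :
    evalChar F (Ez z i) = ((23 : ℕ) : ℂ)⁻¹ * ∑ j ∈ Finset.range 23, zeta ^ (i * j) * F (z ^ j) := by
  rw [Ez, evalChar_smul, evalChar_sum]
  simp only [evalChar_single]

variable {p : ℕ} {M : Ideal Cfsg.AlgInt} {z : G}

theorem intEl_Ez (hM : Cfsg.IsPModular p M) (hp : ¬ p ∣ 23) (i : ℕ) : IntEl M (Ez z i) :=
  intEl_smul hM (ring_inv_natCast hM hp) (intEl_sum hM fun j _ =>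
    intEl_single hM _ (ring_of_isIntegral hM (isIntegral_of_pow_eq_one (n := 23) (by norm_num)
      (by rw [← pow_mul, mul_comm, pow_mul, zeta_prim.pow_eq_one, one_pow]))))

theorem Ez_idem (hz : orderOf z = 23) (i : ℕ) : Ez z i * Ez z i = Ez z i := by
  set X : MonoidAlgebra ℂ G := single z (zeta ^ i) with hX
  have hpow : ∀ j, X ^ j = single (z ^ j) (zeta ^ (i * j)) := fun j => by
    rw [hX, MonoidAlgebra.single_pow, pow_mul]
  have hXG : X * ∑ j ∈ Finset.range 23, X ^ j = ∑ j ∈ Finset.range 23, X ^ j := by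
    have h1 : X ^ 23 = 1 := by
      rw [hpow, mul_comm, pow_mul, zeta_prim.pow_eq_one, one_pow, ← hz, pow_orderOf_eq_one,
        MonoidAlgebra.one_def]
    have h2 := mul_geom_sum X 23
    rw [h1, sub_self, sub_mul, one_mul, sub_eq_zero] at h2
    exact h2
  have hk : ∀ k, X ^ k * ∑ j ∈ Finset.range 23, X ^ j = ∑ j ∈ Finset.range 23, X ^ j := by
    intro k
    induction k with
    | zero => rw [pow_zero, one_mul]
    | succ k ih => rw [pow_succ, mul_assoc, hXG, ih]
  simp only [Ez, ← hpow]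
  simp only [smul_mul_smul_comm, Finset.sum_mul, hk, Finset.sum_const, Finset.card_range,
    ← Nat.cast_smul_eq_nsmul ℂ, smul_smul]
  congr 1
  field_simp

/-- The values at the idempotents of a class function fixed by squaring on the elements of order
23 give the degree as one number and eleven times two others. -/
theorem eval_sum {F : G → ℂ} (hF : Cfsg.IsClassFunction G F) (hz : orderOf z = 23)
    (hsq : ∃ k : G, k * z * k⁻¹ = z ^ 2) :
    F 1 = evalChar F (Ez z 0) + 11 * (evalChar F (Ez z 1) + evalChar F (Ez z 5)) := by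
  obtain ⟨k, hk⟩ := hsq
  set n : ℕ → ℂ := fun i => evalChar F (Ez z i) with hn
  have hmod : ∀ i, n (i % 23) = n i := fun i => by
    simp only [hn, evalChar_Ez]
    refine congrArg _ (Finset.sum_congr rfl fun j _ => ?_)
    rw [pow_mul, pow_mul]
    congr 2
    exact (pow_eq_pow_mod i zeta_prim.pow_eq_one).symm
  have hF2 : ∀ j, F (z ^ (2 * j)) = F (z ^ j) := fun j => by
    rw [pow_mul, ← hk, conj_pow, hF]
  have hdbl : ∀ i, n (2 * i) = n i := fun i => by
    simp only [hn, evalChar_Ez]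
    refine congrArg _ ?_
    refine Finset.sum_bij' (fun j _ => 2 * j % 23) (fun j _ => 12 * j % 23) ?_ ?_ ?_ ?_ ?_
    · intro j _; exact Finset.mem_range.2 (Nat.mod_lt _ (by norm_num))
    · intro j _; exact Finset.mem_range.2 (Nat.mod_lt _ (by norm_num))
    · intro j hj
      rw [Finset.mem_range] at hj
      omega
    · intro j hj
      rw [Finset.mem_range] at hj
      omega
    · intro j _
      have e1 : z ^ (2 * j % 23) = z ^ (2 * j) := by rw [← hz, pow_mod_orderOf]
      rw [e1, hF2, pow_mul zeta i, ← pow_eq_pow_mod (2 * j) (a := zeta ^ i) (by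
        rw [← pow_mul, mul_comm, pow_mul, zeta_prim.pow_eq_one, one_pow]), ← pow_mul]
      ring_nf
  have hpow2 : ∀ m i, n (2 ^ m * i % 23) = n i := fun m i => by
    rw [hmod]
    induction m with
    | zero => simp
    | succ m ih => rw [pow_succ', mul_assoc, hdbl, ih]
  have hdec : ∀ i < 23, (i = 0 ∧ ¬ i ^ 11 % 23 = 1) ∨
      (i ≠ 0 ∧ i ^ 11 % 23 = 1 ∧ ∃ m < 11, 2 ^ m * 1 % 23 = i) ∨
      (i ≠ 0 ∧ ¬ i ^ 11 % 23 = 1 ∧ ∃ m < 11, 2 ^ m * 5 % 23 = i) := by decide
  have hval : ∀ i ∈ Finset.range 23,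
      n i = if i = 0 then n 0 else if i ^ 11 % 23 = 1 then n 1 else n 5 := by
    intro i hi
    rcases hdec i (Finset.mem_range.1 hi) with ⟨h0, -⟩ | ⟨h0, h1, m, -, hm⟩ | ⟨h0, h1, m, -, hm⟩
    · simp [h0]
    · rw [if_neg h0, if_pos h1, ← hm, hpow2]
    · rw [if_neg h0, if_neg h1, ← hm, hpow2]
  have hsum : ∑ i ∈ Finset.range 23, n i = F 1 := by
    simp only [hn, evalChar_Ez, ← Finset.mul_sum]
    rw [Finset.sum_comm, Finset.sum_eq_single_of_mem 0 (Finset.mem_range.2 (by norm_num))]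
    · simp
    · intro j hj hj0
      rw [← Finset.sum_mul]
      have hne : zeta ^ j ≠ 1 := zeta_prim.pow_ne_one_of_pos_of_lt hj0 (Finset.mem_range.1 hj)
      rw [Finset.sum_congr rfl fun i _ => show zeta ^ (i * j) = (zeta ^ j) ^ i by
          rw [mul_comm, pow_mul],
        geom_sum_eq hne, ← pow_mul, mul_comm j, pow_mul, zeta_prim.pow_eq_one, one_pow, sub_self,
        zero_div, zero_mul]
  rw [← hsum, Finset.sum_congr rfl hval]
  simp only [Finset.sum_range_succ, Finset.sum_range_zero]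
  norm_num
  ring

end Cfsg.Agent.M23Order.ModuleLocal
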