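import Cfsg.Agent.Lib.M23Order.ModuleBasic
import Cfsg.Agent.Lib.M23Order.ModuleLocal
import Cfsg.Agent.BlockCharsA.DefectZeroVanish

/-!
# The representation of dimension eleven in characteristic two

A simple group of order 10200960 with a character of degree 22 as in `Char22` has an irreducible
Brauer character of degree 11 modulo two, whose representation has traces in the prime field.
-/

set_option linter.style.haveILetI false

namespace Cfsg.Agent.M23Order

open Cfsg.Agent.Blocks Cfsg.Agent.Characters Cfsg.Agent.Blocks.Star Cfsg.Agent.Blocks.BrauerChar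
open ModuleBasic ModuleLocal
open MonoidAlgebra

universe u

section

variable {G : Type u} [Group G] [Finite G] (L : Local G) {χ : Cfsg.IrrCharacter G} (h : Char22 χ)
  {M : Ideal Cfsg.AlgInt} (hM : Cfsg.IsPModular 2 M)

include h in
theorem chi_inv (g : G) : (χ : G → ℂ) g⁻¹ = (χ : G → ℂ) g := by
  obtain ⟨m, hm⟩ := h.int g
  rw [char_inv (irr_isCharacter χ), hm, map_intCast]

include h in
/-- No constituent of the character modulo two sees the fixed points of order 23. -/
theorem eval_zero {z : G} (hz : orderOf z = 23) {c : Cls G hM} (hc : rk hM c χ ≠ 0) :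
    evalChar (BrauerChar.ext 2 (ibr hM c)) (Ez z 0) = 0 := by
  classical
  have hint := intEl_Ez (z := z) hM (by norm_num : ¬ 2 ∣ 23) 0
  have hid := Ez_idem hz 0
  have hzero : evalChar (χ : G → ℂ) (Ez z 0) = 0 := by
    rw [evalChar_Ez, Finset.sum_range_succ']
    simp only [Nat.zero_mul, pow_zero, one_mul, h.deg]
    rw [Finset.sum_congr rfl (g := fun _ => (-1 : ℂ)) fun j hj => ?_]
    · norm_num
    · refine h.val23 _ (orderOf_eq_prime (hp := ⟨by norm_num⟩) ?_ ?_)
      · rw [← pow_mul, mul_comm, pow_mul, ← hz, pow_orderOf_eq_one, one_pow]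
      · intro e
        have h1 := orderOf_dvd_of_pow_eq_one e
        rw [hz] at h1
        have := Finset.mem_range.1 hj
        omega
  have hn : ∀ d : Cls G hM, ∃ n : ℕ, evalChar (BrauerChar.ext 2 (ibr hM d)) (Ez z 0) = n :=
    fun d => evalChar_ibr_nat hM d hint hid
  choose n hn using hn
  rw [eval_expand hM (irr_isClassFunction χ) hint hid] at hzero
  simp only [hn, evalChar_pi, ← Nat.cast_mul, ← Nat.cast_sum, Nat.cast_eq_zero] at hzero
  have := Finset.sum_eq_zero_iff.1 hzero c (Finset.mem_univ _)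
  rw [hn, (mul_eq_zero.1 this).resolve_right hc, Nat.cast_zero]

include L h in
theorem eleven_dvd_deg {c : Cls G hM} (hc : rk hM c χ ≠ 0) : 11 ∣ deg hM c := by
  obtain ⟨z, hz⟩ := exists_order23 L
  obtain ⟨a, ha⟩ := evalChar_ibr_nat hM c (intEl_Ez (z := z) hM (by norm_num : ¬ 2 ∣ 23) 1)
    (Ez_idem hz 1)
  obtain ⟨b, hb⟩ := evalChar_ibr_nat hM c (intEl_Ez (z := z) hM (by norm_num : ¬ 2 ∣ 23) 5)
    (Ez_idem hz 5)
  refine ⟨a + b, Nat.cast_injective (R := ℂ) ?_⟩
  rw [← ext_ibr_one, eval_sum (isClassFunction_ext _) hz (isConj_square L hz), eval_zero h hM hz hc,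
    ha, hb]
  push_cast
  ring

include h in
/-- The character is not irreducible modulo two. -/
theorem not_irreducible_mod {c : Cls G hM} (hc : rk hM c χ = 1)
    (hoth : ∀ d, d ≠ c → rk hM d χ = 0) : False := by
  classical
  haveI := Fintype.ofFinite G
  -- on regular elements the Brauer character is the character, so it is real valued
  have hval : ∀ g : G, ¬ 2 ∣ orderOf g → BrauerChar.ext 2 (ibr hM c) g = (χ : G → ℂ) g := by
    intro g hg
    rw [← ext_res (irr_isClassFunction χ) hg, res_irr hM,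
      Finset.sum_eq_single c (fun d _ hd => by rw [hoth d hd, Nat.cast_zero, zero_smul])
        (fun hn => absurd (Finset.mem_univ _) hn), hc, Nat.cast_one, one_smul]
  have hinv : (fun g => BrauerChar.ext 2 (ibr hM c) g⁻¹) = BrauerChar.ext 2 (ibr hM c) := by
    funext g
    by_cases hg : 2 ∣ orderOf g
    · rw [ext_sing _ hg, ext_sing _ (by rwa [orderOf_inv])]
    · rw [hval g hg, hval g⁻¹ (by rwa [orderOf_inv]), chi_inv h]
  -- the antipode of the idempotent has the same multiplicities
  set E := antip (pi hM c) with hE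
  have hEint : IntEl M E := intEl_antip (intEl_pi hM c)
  have hEid : E * E = E := antip_pi_idem hM c
  have hm1 : evalChar (BrauerChar.ext 2 (ibr hM c)) E = 1 := by
    rw [hE, evalChar_antip, hinv, evalChar_ibr, if_pos rfl]
  have hm0 : ∀ e, e ≠ c → evalChar (BrauerChar.ext 2 (ibr hM e)) E = 0 := by
    intro e he
    have hf := isClassFunction_inv (isClassFunction_ext (ibr hM e))
    have hzero : evalChar (fun g => BrauerChar.ext 2 (ibr hM e) g⁻¹) E = 0 := by
      rw [hE, evalChar_antip]
      simp only [inv_inv]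
      rw [evalChar_ibr, if_neg (Ne.symm he)]
    rw [eval_expand hM hf hEint hEid] at hzero
    have hn : ∀ d : Cls G hM, ∃ n : ℕ, evalChar (BrauerChar.ext 2 (ibr hM d)) E *
        evalChar (fun g => BrauerChar.ext 2 (ibr hM e) g⁻¹) (pi hM d) = n := by
      intro d
      obtain ⟨a, ha⟩ := evalChar_ibr_nat hM d hEint hEid
      obtain ⟨b, hb⟩ := evalChar_ibr_nat hM e (intEl_antip (intEl_pi hM d)) (antip_pi_idem hM d)
      rw [evalChar_antip] at hb
      exact ⟨a * b, by rw [ha, hb, Nat.cast_mul]⟩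
    choose n hn using hn
    simp only [hn, ← Nat.cast_sum, Nat.cast_eq_zero] at hzero
    have h1 := hn c
    rw [Finset.sum_eq_zero_iff.1 hzero c (Finset.mem_univ _), hm1, one_mul, Nat.cast_zero,
      ← evalChar_antip] at h1
    exact h1
  have hswap : ∀ f : G → ℂ, Cfsg.IsClassFunction G f →
      evalChar (fun g => f g⁻¹) (pi hM c) = evalChar f (pi hM c) := by
    intro f hf
    rw [← evalChar_antip, eval_expand hM hf hEint hEid,
      Finset.sum_eq_single c (fun d _ hd => by rw [hm0 d hd, zero_mul])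
        (fun hn => absurd (Finset.mem_univ _) hn), hm1, one_mul]
  -- a half of the character on each pair of mutually inverse classes
  haveI := Fintype.ofFinite (ConjClasses G)
  set ι := Fintype.equivFin (ConjClasses G)
  set f : G → ℂ := fun g =>
    if ι (ConjClasses.mk g) < ι (ConjClasses.mk g⁻¹) then (χ : G → ℂ) g else 0 with hfdef
  set k : G → ℂ := fun g =>
    if 2 ∣ orderOf g then 0 else ((χ : G → ℂ) g - f g - f g⁻¹) / 2 with hkdef
  have hmk : ∀ a g : G, ConjClasses.mk (a * g * a⁻¹) = ConjClasses.mk g := fun a g =>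
    ConjClasses.mk_eq_mk_iff_isConj.2 (isConj_iff.2 ⟨a⁻¹, by group⟩)
  have hfc : Cfsg.IsClassFunction G f := fun g a => by
    simp only [hfdef, hmk, conj_inv, irr_isClassFunction χ g a]
  have hkc : Cfsg.IsClassFunction G k := fun g a => by
    simp only [hkdef, orderOf_conjugate, irr_isClassFunction χ g a, hfc g a, conj_inv, hfc g⁻¹ a]
  have hfR : ∀ g, Cfsg.MemLocalRing M (f g) := fun g => by
    obtain ⟨m, hm⟩ := h.int g
    simp only [hfdef]
    split
    · rw [hm]; exact ring_intCast hM m
    · exact ring_zero hM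
  have hkR : ∀ g, Cfsg.MemLocalRing M (k g) := fun g => by
    simp only [hkdef]
    split
    · exact ring_zero hM
    · rename_i hg
      simp only [hfdef, inv_inv, chi_inv h]
      rcases lt_trichotomy (ι (ConjClasses.mk g)) (ι (ConjClasses.mk g⁻¹)) with h' | h' | h'
      · rw [if_pos h', if_neg (lt_asymm h')]
        simp [ring_zero hM]
      · obtain ⟨m, hm⟩ := h.even g (Nat.odd_iff.2 (by omega))
          (ConjClasses.mk_eq_mk_iff_isConj.1 (ι.injective h'))
        rw [if_neg (by rw [h']; exact lt_irrefl _), if_neg (by rw [h']; exact lt_irrefl _), hm]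
        simpa using ring_intCast hM m
      · rw [if_pos h', if_neg (lt_asymm h')]
        simp [ring_zero hM]
  have hev : ∀ φ : G → ℂ, (∀ g, Cfsg.MemLocalRing M (φ g)) →
      Cfsg.MemLocalRing M (evalChar φ (pi hM c)) := fun φ hφ => by
    rw [evalChar_eq_sum]
    exact ring_sum hM fun g _ => ring_mul hM (intEl_pi hM c g) (hφ g)
  have hsum : evalChar (χ : G → ℂ) (pi hM c) =
      evalChar (fun g => f g + f g⁻¹ + 2 * k g) (pi hM c) := by
    refine evalChar_idem_reg hM (irr_isClassFunction χ) (fun g a => ?_) (fun s hs => ?_)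
      (intEl_pi hM c) (pi_idem hM c)
    · simp only [conj_inv, hfc g a, hfc g⁻¹ a, hkc g a]
    · simp only [hkdef, if_neg hs]
      ring
  have hlin : evalChar (fun g => f g + f g⁻¹ + 2 * k g) (pi hM c) = evalChar f (pi hM c) +
      evalChar (fun g => f g⁻¹) (pi hM c) + 2 * evalChar k (pi hM c) := by
    simp only [evalChar_eq_sum, Finset.mul_sum, ← Finset.sum_add_distrib]
    exact Finset.sum_congr rfl fun g _ => by ring
  rw [hlin, hswap f hfc, evalChar_pi, hc, Nat.cast_one] at hsum
  refine not_ideal_one hM ?_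
  rw [hsum, ← two_mul, ← mul_add]
  exact ideal_mul_right hM (by simpa using ideal_p hM) (ring_add hM (hev f hfR) (hev k hkR))

include L h in
/-- A constituent of degree 11. -/
theorem exists_deg_eleven : ∃ c : Cls G hM, rk hM c χ ≠ 0 ∧ deg hM c = 11 := by
  classical
  have hdeg : ∑ c, rk hM c χ * deg hM c = 22 := by
    rw [← charDegree_eq_sum hM]
    exact Nat.cast_injective (R := ℂ) (by rw [BlockCharsA.DegreeSum.deg_cast, h.deg]; norm_num)
  by_contra hcon
  push Not at hcon
  have hbig : ∀ c, rk hM c χ ≠ 0 → rk hM c χ = 1 ∧ deg hM c = 22 := by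
    intro c hc
    obtain ⟨a, ha⟩ := eleven_dvd_deg L h hM hc
    have h1 := Finset.single_le_sum (f := fun c => rk hM c χ * deg hM c) (fun d _ => Nat.zero_le _)
      (Finset.mem_univ c)
    rw [hdeg] at h1
    have h2 := hcon c hc
    have h3 := deg_pos hM c
    have h4 : 1 * deg hM c ≤ rk hM c χ * deg hM c :=
      Nat.mul_le_mul_right _ (Nat.one_le_iff_ne_zero.2 hc)
    have h5 : deg hM c = 22 := by omega
    simp only [h5] at h1
    exact ⟨by omega, h5⟩
  obtain ⟨c, hc⟩ : ∃ c, rk hM c χ ≠ 0 := by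
    by_contra hno
    push Not at hno
    rw [Finset.sum_eq_zero fun c _ => by rw [hno c, Nat.zero_mul]] at hdeg
    norm_num at hdeg
  refine not_irreducible_mod h hM (hbig c hc).1 fun d hd => ?_
  by_contra hd0
  have h1 := Finset.sum_le_sum_of_subset (f := fun c => rk hM c χ * deg hM c)
    (Finset.subset_univ ({c, d} : Finset (Cls G hM)))
  rw [hdeg, Finset.sum_pair (Ne.symm hd), (hbig c hc).1, (hbig c hc).2, (hbig d hd0).1,
    (hbig d hd0).2] at h1
  norm_num at h1

end

/-- The representation of dimension 11 in characteristic two. -/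
theorem hasRep11_of_char22 {G : Type u} [Group G] [Finite G] [IsSimpleGroup G] (L : Local G)
    {chi : Cfsg.IrrCharacter G} (h : Char22 chi) : HasRep11 G := by
  classical
  obtain ⟨M, hM⟩ := BlockCharsA.DefectZeroVanish.exists_modular Nat.prime_two
  haveI : Fact (Nat.Prime 2) := ⟨Nat.prime_two⟩
  obtain ⟨c, hc, hdeg⟩ := exists_deg_eleven L h hM
  let e : cls (mem' hM c : alg hM G) (dec G hM) ≃ Fin 11 := Fintype.equivFinOfCardEq (by
    rw [Fintype.card_coe, ← deg_eq_card, hdeg])
  let k := IsLocalRing.ResidueField (Loc hM)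
  haveI : CharP k 2 := by
    refine ringChar.of_eq (CharP.ringChar_of_prime_eq_zero Nat.prime_two ?_)
    exact_mod_cast residue_natCast_p hM
  let R := Matrix.reindexAlgEquiv k k e
  let ρ₀ : G →* Matrix (Fin 11) (Fin 11) k :=
    { toFun := fun g => R (repHom (splitsAll_loc hM) (mem'_prim hM c) (dec_spec hM) (el hM g))
      map_one' := by rw [el_one, map_one, map_one]
      map_mul' := fun g g' => by rw [el_mul, map_mul, map_mul] }
  have htr : ∀ g, Matrix.trace (ρ₀ g) = lam hM c (el hM g) := fun g => by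
    show Matrix.trace (R _) = _
    simp only [R, lam, Matrix.reindexAlgEquiv_apply, Matrix.reindex_apply, Matrix.trace,
      Matrix.diag, Matrix.submatrix_apply]
    exact Equiv.sum_comp e.symm (fun i =>
      repHom (splitsAll_loc hM) (mem'_prim hM c) (dec_spec hM) (el hM g) i i)
  have h23 : ∀ z : G, orderOf z = 23 → ∑ j ∈ Finset.range 23, ρ₀ z ^ j = 0 := by
    intro z hz
    have hint := intEl_Ez (z := z) hM (by norm_num : ¬ 2 ∣ 23) 0
    have hzero := repHom_eq_zero hM c hint (Ez_idem hz 0) (eval_zero h hM hz hc)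
    have e1 : ∑ j ∈ Finset.range 23, el hM (z ^ j) = (23 : ℕ) • mkA hM hint := by
      refine Subtype.ext ?_
      rw [AddSubmonoidClass.coe_finsetSum, AddSubmonoidClass.coe_nsmul]
      show ∑ j ∈ Finset.range 23, single (z ^ j) (1 : ℂ) = (23 : ℕ) • Ez z 0
      simp only [Ez, Nat.zero_mul, pow_zero, ← Nat.cast_smul_eq_nsmul ℂ, smul_smul]
      rw [mul_inv_cancel₀ (by norm_num), one_smul]
    simp only [← map_pow]
    show ∑ j ∈ Finset.range 23,
      R (repHom (splitsAll_loc hM) (mem'_prim hM c) (dec_spec hM) (el hM (z ^ j))) = 0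
    rw [← map_sum, ← map_sum, e1, map_nsmul, hzero, smul_zero, map_zero]
  have h23k : ((23 : ℕ) : k) = 1 := by
    have h2 : ((2 : ℕ) : k) = 0 := CharP.cast_eq_zero k 2
    rw [show (23 : ℕ) = 2 * 11 + 1 from rfl, Nat.cast_add, Nat.cast_mul, h2, zero_mul, zero_add,
      Nat.cast_one]
  have hinj : Function.Injective ρ₀.toHomUnits := by
    rw [← MonoidHom.ker_eq_bot_iff]
    refine (MonoidHom.normal_ker _).eq_bot_or_eq_top.resolve_right fun htop => ?_
    obtain ⟨z, hz⟩ := exists_order23 L
    have h1 : ρ₀ z = 1 := by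
      have hmem : z ∈ ρ₀.toHomUnits.ker := htop ▸ Subgroup.mem_top z
      simpa [Units.ext_iff] using MonoidHom.mem_ker.1 hmem
    have h0 := congrFun (congrFun (h23 z hz) 0) 0
    simp [h1, Matrix.sum_apply] at h0
    exact one_ne_zero (α := k) (h23k.symm.trans (by exact_mod_cast h0))
  refine ⟨k, inferInstance, inferInstance, ρ₀.toHomUnits, hinj, fun g => ?_, fun z hz => h23 z hz⟩
  show Matrix.trace (ρ₀ g) = 0 ∨ Matrix.trace (ρ₀ g) = 1
  obtain ⟨v, s, hvs, hcom, ⟨n, hn⟩, hs⟩ := exists_ppart Nat.prime_two g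
  have hreg : Matrix.trace (ρ₀ g) = Matrix.trace (ρ₀ s) := by
    rw [htr, htr]
    exact lam_regular_part hM c hvs.symm hcom (k := n) (by rw [← hn, pow_orderOf_eq_one])
  rw [hreg]
  rcases h.sq s (Nat.odd_iff.2 (by omega)) with h11 | hsq
  · -- an element of order 11 normalizes a subgroup of order 23
    left
    obtain ⟨w, hw, hsw⟩ := exists_normalized L h11
    set W := Subgroup.zpowers w with hW
    haveI := Fintype.ofFinite W
    have hmem : ∀ v : W, (v : G) * (s * (v : G)⁻¹ * s⁻¹) ∈ W := fun v => by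
      refine mul_mem v.2 ?_
      obtain ⟨i, hi⟩ := Subgroup.mem_zpowers_iff.1 (inv_mem v.2)
      rw [← hi, ← conj_zpow]
      exact zpow_mem hsw i
    let φ : W → W := fun v => ⟨(v : G) * (s * (v : G)⁻¹ * s⁻¹), hmem v⟩
    have hφ : Function.Bijective φ := by
      refine Finite.injective_iff_bijective.1 fun a b hab => ?_
      have e2 : (a : G) * (s * (a : G)⁻¹ * s⁻¹) = (b : G) * (s * (b : G)⁻¹ * s⁻¹) :=
        congrArg Subtype.val hab
      by_contra hne
      have hne' : (b : G)⁻¹ * (a : G) ≠ 1 := fun h1 =>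
        hne (Subtype.ext (inv_mul_eq_one.1 h1).symm)
      have hcm : Commute s ((b : G)⁻¹ * (a : G)) := by
        have e3 : (b : G)⁻¹ * ((a : G) * (s * (a : G)⁻¹ * s⁻¹)) * (s * (a : G)) =
            (b : G)⁻¹ * ((b : G) * (s * (b : G)⁻¹ * s⁻¹)) * (s * (a : G)) := by rw [e2]
        simp only [mul_assoc, inv_mul_cancel_left, inv_mul_cancel, mul_one] at e3
        show s * ((b : G)⁻¹ * a) = (b : G)⁻¹ * a * s
        rw [← e3]
        group
      refine not_commute L ?_ h11 hcm
      have hdvd := orderOf_dvd_natCard (⟨_, mul_mem (inv_mem b.2) a.2⟩ : W)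
      rw [Nat.card_zpowers, hw, ← Subgroup.orderOf_coe] at hdvd
      exact ((Nat.dvd_prime (by norm_num)).1 hdvd).resolve_left fun h1 =>
        hne' (orderOf_eq_one_iff.1 h1)
    have hsum0 : ∑ v : W, ρ₀ (v : G) = 0 := by
      rw [← h23 w hw, ← Fin.sum_univ_eq_sum_range]
      refine (Fintype.sum_equiv ((finCongr hw.symm).trans (finEquivZPowers (isOfFinOrder_of_finite w)))
        _ _ fun i => ?_).symm
      simp [finEquivZPowers_apply]
    have h0 : ∑ v : W, Matrix.trace (ρ₀ ((v : G) * s)) = 0 := by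
      simp only [map_mul, ← Matrix.trace_sum, ← Finset.sum_mul, hsum0, zero_mul, Matrix.trace_zero]
    have h2 : ∑ v : W, Matrix.trace (ρ₀ ((v : G) * s)) = ∑ v : W, Matrix.trace (ρ₀ s) := by
      rw [← Function.Bijective.sum_comp hφ fun v : W => Matrix.trace (ρ₀ ((v : G) * s))]
      refine Finset.sum_congr rfl fun v _ => ?_
      rw [show ((φ v : W) : G) * s = (v : G) * (s * (v : G)⁻¹) by simp [φ, mul_assoc], map_mul,
        Matrix.trace_mul_comm, ← map_mul, mul_assoc, inv_mul_cancel, mul_one]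
    rw [h0, Finset.sum_const, Finset.card_univ, ← Nat.card_eq_fintype_card, Nat.card_zpowers, hw,
      nsmul_eq_mul, h23k, one_mul] at h2
    exact h2.symm
  · obtain ⟨b, hb⟩ := isConj_iff.1 hsq
    have h1 : Matrix.trace (ρ₀ s) = Matrix.trace (ρ₀ s) * Matrix.trace (ρ₀ s) := by
      rw [← trace_mul_self, ← map_mul, ← pow_two, ← hb, map_mul, Matrix.trace_mul_comm, ← map_mul,
        ← mul_assoc, inv_mul_cancel, one_mul]
    rcases eq_or_ne (Matrix.trace (ρ₀ s)) 0 with h0 | h0
    · exact Or.inl h0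
    · exact Or.inr ((mul_eq_left₀ h0).1 h1.symm)

end Cfsg.Agent.M23Order
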