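import Mathlib

/-!
# The column of an element of order three or nine: the finite check
-/

set_option autoImplicit false

namespace Cfsg.Agent.M23Order.Parity

/-- The divisors of 10200960 that are multiples of nine. -/
def cands : List ℕ :=
  (List.range 8).flatMap fun a => (List.range 2).flatMap fun b => (List.range 2).flatMap fun c =>
    (List.range 2).flatMap fun d => (List.range 2).map fun e =>
      9 * (2 ^ a * 5 ^ b * 7 ^ c * 11 ^ d * 23 ^ e)

/-- The first class multiplication constant, times `|C(g)|`. -/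
def prodT (a v : ℤ) : ℤ := 23 * (170 - 40 * a - 2 * v)

/-- The known part of the norm of the column. -/
def known (a v : ℤ) : ℤ :=
  2 + a * a + v * v + (2 * v - 4) * (2 * v - 4) + (v - a) * (v - a) + 2 * (v * v) +
    2 * ((1 - v) * (1 - v))

/-- The second class multiplication constant, times `|C(g)|²`. -/
def prodS (a v C : ℤ) : ℤ :=
  69 * (147840 - 6720 * (a * a) + 640 * (C - known a v + (2 * v - 4) * (2 * v - 4)) -
    330 * ((1 - v) * (1 - v)) - 192 * (v * v))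

/-- The conditions on `(a, v, |C(g)|)`. -/
def passes (a v C : ℤ) : Bool :=
  prodT a v % C == 0 && decide ((5 + a - 3 * v) * (5 + a - 3 * v) ≤ 2 * (C - known a v)) &&
    decide (0 ≤ prodS a v C) && prodS a v C % (C * C) == 0

/-- The only solution. -/
def only (a v C : ℤ) : Bool := !passes a v C || (a == 4 && v == 5 && C == 180)

theorem scan_zero : ((List.range 15).all fun i : ℕ =>
    cands.all fun C : ℕ =>
      only (3 * (i : ℤ) - 20) (85 - 20 * (3 * (i : ℤ) - 20)) (C : ℤ)) = true := by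
  decide +kernel

theorem scan_pos : ((List.range 15).all fun i : ℕ => (List.range 36).all fun k : ℕ =>
    cands.all fun C : ℕ => only (3 * (i : ℤ) - 20) (3 * (k : ℤ) - 52) (C : ℤ)) = true := by
  decide +kernel

theorem mem_cands {C : ℕ} (hd : C ∣ 10200960) (h9 : 9 ∣ C) : C ∈ cands := by
  obtain ⟨m, rfl⟩ := h9
  have hm : m ∣ 2 ^ 7 * 5 ^ 1 * 7 ^ 1 * 11 ^ 1 * 23 ^ 1 :=
    Nat.dvd_of_mul_dvd_mul_left (show 0 < 9 by norm_num) (by norm_num; exact hd)
  obtain ⟨x₅, y₅, hx₅, hy₅, rfl⟩ := Nat.dvd_mul.1 hm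
  obtain ⟨x₄, y₄, hx₄, hy₄, rfl⟩ := Nat.dvd_mul.1 hx₅
  obtain ⟨x₃, y₃, hx₃, hy₃, rfl⟩ := Nat.dvd_mul.1 hx₄
  obtain ⟨x₂, y₂, hx₂, hy₂, rfl⟩ := Nat.dvd_mul.1 hx₃
  obtain ⟨a, ha, rfl⟩ := (Nat.dvd_prime_pow Nat.prime_two).1 hx₂
  obtain ⟨b, hb, rfl⟩ := (Nat.dvd_prime_pow (show Nat.Prime 5 by norm_num)).1 hy₂
  obtain ⟨c, hc, rfl⟩ := (Nat.dvd_prime_pow (show Nat.Prime 7 by norm_num)).1 hy₃
  obtain ⟨d, hd', rfl⟩ := (Nat.dvd_prime_pow (show Nat.Prime 11 by norm_num)).1 hy₄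
  obtain ⟨e, he, rfl⟩ := (Nat.dvd_prime_pow (show Nat.Prime 23 by norm_num)).1 hy₅
  simp only [cands, List.mem_flatMap, List.mem_map, List.mem_range]
  exact ⟨a, by omega, b, by omega, c, by omega, d, by omega, e, by omega, rfl⟩

/-- **The column is `(a, v, |C(g)|) = (4, 5, 180)`.** -/
theorem unique_column {a v : ℤ} {C : ℕ} (hd : C ∣ 10200960) (h9 : 9 ∣ C) (ha : a * a < 484)
    (ha3 : a % 3 = 1) (hv3 : v % 3 = 2) (hT : ∃ T : ℕ, prodT a v = (C : ℤ) * T)
    (hq : (5 + a - 3 * v) * (5 + a - 3 * v) ≤ 2 * ((C : ℤ) - known a v))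
    (hS : ∃ T : ℕ, prodS a v C = (C : ℤ) * C * T) : a = 4 ∧ v = 5 ∧ C = 180 := by
  have hC := mem_cands hd h9
  have ha1 : -21 ≤ a := by by_contra hc; nlinarith
  have ha2 : a ≤ 21 := by by_contra hc; nlinarith
  obtain ⟨i, hi, rfl⟩ : ∃ i : ℕ, i < 15 ∧ a = 3 * (i : ℤ) - 20 := ⟨((a + 20) / 3).toNat, by omega, by omega⟩
  obtain ⟨T, hT⟩ := hT
  obtain ⟨T', hS⟩ := hS
  have hp : passes (3 * (i : ℤ) - 20) v C = true := by
    simp only [passes, Bool.and_eq_true, beq_iff_eq, decide_eq_true_eq]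
    exact ⟨⟨⟨by rw [hT]; exact Int.mul_emod_right _ _, hq⟩, by rw [hS]; positivity⟩,
      by rw [hS]; exact Int.mul_emod_right _ _⟩
  have hgo : ∀ {x y z : ℤ}, only x y z = true → passes x y z = true → x = 4 ∧ y = 5 ∧ z = 180 := by
    intro x y z h1 h2
    simpa [only, h2, and_assoc] using h1
  rcases Nat.eq_zero_or_pos T with rfl | hTpos
  · obtain rfl : v = 85 - 20 * (3 * (i : ℤ) - 20) := by
      simp only [prodT, Nat.cast_zero, mul_zero] at hT; omega
    obtain ⟨h1, h2, h3⟩ := hgo (List.all_eq_true.1 (List.all_eq_true.1 scan_zero i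
      (List.mem_range.2 hi)) C hC) hp
    exact ⟨h1, h2, by omega⟩
  · have hCT : (C : ℤ) ≤ prodT (3 * (i : ℤ) - 20) v := by
      rw [hT]
      exact le_mul_of_one_le_right (by positivity) (by exact_mod_cast hTpos)
    simp only [prodT] at hCT
    have hlow : 9 * (v * v) - 20 * v + 20 ≤ (C : ℤ) := by
      simp only [known] at hq
      linarith [mul_self_nonneg (5 + (3 * (i : ℤ) - 20) - 3 * v),
        mul_self_nonneg (v - (3 * (i : ℤ) - 20)), mul_self_nonneg (3 * (i : ℤ) - 20)]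
    have hup : (C : ℤ) ≤ 23 * (1010 - 2 * v) := by linarith
    have hv1 : -53 < v := by
      by_contra hc
      linarith [mul_self_nonneg (v + 53)]
    have hv2 : v < 56 := by
      by_contra hc
      linarith [mul_self_nonneg (v - 56)]
    obtain ⟨k, hk, rfl⟩ : ∃ k : ℕ, k < 36 ∧ v = 3 * (k : ℤ) - 52 :=
      ⟨((v + 52) / 3).toNat, by omega, by omega⟩
    obtain ⟨h1, h2, h3⟩ := hgo (List.all_eq_true.1 (List.all_eq_true.1 (List.all_eq_true.1 scan_pos i
      (List.mem_range.2 hi)) k (List.mem_range.2 hk)) C hC) hp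
    exact ⟨h1, h2, by omega⟩

end Cfsg.Agent.M23Order.Parity
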