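import Cfsg.Agent.Lib.M22Order.Three
import Cfsg.Agent.Lib.M23Order.Basic
import Cfsg.Agent.Lib.M23Order.Chars
import Cfsg.Agent.Lib.M23Order.ModuleLocal
import Cfsg.Agent.Lib.M23Order.ParityScan

/-!
# Simple groups of order 10200960: the character of degree 22 on the elements of odd order
-/

set_option autoImplicit false
set_option linter.style.haveILetI false
set_option linter.unusedSectionVars false

namespace Cfsg.Agent.M23Order

open Subgroup
open Cfsg.Agent.Characters Cfsg.Agent.Blocks Cfsg.Agent.PrimeBlock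
open Cfsg.Agent.SmallSimple
open Cfsg.Agent.M12Order (cen cls cong_int)
open scoped ComplexConjugate

universe u

variable {G : Type u} [Group G] [Finite G]

namespace Parity

/-! ### Conjugation into a power -/

theorem centralizer_normal (x : G) : ((centralizer ({x} : Set G)).subgroupOf
    (normalizer (zpowers x : Set G))).Normal := by
  refine ⟨fun c hc n => ?_⟩
  rw [mem_subgroupOf] at hc ⊢
  obtain ⟨i, hi⟩ := mem_zpowers_iff.1 ((mem_normalizer_iff''.1 n.2 x).1 (mem_zpowers x))
  have hcx : Commute (c : G) x := mem_centralizer_singleton_iff.1 hc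
  rw [mem_centralizer_singleton_iff]
  have h : Commute (c : G) ((n : G)⁻¹ * x * n) := hi ▸ hcx.zpow_right i
  show (n : G) * c * (n : G)⁻¹ * x = x * ((n : G) * c * (n : G)⁻¹)
  calc (n : G) * c * (n : G)⁻¹ * x = (n : G) * ((c : G) * ((n : G)⁻¹ * x * n)) * (n : G)⁻¹ := by group
    _ = (n : G) * (((n : G)⁻¹ * x * n) * (c : G)) * (n : G)⁻¹ := by rw [h.eq]
    _ = _ := by group

/-- If the normalizer induces `e` automorphisms, the element is conjugate to its `j`-th power
for every `j` with `j ^ e = 1`. -/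
theorem exists_conj_pow {p e j c : ℕ} {x : G} (hx : orderOf x = p) (hp : 0 < p)
    (hC : Nat.card (centralizer ({x} : Set G)) = c)
    (hN : Nat.card (normalizer (zpowers x : Set G)) = c * e)
    (hR : ((Finset.range p).filter fun i => i ^ e % p = 1).card ≤ e) (hjp : j < p)
    (hj : j ^ e % p = 1) : ∃ g : G, g * x * g⁻¹ = x ^ j := by
  classical
  haveI := Fintype.ofFinite G
  set N := normalizer (zpowers x : Set G) with hNdef
  set C := centralizer ({x} : Set G) with hCdef
  have hCN : C ≤ N := by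
    intro y hy
    refine centralizer_le_normalizer _ (mem_centralizer_iff.2 fun z hz => ?_)
    obtain ⟨i, rfl⟩ := mem_zpowers_iff.1 hz
    exact ((show Commute y x from mem_centralizer_singleton_iff.1 hy).zpow_right i).symm.eq
  haveI := centralizer_normal x
  have hindex : (C.subgroupOf N).index = e := by
    have h := (C.subgroupOf N).card_mul_index
    rw [Nat.card_congr (subgroupOfEquivOfLe hCN).toEquiv, hC, hN] at h
    exact Nat.eq_of_mul_eq_mul_left (hC ▸ Nat.card_pos) h
  -- the exponent of an element of `N`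
  have hex : ∀ g : N, ∃ i, i < p ∧ (g : G) * x * (g : G)⁻¹ = x ^ i := by
    intro g
    have hm : (g : G) * x * (g : G)⁻¹ ∈ zpowers x := (mem_normalizer_iff.1 g.2 x).1 (mem_zpowers x)
    rw [mem_zpowers_iff_mem_range_orderOf, hx, Finset.mem_image] at hm
    obtain ⟨i, hi, e⟩ := hm
    exact ⟨i, Finset.mem_range.1 hi, e.symm⟩
  choose f hfp hf using hex
  have hroot : ∀ g : N, f g ^ e % p = 1 := by
    intro g
    have h1 : ((g ^ e : N) : G) ∈ C := by
      have := (C.subgroupOf N).pow_index_mem g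
      rwa [hindex, mem_subgroupOf] at this
    have h2 := M23Order.ModuleLocal.conj_pow_pow (hf g) e
    rw [SubmonoidClass.coe_pow, hCdef, mem_centralizer_singleton_iff] at h1
    rw [h1, mul_inv_cancel_right] at h2
    have h3 := pow_eq_pow_iff_modEq.1 ((pow_one x).trans h2)
    rw [hx] at h3
    have hp1 : 1 < p := by
      by_contra hc
      rw [show p = 1 by omega, Nat.mod_one] at hj
      omega
    exact Eq.trans h3.symm (Nat.mod_eq_of_lt hp1)
  -- it is constant exactly on the cosets of `C`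
  have hfib : ∀ i ∈ Finset.univ.image f, (Finset.univ.filter fun g : N => f g = i).card ≤ c := by
    intro i hi
    obtain ⟨g₀, -, rfl⟩ := Finset.mem_image.1 hi
    rw [← hC, Nat.card_eq_fintype_card, Fintype.card_subtype]
    refine Finset.card_le_card_of_injOn (fun g : N => (g₀ : G)⁻¹ * g) (fun g hg => ?_) ?_
    · simp only [Finset.coe_filter, Finset.mem_univ, true_and, Set.mem_ofPred_eq] at hg ⊢
      have h1 : (g : G) * x * (g : G)⁻¹ = (g₀ : G) * x * (g₀ : G)⁻¹ := by rw [hf g, hg, hf g₀]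
      rw [mem_centralizer_singleton_iff]
      calc (g₀ : G)⁻¹ * g * x = (g₀ : G)⁻¹ * ((g : G) * x * (g : G)⁻¹) * g := by group
        _ = x * ((g₀ : G)⁻¹ * g) := by rw [h1]; group
    · exact fun g _ g' _ h => Subtype.ext (mul_left_cancel h)
  have hsub : Finset.univ.image f ⊆ (Finset.range p).filter fun i => i ^ e % p = 1 := by
    intro i hi
    obtain ⟨g, -, rfl⟩ := Finset.mem_image.1 hi
    exact Finset.mem_filter.2 ⟨Finset.mem_range.2 (hfp g), hroot g⟩
  have hcard := Finset.card_le_mul_card_image (Finset.univ : Finset N) c hfib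
  rw [Finset.card_univ, ← Nat.card_eq_fintype_card, hN] at hcard
  have hle : e ≤ (Finset.univ.image f).card :=
    Nat.le_of_mul_le_mul_left hcard (hC ▸ Nat.card_pos)
  have heq := Finset.eq_of_subset_of_card_le hsub (hR.trans hle)
  obtain ⟨g, -, hg⟩ := Finset.mem_image.1
    (heq ▸ Finset.mem_filter.2 ⟨Finset.mem_range.2 hjp, hj⟩ : j ∈ Finset.univ.image f)
  exact ⟨g, hg ▸ hf g⟩


/-- An element whose normalizer induces an odd number of automorphisms is not real. -/
theorem not_isConj_inv {e c : ℕ} {x : G} (he : Odd e) (hne : x⁻¹ ≠ x)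
    (hC : Nat.card (centralizer ({x} : Set G)) = c)
    (hN : Nat.card (normalizer (zpowers x : Set G)) = c * e) : ¬ IsConj x x⁻¹ := by
  intro hc
  obtain ⟨u, hu⟩ := isConj_iff.1 hc
  set N := normalizer (zpowers x : Set G) with hNdef
  set C := centralizer ({x} : Set G) with hCdef
  haveI := centralizer_normal x
  have hu2 : u * u ∈ C := by
    rw [hCdef, mem_centralizer_singleton_iff]
    calc u * u * x = u * (u * x * u⁻¹) * u := by group
      _ = u * x⁻¹ * u := by rw [hu]
      _ = (u * x * u⁻¹)⁻¹ * (u * u) := by group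
      _ = x * (u * u) := by rw [hu, inv_inv]
  have huN : u ∈ N := by
    rw [hNdef, Subgroup.mem_normalizer_iff_map_conj_eq, MonoidHom.map_zpowers]
    show zpowers (u * x * u⁻¹) = zpowers x
    rw [hu, zpowers_inv]
  have hCN : C ≤ N := by
    intro y hy
    refine centralizer_le_normalizer _ (mem_centralizer_iff.2 fun z hz => ?_)
    obtain ⟨i, rfl⟩ := mem_zpowers_iff.1 hz
    exact ((show Commute y x from mem_centralizer_singleton_iff.1 hy).zpow_right i).symm.eq
  have hindex : (C.subgroupOf N).index = e := by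
    have h := (C.subgroupOf N).card_mul_index
    rw [Nat.card_congr (subgroupOfEquivOfLe hCN).toEquiv, hC, hN] at h
    exact Nat.eq_of_mul_eq_mul_left (hC ▸ Nat.card_pos) h
  have hue : u ^ e ∈ C := by
    have := (C.subgroupOf N).pow_index_mem ⟨u, huN⟩
    rwa [hindex, mem_subgroupOf] at this
  obtain ⟨m, rfl⟩ := he
  have huC : u ∈ C := by
    rw [pow_succ, pow_mul, sq] at hue
    exact (C.mul_mem_cancel_left (pow_mem hu2 m)).1 hue
  exact hne (by rw [← hu, mem_centralizer_singleton_iff.1 huC, mul_inv_cancel_right])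

theorem inv_ne_self {x : G} (h : 2 < orderOf x) : x⁻¹ ≠ x := fun e => by
  have h1 : x ^ 2 = 1 := by
    rw [sq]
    nth_rw 2 [← e]
    exact mul_inv_cancel x
  have := Nat.le_of_dvd two_pos (orderOf_dvd_of_pow_eq_one h1)
  omega

/-- The orders of the elements of odd order. -/
theorem odd_cases (L : Local G) (T : Chars G) {s : G} (hs : Odd (orderOf s)) :
    orderOf s ∈ [1, 3, 5, 7, 9, 11, 15, 23] := by
  have hpow : ∀ d, d ∣ orderOf s → ∃ z : G, orderOf z = d ∧
      orderOf s ∣ Nat.card (centralizer ({z} : Set G)) := fun d hd =>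
    ⟨s ^ (orderOf s / d), orderOf_pow_orderOf_div (orderOf_pos s).ne' hd,
      Subgroup.orderOf_dvd_natCard _
        (mem_centralizer_singleton_iff.2 (Commute.self_pow s _).eq)⟩
  have key : ∀ n : ℕ, 0 < n → (List.range (n + 1)).all (fun i => n % i != 0 ||
      ([1, 3, 5, 7, 9, 11, 15, 23] : List ℕ).contains i) = true →
      orderOf s ∣ n → orderOf s ∈ ([1, 3, 5, 7, 9, 11, 15, 23] : List ℕ) := by
    intro n hn hall hd
    have := List.all_eq_true.1 hall _ (List.mem_range.2 (Nat.lt_succ_of_le (Nat.le_of_dvd hn hd)))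
    simpa [Nat.mod_eq_zero_of_dvd hd] using this
  by_cases h23 : 23 ∣ orderOf s
  · obtain ⟨z, hz, hd⟩ := hpow 23 h23
    rw [L.cen23 z hz] at hd
    exact key 23 (by norm_num) (by decide) hd
  by_cases h11 : 11 ∣ orderOf s
  · obtain ⟨z, hz, hd⟩ := hpow 11 h11
    rw [L.cen11 z hz] at hd
    exact key 11 (by norm_num) (by decide) hd
  by_cases h5 : 5 ∣ orderOf s
  · obtain ⟨z, hz, hd⟩ := hpow 5 h5
    rw [(T.five z hz).1] at hd
    exact key 15 (by norm_num) (by decide) hd
  have h2 : (orderOf s).Coprime 2 := Nat.coprime_two_right.2 hs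
  by_cases h7 : 7 ∣ orderOf s
  · obtain ⟨z, hz, hd⟩ := hpow 7 h7
    obtain ⟨c, hc, hC, -⟩ := T.seven z hz
    rw [hC] at hd
    refine key 7 (by norm_num) (by decide) (Nat.Coprime.dvd_of_dvd_mul_right ?_ hd)
    simp only [List.mem_cons, List.not_mem_nil, or_false] at hc
    rcases hc with rfl | rfl | rfl
    · exact h2
    · exact show (orderOf s).Coprime (2 ^ 4) from h2.pow_right 4
    · exact show (orderOf s).Coprime (2 ^ 7) from h2.pow_right 7
  have hG : orderOf s ∣ 2 ^ 7 * (5 * (7 * (11 * (23 * 9)))) := by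
    norm_num; exact L.card_G ▸ orderOf_dvd_natCard s
  have hcop : ∀ q, q.Prime → ¬ q ∣ orderOf s → (orderOf s).Coprime q := fun q hq h =>
    (hq.coprime_iff_not_dvd.2 h).symm
  refine key 9 (by norm_num) (by decide) ?_
  refine (hcop 23 (by norm_num) h23).dvd_of_dvd_mul_left ((hcop 11 (by norm_num) h11).dvd_of_dvd_mul_left
    ((hcop 7 (by norm_num) h7).dvd_of_dvd_mul_left ((hcop 5 (by norm_num) h5).dvd_of_dvd_mul_left
      ((h2.pow_right 7).dvd_of_dvd_mul_left hG))))

end Parity

namespace Chars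

variable (T : Chars G)

theorem sum_all [Fintype (Cfsg.IrrCharacter G)] {M : Type*} [AddCommMonoid M]
    (φ : Cfsg.IrrCharacter G → M) :
    ∑ χ, φ χ = φ (trivIrr G) + φ T.a + φ T.b + φ T.b' + φ T.c + φ T.h + φ T.h' + φ T.h'' + φ T.d +
      φ T.f + φ T.f' + φ T.g + φ T.g' + φ T.k + φ T.k' + φ T.m + φ T.n := by
  classical
  have : (Finset.univ : Finset (Cfsg.IrrCharacter G)) =
      [trivIrr G, T.a, T.b, T.b', T.c, T.h, T.h', T.h'', T.d, T.f, T.f', T.g, T.g', T.k, T.k', T.m,
        T.n].toFinset :=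
    (Finset.eq_univ_iff_forall.2 fun χ => List.mem_toFinset.2 (T.all_mem χ)).symm
  rw [this, List.sum_toFinset _ T.nodup]
  simp only [List.map_cons, List.map_nil, List.sum_cons, List.sum_nil, add_zero, add_assoc]

theorem ne_triv {χ : Cfsg.IrrCharacter G} (h : deg χ ≠ 1) : χ ≠ trivIrr G :=
  fun e => h (e ▸ deg_trivIrr)

section

include T

/-- The characters that are alone of their degree. -/
theorem unique_deg {χ ψ : Cfsg.IrrCharacter G} (hd : deg χ ∈ [22, 230, 253]) (h : deg ψ = deg χ) :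
    ψ = χ := by
  have h1 := T.all_mem χ
  have h2 := T.all_mem ψ
  have e0 : deg (trivIrr G) = 1 := deg_trivIrr
  simp only [List.mem_cons, List.not_mem_nil, or_false] at h1 h2 hd
  rcases h1 with rfl | rfl | rfl | rfl | rfl | rfl | rfl | rfl | rfl | rfl | rfl | rfl | rfl | rfl |
      rfl | rfl | rfl <;>
    first
    | (simp only [e0, T.db, T.db', T.dh, T.dh', T.dh'', T.df, T.df', T.dg, T.dg', T.dk, T.dk', T.dm,
        T.dn] at hd
       omega)
    | (rcases h2 with rfl | rfl | rfl | rfl | rfl | rfl | rfl | rfl | rfl | rfl | rfl | rfl | rfl |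
          rfl | rfl | rfl | rfl <;>
        first
        | rfl
        | (simp only [e0, T.da, T.db, T.db', T.dc, T.dh, T.dh', T.dh'', T.dd, T.df, T.df', T.dg, T.dg',
            T.dk, T.dk', T.dm, T.dn] at h
           omega))

/-- A character alone of its degree is rational valued. -/
theorem exists_int {χ : Cfsg.IrrCharacter G} (hd : deg χ ∈ [22, 230, 253]) (x : G) :
    ∃ v : ℤ, (χ : G → ℂ) x = (v : ℂ) := by
  haveI := Fintype.ofFinite G
  refine exists_int_of_pow_fixed (irr_isCharacter χ) fun m hm => ?_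
  set χ' : Cfsg.IrrCharacter G :=
    ⟨fun g => (χ : G → ℂ) (g ^ m), OddChar.PowTwist.isIrr_comp_pow χ.2 hm⟩
  have hval : ∀ g, (χ' : G → ℂ) g = (χ : G → ℂ) (g ^ m) := fun g => rfl
  have hdeg : deg χ' = deg χ := by
    have : (deg χ' : ℂ) = deg χ := by rw [deg_cast, deg_cast, hval, one_pow]
    exact_mod_cast this
  rw [← hval, T.unique_deg hd hdeg]

end

variable [IsSimpleGroup G] (hcard : Nat.card G = 10200960)

include hcard

set_option maxHeartbeats 1600000 in
/-- **The elements of order three or nine.** -/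
theorem three_column {g : G} (hg : orderOf g = 3 ∨ orderOf g = 9) :
    (T.a : G → ℂ) g = 4 ∧ cen g = 180 ∧ IsConj g g⁻¹ := by
  classical
  haveI := Fintype.ofFinite (Cfsg.IrrCharacter G)
  have h3 : 3 ∣ orderOf g := by rcases hg with e | e <;> rw [e] <;> norm_num
  have hg9 : g ^ 3 ^ 2 = 1 :=
    orderOf_dvd_iff_pow_eq_one.1 (by rcases hg with e | e <;> rw [e] <;> norm_num)
  have hnd : ∀ q : ℕ, q = 5 ∨ q = 7 ∨ q = 11 ∨ q = 23 → ¬ q ∣ orderOf g := by
    intro q hq
    rcases hg with e | e <;> rw [e] <;> rcases hq with rfl | rfl | rfl | rfl <;> norm_num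
  obtain ⟨a, ha⟩ := T.exists_int (χ := T.a) (by simp [T.da]) g
  obtain ⟨v, hv⟩ := T.exists_int (χ := T.c) (by simp [T.dc]) g
  have hb := nine_zero hcard T.b (by rw [T.db]; norm_num) h3
  have hb' := nine_zero hcard T.b' (by rw [T.db']; norm_num) h3
  have hm := nine_zero hcard T.m (by rw [T.dm]; norm_num) h3
  have hk := nine_zero hcard T.k (by rw [T.dk]; norm_num) h3
  have hk' := nine_zero hcard T.k' (by rw [T.dk']; norm_num) h3
  obtain ⟨-, r7⟩ := T.rel7 g (hnd 7 (by norm_num))
  obtain ⟨hgg, r11⟩ := T.rel11 g (hnd 11 (by norm_num))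
  have r5 := T.rel5 g (hnd 5 (by norm_num))
  obtain ⟨hff, r23⟩ := T.rel23 g (hnd 23 (by norm_num))
  rw [hk, hm] at r7
  have hn : (T.n : G → ℂ) g = -1 := by linear_combination -r7
  rw [hb, hb', hm, hv] at r11
  have hgv : (T.g : G → ℂ) g = 1 - (v : ℂ) := by linear_combination r11
  have hgv' : (T.g' : G → ℂ) g = 1 - (v : ℂ) := hgg ▸ hgv
  rw [hn, hgv, hgv'] at r5
  have hh : (T.h : G → ℂ) g = 2 * (v : ℂ) - 4 := by linear_combination -r5
  rw [ha, hb, hb', hgv, hgv', hk, hk'] at r23
  obtain ⟨va, vb, vb', vc, vh, vh', vh'', vd, vf, vf', vg, vg', vk, vk', vm, vn⟩ := T.val_t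
  have hg1 : ¬ IsConj g 1 := fun hc => by
    rw [isConj_one_left.1 hc, orderOf_one] at h3; omega
  have hgt : ¬ IsConj g T.t := fun hc => by
    obtain ⟨x, hx⟩ := isConj_iff.1 hc
    have : orderOf T.t = orderOf g := hx ▸ MulEquiv.orderOf_eq (MulAut.conj x) g
    rw [T.ord_t] at this
    rcases hg with e | e <;> omega
  have o1 := second_orthogonality (G := G) g 1
  rw [if_neg hg1, T.sum_all] at o1
  simp only [← deg_cast, map_natCast, trivIrr_coe, deg_trivIrr, T.da, T.db, T.db', T.dc, T.dh, T.dh',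
    T.dh'', T.dd, T.df, T.df', T.dg, T.dg', T.dk, T.dk', T.dm, T.dn, ha, hv, hb, hb', hm, hk, hk', hn,
    hgv, hgv', ← hff] at o1
  have o2 := second_orthogonality (G := G) g T.t
  rw [if_neg hgt, T.sum_all] at o2
  simp only [trivIrr_coe, va, vb, vb', vc, vh, vh', vh'', vd, vf, vf', vg, vg', vk, vk', vm, vn,
    map_one, map_zero, map_neg, map_ofNat, ha, hv, hb, hb', hm, hk, hk', hn, hgv, hgv', ← hff] at o2
  push_cast at o1 o2
  have hX : (T.h : G → ℂ) g + (T.h' : G → ℂ) g + (T.h'' : G → ℂ) g = 1 + (a : ℂ) - (v : ℂ) ∧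
      (T.d : G → ℂ) g = (v : ℂ) - (a : ℂ) := by
    have hd : (T.d : G → ℂ) g = (v : ℂ) - (a : ℂ) := by
      linear_combination (1 / 16 : ℂ) * o2 + (3 / 4048 : ℂ) * o1 + (-(1540 : ℂ) * (3 / 4048) * 2 / 2 + 28 / 16) * r23
    refine ⟨?_, hd⟩
    linear_combination (1 / 1771 : ℂ) * o1 - (1 / 7 : ℂ) * hd - (1540 / 1771 : ℂ) * r23
  obtain ⟨hS, hd⟩ := hX
  have hf : (T.f : G → ℂ) g = (v : ℂ) := by linear_combination r23 + hS
  have hf' : (T.f' : G → ℂ) g = (v : ℂ) := hff ▸ hf
  -- the norm
  set q : ℝ := Complex.normSq ((T.h' : G → ℂ) g) + Complex.normSq ((T.h'' : G → ℂ) g) with hq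
  have o3 := second_orthogonality (G := G) g g
  rw [if_pos (IsConj.refl g), T.sum_all] at o3
  simp only [trivIrr_coe, map_one, map_zero, map_neg, map_ofNat, map_sub, map_mul, map_intCast, ha, hv,
    hb, hb', hm, hk, hk', hn, hgv, hgv', hh, hd, hf, hf', Complex.mul_conj] at o3
  have hqC : (q : ℂ) = (((cen g : ℤ) - Parity.known a v : ℤ) : ℂ) := by
    rw [hq, Complex.ofReal_add, Parity.known, cen]
    push_cast
    linear_combination o3
  have hqR : q = (((cen g : ℤ) - Parity.known a v : ℤ) : ℝ) :=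
    Complex.ofReal_injective (by rw [hqC, Complex.ofReal_intCast])
  have hB : (5 + a - 3 * v) * (5 + a - 3 * v) ≤ 2 * ((cen g : ℤ) - Parity.known a v) := by
    have he : (T.h' : G → ℂ) g + (T.h'' : G → ℂ) g = (((5 + a - 3 * v : ℤ) : ℝ) : ℂ) := by
      push_cast; linear_combination hS - hh
    have h1 : Complex.normSq ((T.h' : G → ℂ) g + (T.h'' : G → ℂ) g) ≤ 2 * q := by
      have h2 := Complex.normSq_add ((T.h' : G → ℂ) g) ((T.h'' : G → ℂ) g)
      have h4 := Complex.normSq_sub ((T.h' : G → ℂ) g) ((T.h'' : G → ℂ) g)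
      have h5 := Complex.normSq_nonneg ((T.h' : G → ℂ) g - (T.h'' : G → ℂ) g)
      rw [hq]; linarith
    rw [he, Complex.normSq_ofReal, hqR] at h1
    exact_mod_cast h1
  -- values at an element of order 23
  obtain ⟨z, hz⟩ := exists_prime_orderOf_dvd_card' (G := G) 23 (by rw [hcard]; norm_num)
  obtain ⟨za, zb, zb', zh, zh', zh'', zg, zg', zk, zk', zf⟩ := T.val23 z hz
  have hzero : ∀ χ : Cfsg.IrrCharacter G, 23 ∣ deg χ → (χ : G → ℂ) z = 0 := fun χ h =>
    zero_of_singular hcard (Or.inr (Or.inr (Or.inr rfl))) χ h (by rw [hz])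
  have zc := hzero T.c (by rw [T.dc]; norm_num)
  have zd := hzero T.d (by rw [T.dd]; norm_num)
  have zm := hzero T.m (by rw [T.dm]; norm_num)
  have zn := hzero T.n (by rw [T.dn]; norm_num)
  have zf' : conj ((T.f : G → ℂ) z) + conj ((T.f' : G → ℂ) z) = -1 := by
    rw [← map_add, zf, map_neg, map_one]
  obtain ⟨t₁, e1, -⟩ := M22Order.class_coeff T.t g z
  rw [T.sum_all] at e1
  simp only [trivIrr_coe, map_one, map_zero, map_neg, mul_zero, zero_mul, zero_div, ← deg_cast,
    deg_trivIrr, T.da, T.db, T.db', T.dc, T.dh, T.dh', T.dh'', T.dd, T.df, T.df', T.dg, T.dg', T.dk,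
    T.dk', T.dm, T.dn, va, vb, vb', vc, vh, vh', vh'', vd, vf, vf', vg, vg', vk, vk', vm, vn,
    za, zb, zb', zc, zd, zh, zh', zh'', zg, zg', zk, zk', zm, zn, ha, hv, hb, hb', hm, hk, hk', hn,
    hgv, hgv', hd, hf, hf', hcard, show cen T.t = 2688 from T.cen_t, add_zero] at e1
  have hT : ∃ t : ℕ, Parity.prodT a v = (cen g : ℤ) * t := by
    refine ⟨t₁, ?_⟩
    have : ((Parity.prodT a v : ℤ) : ℂ) = (((cen g : ℤ) * (t₁ : ℤ) : ℤ) : ℂ) := by
      rw [Parity.prodT]
      push_cast at e1 ⊢
      linear_combination (1 / 2688 : ℂ) * e1 - (10200960 * 7 / 231 / 2688 : ℂ) * hS +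
        (10200960 * 14 * (v : ℂ) / 770 / 2688) * zf'
    exact_mod_cast this
  obtain ⟨t₂, e2, -⟩ := M22Order.class_coeff g g⁻¹ z
  rw [T.sum_all] at e2
  simp only [char_inv (irr_isCharacter _) g, cen, ← zpowers_eq_closure] at e2
  have hcinv : centralizer ({g⁻¹} : Set G) = centralizer ({g} : Set G) := by
    ext y
    simp only [mem_centralizer_singleton_iff]
    exact ⟨fun h => by simpa using (show Commute y g⁻¹ from h).inv_right.eq,
      fun h => (show Commute y g from h).inv_right.eq⟩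
  rw [hcinv] at e2
  simp only [trivIrr_coe, map_one, map_zero, map_neg, map_intCast, map_sub, map_mul, map_ofNat, mul_zero,
    zero_mul, zero_div, ← deg_cast, deg_trivIrr, T.da, T.db, T.db', T.dc, T.dh, T.dh', T.dh'', T.dd,
    T.df, T.df', T.dg, T.dg', T.dk, T.dk', T.dm, T.dn, za, zb, zb', zc, zd, zh, zh', zh'', zg, zg', zk,
    zk', zm, zn, ha, hv, hb, hb', hm, hk, hk', hn, hgv, hgv', hh, hd, hf, hf', Complex.mul_conj, hcard,
    add_zero] at e2
  have hP : ∃ t : ℕ, Parity.prodS a v (cen g : ℤ) = (cen g : ℤ) * (cen g : ℤ) * t := by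
    refine ⟨t₂, ?_⟩
    have : ((Parity.prodS a v (cen g : ℤ) : ℤ) : ℂ) =
        (((cen g : ℤ) * (cen g : ℤ) * (t₂ : ℤ) : ℤ) : ℂ) := by
      have hqC' := hqC
      rw [hq, Complex.ofReal_add] at hqC'
      rw [Parity.prodS, cen] at *
      simp only [Parity.known] at hqC' ⊢
      push_cast at e2 hqC' ⊢
      linear_combination e2 - (69 * 640 : ℂ) * hqC' - (69 * 192 * (v : ℂ) * (v : ℂ)) * zf'
    exact_mod_cast this
  -- congruences, a bound, and 9 divides the centralizer
  obtain ⟨M, hM⟩ := BlockCharsA.DefectZeroVanish.exists_modular Nat.prime_three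
  have hcong : ∀ (χ : Cfsg.IrrCharacter G) (w : ℤ), (χ : G → ℂ) g = (w : ℂ) → (3 : ℤ) ∣ w - deg χ :=
    fun χ w hw => cong_int hM χ (Commute.one_right g) (k := 2) hg9 (by simp)
      (by rw [mul_one]; exact hw) (by rw [← deg_cast]; simp)
  have ha3 := hcong _ _ ha
  have hv3 := hcong _ _ hv
  rw [T.da] at ha3; rw [T.dc] at hv3
  have hasq : a * a < 484 := by
    have hne := eq_one_of_norm_eq (not_comm hcard) (χ := T.a) (g := g) (ne_triv (by rw [T.da]; norm_num))
    have hle := char_norm_le (irr_isCharacter T.a) g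
    rw [ha, ← deg_cast, T.da, Complex.norm_intCast] at hle
    rw [ha, ← deg_cast, T.da, Complex.norm_intCast] at hne
    norm_num at hle hne
    have hlt : |(a : ℝ)| < 22 := lt_of_le_of_ne hle fun e => by
      have := hne e; rw [this, orderOf_one] at h3; omega
    rw [abs_lt] at hlt
    have : (a : ℝ) * a < 484 := by nlinarith
    exact_mod_cast this
  have h9 : 9 ∣ cen g := by
    haveI : Fact (Nat.Prime 3) := ⟨Nat.prime_three⟩
    obtain ⟨P, hP⟩ := (IsPGroup.iff_orderOf.2 fun y => ⟨_, (Nat.dvd_prime_pow Nat.prime_three).1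
      ((orderOf_dvd_natCard y).trans (by rw [Nat.card_zpowers]; exact orderOf_dvd_of_pow_eq_one hg9)) |>.choose_spec.2⟩ :
        IsPGroup 3 (zpowers g)).exists_le_sylow
    have hP9 := card_sylow_three hcard P
    letI := IsPGroup.commGroupOfCardEqPrimeSq (p := 3) (G := (P : Subgroup G)) (by rw [hP9]; norm_num)
    rw [← hP9]
    refine card_dvd_of_le fun y hy => mem_centralizer_singleton_iff.2 ?_
    exact congrArg Subtype.val (mul_comm (⟨y, hy⟩ : (P : Subgroup G)) ⟨g, hP (mem_zpowers g)⟩)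
  obtain ⟨rfl, rfl, hC⟩ := Parity.unique_column (cen_dvd hcard g) h9 hasq (by omega) (by omega) hT hB hP
  refine ⟨by rw [ha]; norm_num, hC, ?_⟩
  -- reality
  by_contra hne
  have o4 := second_orthogonality (G := G) g g⁻¹
  rw [if_neg hne, T.sum_all] at o4
  simp only [char_inv (irr_isCharacter _) g, Complex.conj_conj, trivIrr_coe, map_one, ha, hv, hb, hb', hm,
    hk, hk', hn, hgv, hgv', hh, hd, hf, hf'] at o4
  have e : (T.h' : G → ℂ) g * (T.h' : G → ℂ) g + (T.h'' : G → ℂ) g * (T.h'' : G → ℂ) g = ((-162 : ℝ) : ℂ) := by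
    push_cast at o4 ⊢; linear_combination o4
  have hle := (Complex.abs_re_le_norm _).trans (norm_add_le ((T.h' : G → ℂ) g * (T.h' : G → ℂ) g)
    ((T.h'' : G → ℂ) g * (T.h'' : G → ℂ) g))
  rw [e, Complex.ofReal_re, norm_mul, norm_mul, Complex.norm_mul_self_eq_normSq,
    Complex.norm_mul_self_eq_normSq, ← hq, hqR, hC] at hle
  norm_num [Parity.known] at hle

set_option maxHeartbeats 800000 in
/-- **The elements of order five.** -/
theorem five_value {y : G} (hy : orderOf y = 5) : (T.a : G → ℂ) y = 2 ∧ IsConj y (y ^ 2) := by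
  classical
  haveI := Fintype.ofFinite (Cfsg.IrrCharacter G)
  obtain ⟨hC, hN⟩ := T.five y hy
  have hj : ∀ j, j < 5 → j ≠ 0 → IsConj y (y ^ j) := fun j h5 h0 => by
    have hd : ∀ j < 5, j ≠ 0 → j ^ 4 % 5 = 1 := by decide
    exact isConj_iff.2 (Parity.exists_conj_pow (e := 4) hy (by norm_num) hC hN (by decide) h5 (hd j h5 h0))
  have hint : ∀ χ : Cfsg.IrrCharacter G, ∃ w : ℤ, (χ : G → ℂ) y = (w : ℂ) := fun χ =>
    exists_int_of_pow_fixed (irr_isCharacter χ) fun m hm => by
      have h0 : m % 5 ≠ 0 := fun h => by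
        have := Nat.Coprime.coprime_dvd_right (show 5 ∣ Nat.card G by rw [hcard]; norm_num) hm
        rw [Nat.coprime_comm, (show Nat.Prime 5 by norm_num).coprime_iff_not_dvd] at this
        exact this (Nat.dvd_of_mod_eq_zero h)
      obtain ⟨x, hx⟩ := isConj_iff.1 (hj (m % 5) (Nat.mod_lt _ (by norm_num)) h0)
      rw [← pow_mod_orderOf y m, hy, ← hx, irr_isClassFunction χ y x]
  have hzero : ∀ χ : Cfsg.IrrCharacter G, 5 ∣ deg χ → (χ : G → ℂ) y = 0 := fun χ h =>
    zero_of_singular hcard (Or.inl rfl) χ h (by rw [hy])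
  obtain ⟨yh, yg, yg', yn⟩ := T.val5 y hy
  obtain ⟨a, ha⟩ := hint T.a
  obtain ⟨d, hd⟩ := hint T.d
  obtain ⟨p, hp⟩ := hint T.h'
  obtain ⟨p', hp'⟩ := hint T.h''
  have o := second_orthogonality (G := G) y y
  rw [if_pos (IsConj.refl y), T.sum_all, hC] at o
  simp only [trivIrr_coe, map_one, map_zero, map_neg, map_intCast, ha, hd, hp, hp', yh, yg, yg', yn,
    hzero T.b (by rw [T.db]; norm_num), hzero T.b' (by rw [T.db']; norm_num),
    hzero T.c (by rw [T.dc]; norm_num), hzero T.f (by rw [T.df]; norm_num),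
    hzero T.f' (by rw [T.df']; norm_num), hzero T.k (by rw [T.dk]; norm_num),
    hzero T.k' (by rw [T.dk']; norm_num), hzero T.m (by rw [T.dm]; norm_num)] at o
  have hsum : a * a + d * d + p * p + p' * p' = 10 := by
    have : ((a * a + d * d + p * p + p' * p' : ℤ) : ℂ) = ((10 : ℤ) : ℂ) := by
      push_cast at o ⊢; linear_combination o
    exact_mod_cast this
  obtain ⟨M, hM⟩ := BlockCharsA.DefectZeroVanish.exists_modular (show Nat.Prime 5 by norm_num)
  have hcong : ∀ (χ : Cfsg.IrrCharacter G) (w : ℤ), (χ : G → ℂ) y = (w : ℂ) → (5 : ℤ) ∣ w - deg χ :=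
    fun χ w hw => cong_int hM χ (Commute.one_right y) (k := 1)
      (by rw [pow_one, ← hy, pow_orderOf_eq_one]) (by simp) (by rw [mul_one]; exact hw)
      (by rw [← deg_cast]; simp)
  have ha5 := hcong _ _ ha
  have hd5 := hcong _ _ hd
  have hp5 := hcong _ _ hp
  have hp5' := hcong _ _ hp'
  rw [T.da] at ha5; rw [T.dd] at hd5; rw [T.dh'] at hp5; rw [T.dh''] at hp5'
  have hnp : ∀ w : ℤ, (5 : ℤ) ∣ w - 231 → 1 ≤ w * w := fun w h => by
    rcases lt_trichotomy w 0 with h' | rfl | h'
    · nlinarith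
    · norm_num at h
    · nlinarith
  have h1 := hnp p (by exact_mod_cast hp5)
  have h2 := hnp p' (by exact_mod_cast hp5')
  have hnd : 4 ≤ d * d := by
    have : d ≤ -2 ∨ 2 ≤ d := by push_cast at hd5; omega
    rcases this with h' | h' <;> nlinarith
  have ha1 : a ≤ 2 := by by_contra hc; nlinarith
  have ha2 : -2 ≤ a := by by_contra hc; nlinarith
  obtain rfl : a = 2 := by push_cast at ha5; omega
  exact ⟨by rw [ha]; norm_num, hj 2 (by norm_num) (by norm_num)⟩


include T in
set_option maxHeartbeats 800000 in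
/-- **The elements of order fifteen.** -/
theorem fifteen {s : G} (hs : orderOf s = 15) : ¬ IsConj s s⁻¹ ∧ IsConj s (s ^ 2) := by
  classical
  haveI : Fact (Nat.Prime 5) := ⟨by norm_num⟩
  set y := s ^ 6 with hy
  set r := s ^ 10 with hr
  have hoy : orderOf y = 5 := by
    rw [hy, orderOf_pow' s (by norm_num), hs]; norm_num
  have hor : orderOf r = 3 := by
    rw [hr, orderOf_pow' s (by norm_num), hs]; norm_num
  obtain ⟨hC, hN⟩ := T.five y hoy
  have hyr : y * r = s := by
    rw [hy, hr, ← pow_add, ← pow_mod_orderOf, hs, show (6 + 10) % 15 = 1 by norm_num, pow_one]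
  have hCs : centralizer ({y} : Set G) = zpowers s := by
    refine (eq_of_le_of_card_ge (zpowers_le.2 (mem_centralizer_singleton_iff.2 ?_)) ?_).symm
    · exact (Commute.self_pow s 6).eq
    · rw [hC, Nat.card_zpowers, hs]
  obtain ⟨n, hn⟩ := Parity.exists_conj_pow (e := 4) (j := 2) hoy (by norm_num) hC hN (by decide)
    (by norm_num) (by norm_num)
  have hpow : ∀ k : ℕ, n ^ k * y * (n ^ k)⁻¹ = y ^ 2 ^ k := fun k =>
    M23Order.ModuleLocal.conj_pow_pow hn k
  have hcomm : Commute r y := by rw [hy, hr]; exact Commute.pow_pow_self s 10 6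
  -- `n` moves `r` inside `⟨s⟩`
  have hnr : n * r * n⁻¹ = r ∨ n * r * n⁻¹ = r⁻¹ := by
    have hm : n * r * n⁻¹ ∈ centralizer ({y} : Set G) := by
      have h2 : Commute (n * r * n⁻¹) (y ^ 2) := by
        rw [← hn]; exact (Commute.conj_iff n).2 hcomm
      have h3 := h2.pow_right 3
      rw [← pow_mul, ← pow_mod_orderOf, hoy, show 2 * 3 % 5 = 1 by norm_num, pow_one] at h3
      exact mem_centralizer_singleton_iff.2 h3.eq
    rw [hCs, mem_zpowers_iff_mem_range_orderOf, hs, Finset.mem_image] at hm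
    obtain ⟨i, hi, e⟩ := hm
    rw [Finset.mem_range] at hi
    have h3 : orderOf (s ^ i) = 3 := by
      rw [e, ← MulAut.conj_apply, MulEquiv.orderOf_eq, hor]
    have hi0 : i ≠ 0 := by rintro rfl; simp at h3
    rw [orderOf_pow' s hi0, hs] at h3
    have hcases : i = 5 ∨ i = 10 := by
      have hd : ∀ j < 15, j ≠ 0 → 15 / Nat.gcd 15 j = 3 → j = 5 ∨ j = 10 := by decide
      exact hd i hi hi0 h3
    rcases hcases with rfl | rfl
    · right
      rw [← e, hr, eq_inv_iff_mul_eq_one, ← pow_add, show 5 + 10 = orderOf s by rw [hs],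
        pow_orderOf_eq_one]
    · left; rw [← e]
  have hinv : n * r * n⁻¹ = r⁻¹ := by
    refine hnr.resolve_left fun h => ?_
    -- otherwise the whole normalizer of `⟨y⟩` centralizes `r`
    have hnC : n ∈ centralizer ({r} : Set G) :=
      mem_centralizer_singleton_iff.2 (mul_inv_eq_iff_eq_mul.1 h)
    set H := centralizer ({r} : Set G) with hH
    set N := normalizer (zpowers y : Set G) with hNdef
    have hnN : n ∈ N := by
      rw [hNdef, Subgroup.mem_normalizer_iff_map_conj_eq, MonoidHom.map_zpowers]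
      show zpowers (n * y * n⁻¹) = zpowers y
      rw [hn]
      refine eq_of_le_of_card_ge (zpowers_le.2 (pow_mem (mem_zpowers y) 2)) ?_
      rw [Nat.card_zpowers, Nat.card_zpowers, orderOf_pow' y (by norm_num), hoy]; norm_num
    have hNH : N ≤ H := by
      refine inf_eq_left.1 (eq_of_le_of_card_ge inf_le_left ?_)
      have h4 : 4 ∣ Nat.card (N ⊓ H : Subgroup G) := by
        have hd := Subgroup.orderOf_dvd_natCard (N ⊓ H) (Subgroup.mem_inf.2 ⟨hnN, hnC⟩)
        refine dvd_trans ?_ hd
        have h1 := hpow (orderOf n)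
        rw [pow_orderOf_eq_one, one_mul, inv_one, mul_one] at h1
        have h2 := pow_eq_pow_iff_modEq.1 ((pow_one y).trans h1)
        rw [hoy, Nat.ModEq, ← Nat.div_add_mod (orderOf n) 4, pow_add, pow_mul, Nat.mul_mod, Nat.pow_mod]
          at h2
        norm_num at h2
        have := Nat.mod_lt (orderOf n) (show 0 < 4 by norm_num)
        interval_cases hq : orderOf n % 4
        all_goals first
          | exact Nat.dvd_of_mod_eq_zero hq
          | (norm_num at h2)
      have h15 : 15 ∣ Nat.card (N ⊓ H : Subgroup G) := by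
        rw [← hs, ← Nat.card_zpowers]
        refine card_dvd_of_le (le_inf ?_ ?_)
        · rw [← hCs]
          intro x hx
          refine centralizer_le_normalizer _ (mem_centralizer_iff.2 fun w hw => ?_)
          obtain ⟨i, rfl⟩ := mem_zpowers_iff.1 hw
          exact ((show Commute x y from mem_centralizer_singleton_iff.1 hx).zpow_right i).symm.eq
        · exact zpowers_le.2 (mem_centralizer_singleton_iff.2 (Commute.self_pow s 10).eq)
      have h60 : 60 ∣ Nat.card (N ⊓ H : Subgroup G) :=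
        (Nat.Coprime.mul_dvd_of_dvd_of_dvd (show Nat.Coprime 4 15 by norm_num) h4 h15)
      rw [hN]
      exact Nat.le_of_dvd Nat.card_pos h60
    have hH180 : Nat.card H = 180 := (T.three_column hcard (g := r) (Or.inl hor)).2.1
    have hyH : y ∈ H := mem_centralizer_singleton_iff.2 hcomm.symm.eq
    have hP : Nat.card ((zpowers y).subgroupOf H) = 5 ^ (Nat.card H).factorization 5 := by
      rw [hH180, Nat.card_congr (subgroupOfEquivOfLe (zpowers_le.2 hyH)).toEquiv, Nat.card_zpowers, hoy,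
        Nat.factorization_def _ (by norm_num), show (180 : ℕ) = 5 ^ 1 * 36 by norm_num,
        padicValNat.mul (by norm_num) (by norm_num), padicValNat.prime_pow,
        padicValNat.eq_zero_of_not_dvd (by norm_num)]
      norm_num
    let P : Sylow 5 H := Sylow.ofCard _ hP
    have hnorm : normalizer (P : Set H) = N.subgroupOf H := by
      ext x
      rw [mem_subgroupOf]
      show x ∈ normalizer (((zpowers y).subgroupOf H : Subgroup H) : Set H) ↔ (x : G) ∈ N
      rw [mem_normalizer_iff, hNdef, mem_normalizer_iff]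
      constructor
      · intro hx w
        constructor
        · intro hw
          exact mem_subgroupOf.1 ((hx ⟨w, (zpowers_le.2 hyH) hw⟩).1 (mem_subgroupOf.2 hw))
        · intro hw
          have hwH : w ∈ H := by
            have := H.mul_mem (H.mul_mem (H.inv_mem x.2) ((zpowers_le.2 hyH) hw)) x.2
            simpa [mul_assoc] using this
          exact mem_subgroupOf.1 ((hx ⟨w, hwH⟩).2 (mem_subgroupOf.2 hw))
      · intro hx w
        rw [mem_subgroupOf, mem_subgroupOf]
        exact hx w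
    have h1 := Sylow.card_eq_index_normalizer P
    have h2 := (N.subgroupOf H).card_mul_index
    rw [Nat.card_congr (subgroupOfEquivOfLe hNH).toEquiv, hN, hH180] at h2
    rw [hnorm] at h1
    have h3 := card_sylow_modEq_one 5 H
    rw [h1, show (N.subgroupOf H).index = 3 by omega] at h3
    exact absurd h3 (by decide)
  refine ⟨fun hc => ?_, isConj_iff.2 ⟨n, ?_⟩⟩
  · obtain ⟨u, hu⟩ := isConj_iff.1 hc
    have huy : u * y * u⁻¹ = y⁻¹ := by rw [hy, ← conj_pow, hu, inv_pow]
    have hur : u * r * u⁻¹ = r⁻¹ := by rw [hr, ← conj_pow, hu, inv_pow]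
    have hn2r : n * n * r * (n * n)⁻¹ = r := by
      rw [show n * n * r * (n * n)⁻¹ = n * (n * r * n⁻¹) * n⁻¹ by group, hinv,
        show n * r⁻¹ * n⁻¹ = (n * r * n⁻¹)⁻¹ by group, hinv, inv_inv]
    have hy4 : y ^ 4 = y⁻¹ := by
      rw [eq_inv_iff_mul_eq_one, ← pow_succ, show 4 + 1 = orderOf y by rw [hoy], pow_orderOf_eq_one]
    have hn2y : n * n * y * (n * n)⁻¹ = y⁻¹ := by
      rw [← sq, hpow 2, show 2 ^ 2 = 4 by norm_num, hy4]
    have hw : u⁻¹ * (n * n) ∈ zpowers s := by
      rw [← hCs, mem_centralizer_singleton_iff]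
      calc u⁻¹ * (n * n) * y = u⁻¹ * (n * n * y * (n * n)⁻¹) * (n * n) := by group
        _ = u⁻¹ * (u * y * u⁻¹) * (n * n) := by rw [hn2y, huy]
        _ = y * (u⁻¹ * (n * n)) := by group
    obtain ⟨i, hi⟩ := mem_zpowers_iff.1 hw
    have hwr : Commute (u⁻¹ * (n * n)) r := by
      rw [← hi, hr]; exact (Commute.refl s).zpow_left i |>.pow_right 10
    have h5 : u⁻¹ * r * u = r := by
      calc u⁻¹ * r * u = u⁻¹ * (n * n * r * (n * n)⁻¹) * u := by rw [hn2r]
        _ = (u⁻¹ * (n * n)) * r * (u⁻¹ * (n * n))⁻¹ := by group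
        _ = r := by rw [hwr.eq, mul_inv_cancel_right]
    have h6 : u * r * u⁻¹ = r := by
      calc u * r * u⁻¹ = u * (u⁻¹ * r * u) * u⁻¹ := by rw [h5]
        _ = r := by group
    exact Parity.inv_ne_self (x := r) (by rw [hor]; norm_num) (hur.symm.trans h6)
  · have hr2 : r⁻¹ = r ^ 2 := by
      rw [inv_eq_iff_mul_eq_one, ← pow_succ', show 2 + 1 = orderOf r by rw [hor], pow_orderOf_eq_one]
    rw [← hyr, show n * (y * r) * n⁻¹ = (n * y * n⁻¹) * (n * r * n⁻¹) by group, hn, hinv, hr2,
      hcomm.symm.mul_pow]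

end Chars

/-- **The character of degree 22.** -/
theorem char22_of_chars {G : Type u} [Group G] [Finite G] [IsSimpleGroup G] (L : Local G)
    (T : Chars G) : Char22 T.a := by
  classical
  have hcard := L.card_G
  have hone : ∀ s : G, orderOf s = 1 → (T.a : G → ℂ) s = 22 := fun s hs => by
    rw [orderOf_eq_one_iff.1 hs, ← deg_cast, T.da]; norm_num
  -- elements of order seven and twenty-three
  have hseven : ∀ s : G, orderOf s = 7 → ¬ IsConj s s⁻¹ ∧ IsConj s (s ^ 2) := by
    intro s hs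
    obtain ⟨c, -, hC, hN⟩ := T.seven s hs
    have hN' : Nat.card (normalizer (zpowers s : Set G)) = 7 * c * 3 := by rw [hN]; ring
    exact ⟨Parity.not_isConj_inv (by decide) (Parity.inv_ne_self (by rw [hs]; norm_num)) hC hN',
      isConj_iff.2 (Parity.exists_conj_pow hs (by norm_num) hC hN' (by decide) (by norm_num)
        (by norm_num))⟩
  have h23 : ∀ s : G, orderOf s = 23 → ¬ IsConj s s⁻¹ ∧ IsConj s (s ^ 2) := fun s hs =>
    have hC := L.cen23 s hs
    have hN : Nat.card (normalizer (zpowers s : Set G)) = 23 * 11 := L.nor23 s hs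
    ⟨Parity.not_isConj_inv (by decide) (Parity.inv_ne_self (by rw [hs]; norm_num)) hC hN,
      isConj_iff.2 (Parity.exists_conj_pow hs (by norm_num) hC hN (by decide) (by norm_num)
        (by norm_num))⟩
  refine ⟨by rw [← deg_cast, T.da]; norm_num, fun g => T.exists_int (by simp [T.da]) g,
    fun z hz => (T.val23 z hz).1, fun s hs hreal => ?_, fun s hs => ?_⟩
  · have h := Parity.odd_cases L T hs
    simp only [List.mem_cons, List.not_mem_nil, or_false] at h
    rcases h with h | h | h | h | h | h | h | h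
    · exact ⟨11, by rw [hone s h]; norm_num⟩
    · exact ⟨2, by rw [(T.three_column hcard (Or.inl h)).1]; norm_num⟩
    · exact ⟨1, by rw [(T.five_value hcard h).1]; norm_num⟩
    · exact absurd hreal (hseven s h).1
    · exact ⟨2, by rw [(T.three_column hcard (Or.inr h)).1]; norm_num⟩
    · exact absurd hreal (Parity.not_isConj_inv (e := 5) (c := 11) (by decide)
        (Parity.inv_ne_self (by rw [h]; norm_num)) (L.cen11 s h) (L.nor11 s h))
    · exact absurd hreal (T.fifteen hcard h).1
    · exact absurd hreal (h23 s h).1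
  · have h := Parity.odd_cases L T hs
    simp only [List.mem_cons, List.not_mem_nil, or_false] at h
    rcases h with h | h | h | h | h | h | h | h
    · exact Or.inr (by rw [orderOf_eq_one_iff.1 h, one_pow])
    · refine Or.inr ?_
      have h2 : s ^ 2 = s⁻¹ := by
        rw [eq_inv_iff_mul_eq_one, ← pow_succ, show 2 + 1 = orderOf s by rw [h], pow_orderOf_eq_one]
      rw [h2]; exact (T.three_column hcard (Or.inl h)).2.2
    · exact Or.inr (T.five_value hcard h).2
    · exact Or.inr (hseven s h).2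
    · -- there is no element of order nine
      exfalso
      obtain ⟨-, hc, -⟩ := T.three_column hcard (Or.inr h)
      haveI : Fact (Nat.Prime 5) := ⟨by norm_num⟩
      obtain ⟨⟨y, hy⟩, ho⟩ := exists_prime_orderOf_dvd_card' (G := centralizer ({s} : Set G)) 5
        (show 5 ∣ cen s by rw [hc]; norm_num)
      rw [Subgroup.orderOf_mk] at ho
      have := Subgroup.orderOf_dvd_natCard (centralizer ({y} : Set G))
        (mem_centralizer_singleton_iff.2 (mem_centralizer_singleton_iff.1 hy).symm)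
      rw [(T.five y ho).1, h] at this
      norm_num at this
    · exact Or.inl h
    · exact Or.inr (T.fifteen hcard h).2
    · exact Or.inr (h23 s h).2

end Cfsg.Agent.M23Order
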