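import Cfsg.Agent.Lib.M23Order.Table
import Cfsg.Agent.Lib.M23Order.Parity
import Cfsg.Agent.Lib.M23Order.Module
import Cfsg.Agent.Lib.M23Order.Identify

/-!
# Simple groups of order 10200960: the character data and the isomorphism
-/

set_option autoImplicit false
set_option linter.style.haveILetI false
set_option linter.unusedSectionVars false

namespace Cfsg.Agent.M23Order

open Subgroup
open Cfsg.Agent.Characters Cfsg.Agent.Blocks Cfsg.Agent.PrimeBlock
open Cfsg.Agent.SmallSimple
open Cfsg.Agent.M12Order (cen iv iv_spec)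
open Cfsg.Agent.M22Order (PRow Row exists_perm_map sylow_centralizer_eq)

universe u

variable {G : Type u} [Group G] [Finite G] [IsSimpleGroup G] (hcard : Nat.card G = 10200960)

include hcard

theorem sylow_facts {q : ℕ} [Fact q.Prime] (hq : q = 5 ∨ q = 7 ∨ q = 11 ∨ q = 23) {z : G}
    (hz : orderOf z = q) {P : Sylow q G} {C N : ℕ}
    (hC : Nat.card (centralizer ((P : Subgroup G) : Set G)) = C)
    (hN : Nat.card (normalizer ((P : Subgroup G) : Set G)) = N) :
    Nat.card (centralizer ({z} : Set G)) = C ∧ Nat.card (normalizer (zpowers z : Set G)) = N := by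
  obtain ⟨Q, hQ⟩ := exists_sylow_eq hcard hq hz
  constructor
  · rw [sylow_centralizer_eq (card_sylow hcard hq Q) (by rw [hQ]; exact mem_zpowers z)
      (fun h => by rw [h, orderOf_one] at hz; omega), card_centralizer_sylow P Q, hC]
  · rw [← hQ]
    have h1 := Basic.card_normalizer_mul Q
    have h2 := Basic.card_normalizer_mul P
    rw [← h2, hN] at h1
    exact Nat.eq_of_mul_eq_mul_right Nat.card_pos h1

/-- The subgroups of order 23 and 11. -/
theorem local_of_order : Local G := by
  obtain ⟨P, D, R, hC, hN, -⟩ := exists_row_twentythree hcard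
  obtain ⟨P', D', R', hC', hN', -⟩ := exists_row_eleven hcard
  exact ⟨hcard, fun z hz => (sylow_facts hcard (by omega) hz hC hN).1,
    fun z hz => (sylow_facts hcard (by omega) hz hC hN).2,
    fun z hz => (sylow_facts hcard (by omega) hz hC' hN').1,
    fun z hz => (sylow_facts hcard (by omega) hz hC' hN').2⟩

/-- **The seventeen irreducible characters.** -/
theorem exists_chars : Nonempty (Chars G) := by
  classical
  obtain ⟨T⟩ := exists_table hcard
  have hG := not_comm hcard
  have hp : (7 : ℕ) = 5 ∨ (7 : ℕ) = 7 ∨ (7 : ℕ) = 11 ∨ (7 : ℕ) = 23 := by omega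
  set L16 := [T.a, T.b, T.b', T.c, T.h, T.h', T.h'', T.d, T.f, T.f', T.g, T.g', T.k, T.k', T.m, T.n]
    with hL16
  have hdegs : L16.map deg = degs17 := by
    simp [hL16, degs17, T.da, T.db, T.db', T.dc, T.dh, T.dh', T.dh'', T.dd, T.df, T.df', T.dg, T.dg',
      T.dk, T.dk', T.dm, T.dn]
  have hmem16 : ∀ χ : Cfsg.IrrCharacter G, χ ≠ trivIrr G → χ ∈ L16 := fun χ hχ =>
    (List.mem_cons.1 (T.all χ)).resolve_left hχ
  obtain ⟨Q⟩ : Nonempty (Sylow 7 G) := inferInstance
  obtain ⟨E, htE, htsE⟩ := exists_pblock' hG (by norm_num) Q (card_sylow hcard hp Q)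
  obtain ⟨c, hc, hN, -, hmem⟩ := sylow_params hcard hp E
  obtain ⟨S, hS⟩ := exists_prow hcard hp htE htsE hc ok17 fun χ _ hne => by
    rw [ok17, List.contains_iff_mem, ← hdegs]
    exact List.mem_map.2 ⟨χ, hmem16 χ hne, rfl⟩
  have h5 : c % 5 ≠ 0 := by
    intro h
    obtain ⟨x, hx1, hx⟩ := E.exists_ne_one
    have hcx : 5 ∣ cen x := by
      rw [cen, sylow_centralizer_eq E.card_P hx hx1, hc]
      exact (Nat.dvd_of_mod_eq_zero h).mul_left 7
    obtain ⟨⟨y, hyC⟩, hy⟩ := exists_prime_orderOf_dvd_card' (G := centralizer ({x} : Set G)) 5 hcx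
    rw [Subgroup.orderOf_mk] at hy
    have h15 := (five_centralizer hcard hy).1
    have h7 := orderOf_dvd_natCard (⟨x, mem_centralizer_singleton_iff.2
      (mem_centralizer_singleton_iff.1 hyC).symm⟩ : centralizer ({y} : Set G))
    rw [Subgroup.orderOf_mk, E.orderOf_eq hx hx1, h15] at h7
    norm_num at h7
  have key := List.all_eq_true.1 ec7_17 (E.e, c) hmem
  simp only [Bool.or_eq_true, beq_iff_eq, List.all_eq_true] at key
  rcases key with ((h | h) | h) | key
  · exact absurd h h5
  · exact absurd h (not_dvd_index_11 hcard (Or.inr rfl) hc E)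
  · exact absurd h (not_dvd_index_23 hcard (Or.inr (Or.inl rfl)) hc E)
  have hfit : fit17 (6 / E.e) S.M = true := by
    rw [fit17, show 6 / E.e = S.ys.length from S.len_ys.symm, dgs_eq S, List.all_eq_true]
    intro d _
    rw [Nat.ble_eq, ← hdegs]
    obtain ⟨l, hl, hsub⟩ := List.subperm_of_subset S.nodup
      (fun χ hχ => hmem16 χ (S.ne_triv hχ) : S.all ⊆ L16)
    exact ((hl.map deg).count_eq d).symm.le.trans ((hsub.map deg).count_le d)
  have k2 := key S.M hS
  rw [hfit] at k2
  simp only [Bool.not_true, Bool.false_eq_true, false_or, Bool.and_eq_true, beq_iff_eq,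
    List.contains_iff_mem, List.isPerm_iff] at k2
  obtain ⟨⟨he, hc3⟩, hM⟩ := k2
  obtain ⟨l, hl, hlM⟩ := exists_perm_map hM.symm
  set U := S.perm hl
  have hUM : U.M = [-1035, 2024] := hlM
  have hlen : U.cs.length = 2 := by rw [U.len_cs, he]
  obtain ⟨x₁, x₂, hcs⟩ := List.length_eq_two.1 hlen
  rw [Row.M, hcs] at hUM
  simp only [List.map_cons, List.map_nil, List.cons.injEq, and_true] at hUM
  obtain ⟨w1, d1⟩ : U.w x₁ = -1 ∧ deg x₁ = 1035 := by
    rcases U.w_eq x₁ (by simp [hcs]) with e | e <;> rw [e] at hUM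
    · omega
    · exact ⟨e, by omega⟩
  obtain ⟨w2, d2⟩ : U.w x₂ = 1 ∧ deg x₂ = 2024 := by
    rcases U.w_eq x₂ (by simp [hcs]) with e | e <;> rw [e] at hUM
    · exact ⟨e, by omega⟩
    · omega
  have huniq : ∀ χ : Cfsg.IrrCharacter G, χ ≠ trivIrr G →
      (deg χ = 1035 → χ = T.m) ∧ (deg χ = 2024 → χ = T.n) ∧ (deg χ = 990 → χ = T.k ∨ χ = T.k') := by
    intro χ hχ
    have h := hmem16 χ hχ
    simp only [hL16, List.mem_cons, List.not_mem_nil, or_false] at h
    rcases h with rfl | rfl | rfl | rfl | rfl | rfl | rfl | rfl | rfl | rfl | rfl | rfl | rfl | rfl | rfl | rfl <;>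
      simp [T.da, T.db, T.db', T.dc, T.dh, T.dh', T.dh'', T.dd, T.df, T.df', T.dg, T.dg', T.dk, T.dk',
        T.dm, T.dn]
  have hx1 : x₁ = T.m := (huniq x₁ (U.ne_triv (List.mem_append_left _ (by simp [hcs])))).1 d1
  have hx2 : x₂ = T.n := (huniq x₂ (U.ne_triv (List.mem_append_left _ (by simp [hcs])))).2.1 d2
  obtain ⟨θ, θ', hys⟩ := List.length_eq_two.1 (show U.ys.length = 2 by rw [U.len_ys, he])
  have hrel : ∀ χ ∈ U.ys, U.δ * (deg χ : ℤ) = 990 := fun χ hχ => by
    rw [U.rel χ hχ, hcs]
    simp only [List.map_cons, List.map_nil, List.sum_cons, List.sum_nil, hUM.1, hUM.2]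
    norm_num
  have hδ : U.δ = 1 := by
    have := hrel θ (by simp [hys])
    rcases U.δ_eq with e | e
    · exact e
    · rw [e] at this; omega
  have hkk : (θ = T.k ∧ θ' = T.k') ∨ (θ = T.k' ∧ θ' = T.k) := by
    have hd : ∀ χ ∈ U.ys, χ = T.k ∨ χ = T.k' := fun χ hχ =>
      (huniq χ (U.ne_triv (List.mem_append_right _ hχ))).2.2 (by
        have := hrel χ hχ; rw [hδ] at this; omega)
    have hne : θ ≠ θ' := by
      have := (List.nodup_append.1 U.nodup).2.1
      rw [hys] at this; simpa using this
    rcases hd θ (by simp [hys]) with e | e <;> rcases hd θ' (by simp [hys]) with e' | e'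
    · exact absurd (e.trans e'.symm) hne
    · exact Or.inl ⟨e, e'⟩
    · exact Or.inr ⟨e, e'⟩
    · exact absurd (e.trans e'.symm) hne
  have ht := T.ord_t
  have hval : ∀ (χ : Cfsg.IrrCharacter G) {v : ℤ}, iv T.t χ = v → (χ : G → ℂ) T.t = (v : ℂ) :=
    fun χ v h => by rw [iv_spec hG ht χ, h]
  exact ⟨{
    a := T.a, b := T.b, b' := T.b', c := T.c, h := T.h, h' := T.h', h'' := T.h'', d := T.d
    f := T.f, f' := T.f', g := T.g, g' := T.g', k := T.k, k' := T.k', m := T.m, n := T.n
    da := T.da, db := T.db, db' := T.db', dc := T.dc, dh := T.dh, dh' := T.dh', dh'' := T.dh''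
    dd := T.dd, df := T.df, df' := T.df', dg := T.dg, dg' := T.dg', dk := T.dk, dk' := T.dk'
    dm := T.dm, dn := T.dn
    nodup := T.nd
    all_mem := T.all
    rel23 := T.rel23
    rel11 := T.rel11
    rel7 := fun x hx => by
      have r := U.relC θ (by simp [hys]) x hx
      have r' := U.relC θ' (by simp [hys]) x hx
      rw [hcs] at r r'
      simp only [List.map_cons, List.map_nil, List.sum_cons, List.sum_nil, w1, w2, hδ] at r r'
      rw [hx1, hx2] at r r'
      push_cast at r r'
      rcases hkk with ⟨e, e'⟩ | ⟨e, e'⟩ <;> subst e e'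
      · exact ⟨by linear_combination r - r', by linear_combination r⟩
      · exact ⟨by linear_combination r' - r, by linear_combination r'⟩
    rel5 := T.rel5
    val23 := T.val23
    val5 := T.val5
    t := T.t
    ord_t := ht
    cen_t := T.cen_t
    val_t := ⟨by simpa using hval _ T.va, by simpa using hval _ T.vb, by simpa using hval _ T.vb',
      by simpa using hval _ T.vc, by simpa using hval _ T.vh, by simpa using hval _ T.vh',
      by simpa using hval _ T.vh'', by simpa using hval _ T.vd, by simpa using hval _ T.vf,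
      by simpa using hval _ T.vf', by simpa using hval _ T.vg, by simpa using hval _ T.vg',
      by simpa using hval _ T.vk, by simpa using hval _ T.vk', by simpa using hval _ T.vm,
      by simpa using hval _ T.vn⟩
    five := fun y hy => five_centralizer hcard hy
    seven := fun y hy => by
      obtain ⟨h1, h2⟩ := sylow_facts hcard hp hy hc hN
      exact ⟨c, hc3, h1, h2.trans (by rw [he]; ring)⟩ }⟩

/-- A representation of dimension eleven in characteristic two. -/
theorem hasRep11_of_order : HasRep11 G := by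
  obtain ⟨T⟩ := exists_chars hcard
  exact hasRep11_of_char22 (local_of_order hcard) (char22_of_chars (local_of_order hcard) T)

omit hcard in
/-- **Simple groups of order 10200960 are isomorphic.** -/
theorem nonempty_mulEquiv_of_order {H : Type*} [Group H] [Finite H] [IsSimpleGroup H]
    (hG : Nat.card G = 10200960) (hH : Nat.card H = 10200960) : Nonempty (G ≃* H) :=
  nonempty_mulEquiv (local_of_order hG) (hasRep11_of_order hG) (local_of_order hH)
    (hasRep11_of_order hH)

end Cfsg.Agent.M23Order
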