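import Cfsg.Agent.Lib.M23Order.Data

/-!
# The searches at the primes 5 and 11 when 11 is no degree
-/

set_option autoImplicit false
set_option maxHeartbeats 4000000

namespace Cfsg.Agent.M23Order

theorem ec5 : ((ecList 5).all fun x => (x.2 % 23 == 0) || (x.2 % 11 == 0) || (x == (4, 3)) ||
    (x == (4, 8)) || (rows okDeg 5 x.1 x.2).isEmpty) = true := by
  decide +kernel

/-- The degrees of a row. -/
def dgs (K : ℕ) (M : List ℤ) : List ℕ :=
  M.map Int.natAbs ++ List.replicate K (1 + M.sum).natAbs

/-- A row at 5 and a row at 11 fit together. -/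
def join5 (T L : List ℤ) : Bool :=
  let a := (dgs 1 T).filter fun d => d % 11 != 0
  (a.all fun d => Nat.ble (a.count d) ((dgs 2 L).count d)) && excOK (dgs 1 T ++ dgs 2 L)

theorem join5_ok : (([3, 8] : List ℕ).all fun c => (rows okDeg 5 4 c).all fun T =>
    (rows okDeg 11 5 1).all fun L => !join5 T L ||
      ((c == 3) && T.isPerm [231, 896, 896] && (L.isPerm rowA || L.isPerm rowB))) = true := by
  decide +kernel

end Cfsg.Agent.M23Order
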