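import Cfsg.Agent.Lib.M23Order.NoEleven
import Cfsg.Agent.Lib.M23Order.ScanFive

/-!
# Simple groups of order 10200960: the principal blocks at 5 and 11
-/

set_option autoImplicit false
set_option linter.style.haveILetI false
set_option linter.unusedSectionVars false

namespace Cfsg.Agent.M23Order

open Subgroup
open Cfsg.Agent.Characters Cfsg.Agent.Blocks Cfsg.Agent.PrimeBlock
open Cfsg.Agent.SmallSimple
open Cfsg.Agent.M12Order (cen iv iv_spec)
open Cfsg.Agent.M22Order (PRow Row exists_perm_map sylow_centralizer_eq)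

universe u

variable {G : Type u} [Group G] [Finite G]

theorem dgs_eq {p : ℕ} [Fact p.Prime] {P : Sylow p G} {D : PBlock P} (R : PRow D) :
    dgs R.ys.length R.M = R.all.map deg := by
  rw [dgs, Row.all, List.map_append]
  congr 1
  · rw [Row.M, List.map_map]
    exact List.map_congr_left fun χ hχ => by
      rw [Function.comp_apply, Row.natAbs_signed (R.w_eq χ hχ), Int.natAbs_natCast]
  · symm
    refine List.eq_replicate_iff.2 ⟨List.length_map _, fun b hb => ?_⟩
    obtain ⟨θ, hθ, rfl⟩ := List.mem_map.1 hb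
    rw [Row.M, ← R.rel θ hθ, Row.natAbs_signed R.δ_eq, Int.natAbs_natCast]

variable [IsSimpleGroup G] (hcard : Nat.card G = 10200960)

include hcard

theorem not_dvd_index_11 {p : ℕ} [Fact p.Prime] (hp : p = 5 ∨ p = 7) {P : Sylow p G} {c : ℕ}
    (hC : Nat.card (centralizer ((P : Subgroup G) : Set G)) = p * c) (D : PBlock P) :
    c % 11 ≠ 0 := fun h => by
  obtain ⟨x, hx1, hx⟩ := D.exists_ne_one
  refine not_dvd_cen_11 hcard hx1 (by
    rw [D.orderOf_eq hx hx1]; rcases hp with rfl | rfl <;> norm_num) ?_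
  rw [cen, sylow_centralizer_eq D.card_P hx hx1, hC]
  exact (Nat.dvd_of_mod_eq_zero h).mul_left p

/-- What is known of the principal blocks at 11 and 5. -/
structure Blocks511 (G : Type u) [Group G] [Finite G] where
  P : Sylow 11 G
  D : PBlock P
  R : PRow D
  hC : Nat.card (centralizer ((P : Subgroup G) : Set G)) = 11
  he : D.e = 5
  hM : R.M = rowA ∨ R.M = rowB
  Q : Sylow 5 G
  E : PBlock Q
  S : PRow E
  hQC : Nat.card (centralizer ((Q : Subgroup G) : Set G)) = 15
  hQN : Nat.card (normalizer ((Q : Subgroup G) : Set G)) = 60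
  hQe : E.e = 4
  hSM : S.M = [231, 896, 896]

theorem exists_blocks : Nonempty (Blocks511 G) := by
  classical
  obtain ⟨P, D, R₀, hC, -, he, -, ht, hts⟩ := exists_row_eleven hcard
  have hp11 : (11 : ℕ) = 5 ∨ (11 : ℕ) = 7 ∨ (11 : ℕ) = 11 ∨ (11 : ℕ) = 23 := by omega
  have hp : (5 : ℕ) = 5 ∨ (5 : ℕ) = 7 ∨ (5 : ℕ) = 11 ∨ (5 : ℕ) = 23 := by omega
  obtain ⟨R, hR⟩ := exists_prow hcard hp11 ht hts (c := 1) (by rw [hC]) okDeg
    fun χ _ hne => deg_ok hcard hne
  rw [he] at hR
  obtain ⟨Q⟩ : Nonempty (Sylow 5 G) := inferInstance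
  obtain ⟨E, htE, htsE⟩ := exists_pblock' (not_comm hcard) (by norm_num) Q (card_sylow hcard hp Q)
  obtain ⟨c, hc, hN, -, hmem⟩ := sylow_params hcard hp E
  obtain ⟨S, hS⟩ := exists_prow hcard hp htE htsE hc okDeg fun χ _ hne => deg_ok hcard hne
  have h23 := not_dvd_index_23 hcard (Or.inl rfl) hc E
  have h11 := not_dvd_index_11 hcard (Or.inl rfl) hc E
  have key := List.all_eq_true.1 ec5 (E.e, c) hmem
  simp only [Bool.or_eq_true, beq_iff_eq, Prod.mk.injEq, List.isEmpty_iff] at key
  have hec : E.e = 4 ∧ (c = 3 ∨ c = 8) := by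
    rcases key with (((h | h) | h) | h) | h
    · exact absurd h h23
    · exact absurd h h11
    · exact ⟨h.1, Or.inl h.2⟩
    · exact ⟨h.1, Or.inr h.2⟩
    · rw [h] at hS; exact absurd hS (by simp)
  rw [hec.1] at hS
  have hKR : R.ys.length = 2 := by rw [R.len_ys, he]
  have hKS : S.ys.length = 1 := by rw [S.len_ys, hec.1]
  have hjoin : join5 S.M R.M = true := by
    simp only [join5, Bool.and_eq_true, List.all_eq_true, Nat.ble_eq]
    have e1 := dgs_eq S
    have e2 := dgs_eq R
    rw [hKS] at e1; rw [hKR] at e2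
    rw [e1, e2, ← List.map_append]
    refine ⟨fun d _ => ?_, deg_excOK hcard _ fun h => ?_⟩
    · by_cases hd : d % 11 = 0
      · rw [List.count_eq_zero.2]
        · exact Nat.zero_le _
        · simp [List.mem_filter, hd]
      · rw [List.count_filter (by simpa using hd)]
        rw [List.count_eq_countP, List.count_eq_countP, List.countP_map, List.countP_map,
          List.countP_eq_length_filter, List.countP_eq_length_filter]
        refine List.Subperm.length_le (List.subperm_of_subset (S.nodup.filter _) fun χ hχ => ?_)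
        rw [List.mem_filter] at hχ ⊢
        refine ⟨R.mem_all_of_not_dvd hC (S.ne_triv hχ.1) fun h => hd ?_, hχ.2⟩
        rw [Function.comp_apply, beq_iff_eq] at hχ
        rw [← hχ.2]
        exact Nat.mod_eq_zero_of_dvd h
    · rcases List.mem_append.1 h with h | h
      · exact S.ne_triv h rfl
      · exact R.ne_triv h rfl
  have k := List.all_eq_true.1 join5_ok c (by rcases hec.2 with rfl | rfl <;> simp)
  have k2 := List.all_eq_true.1 (List.all_eq_true.1 k S.M hS) R.M hR
  rw [hjoin] at k2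
  simp only [Bool.not_true, Bool.false_or, Bool.and_eq_true, beq_iff_eq, Bool.or_eq_true,
    List.isPerm_iff] at k2
  obtain ⟨⟨hc3, hSp⟩, hRp⟩ := k2
  obtain ⟨lS, hlS, hlSM⟩ := exists_perm_map (m := ([231, 896, 896] : List ℤ)) (l := S.cs) hSp.symm
  obtain ⟨m, hm, hmp⟩ : ∃ m : List ℤ, (m = rowA ∨ m = rowB) ∧ m.Perm R.M := by
    rcases hRp with h | h
    · exact ⟨_, Or.inl rfl, h.symm⟩
    · exact ⟨_, Or.inr rfl, h.symm⟩
  obtain ⟨lR, hlR, hlRM⟩ := exists_perm_map (m := m) (l := R.cs) hmp
  subst hc3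
  exact ⟨{
    P := P, D := D, R := R.perm hlR, hC := hC, he := he
    hM := by
      have e : (R.perm hlR).M = m := hlRM
      rw [e]; exact hm
    Q := Q, E := E, S := S.perm hlS
    hQC := hc, hQN := by rw [hN, hec.1]
    hQe := hec.1
    hSM := hlSM }⟩

theorem five_centralizer {y : G} (hy : orderOf y = 5) :
    Nat.card (centralizer ({y} : Set G)) = 15 ∧ Nat.card (normalizer (zpowers y : Set G)) = 60 := by
  obtain ⟨B⟩ := exists_blocks hcard
  have hp : (5 : ℕ) = 5 ∨ (5 : ℕ) = 7 ∨ (5 : ℕ) = 11 ∨ (5 : ℕ) = 23 := by omega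
  obtain ⟨Q, hQ⟩ := exists_sylow_eq hcard hp hy
  constructor
  · rw [sylow_centralizer_eq (card_sylow hcard hp Q) (by rw [hQ]; exact mem_zpowers y)
      (fun h => by rw [h, orderOf_one] at hy; omega), card_centralizer_sylow B.Q Q, B.hQC]
  · rw [← hQ]
    have h1 := Basic.card_normalizer_mul Q
    have h2 := Basic.card_normalizer_mul B.Q
    rw [← h2, B.hQN] at h1
    exact Nat.eq_of_mul_eq_mul_right Nat.card_pos h1

end Cfsg.Agent.M23Order
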