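import Mathlib
import Cfsg.Prelude.Def_Characters

/-!
# What the identification of a simple group of order 10200960 rests on

The centralizers and normalizers of the subgroups of order 23 and 11, the character of degree 22,
and the representation of dimension 11 in characteristic two which comes from it.
-/

set_option autoImplicit false

namespace Cfsg.Agent.M23Order

open Subgroup

universe u

/-- The subgroups of order 23 and 11. -/
structure Local (G : Type u) [Group G] : Prop where
  card_G : Nat.card G = 10200960
  cen23 : ∀ z : G, orderOf z = 23 → Nat.card (centralizer ({z} : Set G)) = 23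
  nor23 : ∀ z : G, orderOf z = 23 → Nat.card (normalizer (zpowers z : Set G)) = 253
  cen11 : ∀ u : G, orderOf u = 11 → Nat.card (centralizer ({u} : Set G)) = 11
  nor11 : ∀ u : G, orderOf u = 11 → Nat.card (normalizer (zpowers u : Set G)) = 55

/-- A character of degree 22 with the properties needed modulo two, and the fusion of the elements
of odd order with their squares. -/
structure Char22 {G : Type u} [Group G] [Finite G] (χ : Cfsg.IrrCharacter G) : Prop where
  deg : (χ : G → ℂ) 1 = 22
  int : ∀ g : G, ∃ m : ℤ, (χ : G → ℂ) g = (m : ℂ)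
  val23 : ∀ z : G, orderOf z = 23 → (χ : G → ℂ) z = -1
  even : ∀ s : G, Odd (orderOf s) → IsConj s s⁻¹ → ∃ m : ℤ, (χ : G → ℂ) s = 2 * (m : ℂ)
  sq : ∀ s : G, Odd (orderOf s) → orderOf s = 11 ∨ IsConj s (s ^ 2)

/-- A faithful representation of dimension 11 in characteristic two with traces in the prime field,
no element of order 23 fixing a vector. -/
def HasRep11 (G : Type u) [Group G] : Prop :=
  ∃ (k : Type) (_ : Field k) (_ : CharP k 2) (ρ : G →* GL (Fin 11) k), Function.Injective ρ ∧
    (∀ g : G, Matrix.trace (ρ g : Matrix (Fin 11) (Fin 11) k) = 0 ∨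
      Matrix.trace (ρ g : Matrix (Fin 11) (Fin 11) k) = 1) ∧
    ∀ z : G, orderOf z = 23 →
      ∑ j ∈ Finset.range 23, (ρ z : Matrix (Fin 11) (Fin 11) k) ^ j = 0

end Cfsg.Agent.M23Order
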