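import Cfsg.Agent.Lib.M23Order.Five
import Cfsg.Agent.Lib.M23Order.ScanL

/-!
# Simple groups of order 10200960: the blocks at 11 and 5 at a central involution
-/

set_option autoImplicit false
set_option linter.style.haveILetI false
set_option linter.unusedSectionVars false

namespace Cfsg.Agent.M23Order

open Subgroup
open Cfsg.Agent.Characters Cfsg.Agent.Blocks Cfsg.Agent.PrimeBlock
open Cfsg.Agent.SmallSimple
open Cfsg.Agent.M12Order (cen iv iv_spec)
open Cfsg.Agent.M22Order (PRow Row forceLL_eq forceL_eq forceI_eq)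

universe u

theorem mem_cs128 : (divs.all fun C => (C % 128 != 0) || (C % 11 == 0) || (C % 23 == 0) ||
    cs128.contains C) = true := by
  decide +kernel

/-- The members of the principal blocks at 11 and 5 and their values at a central involution. -/
structure Core (G : Type u) [Group G] [Finite G] where
  t : G
  ord_t : orderOf t = 2
  cen_t : cen t = 2688
  b : Cfsg.IrrCharacter G
  b' : Cfsg.IrrCharacter G
  m : Cfsg.IrrCharacter G
  c : Cfsg.IrrCharacter G
  g : Cfsg.IrrCharacter G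
  g' : Cfsg.IrrCharacter G
  h : Cfsg.IrrCharacter G
  n : Cfsg.IrrCharacter G
  db : deg b = 45
  db' : deg b' = 45
  dm : deg m = 1035
  dc : deg c = 230
  dg : deg g = 896
  dg' : deg g' = 896
  dh : deg h = 231
  dn : deg n = 2024
  nodup : [b, b', g, g', h, c, m, n].Nodup
  ne_one : trivIrr G ∉ [b, b', g, g', h, c, m, n]
  vb : iv t b = -3
  vb' : iv t b' = -3
  vm : iv t m = 27
  vc : iv t c = 22
  vg : iv t g = 0
  vg' : iv t g' = 0
  vh : iv t h = 7
  vn : iv t n = 8
  mem11 : ∀ χ : Cfsg.IrrCharacter G, χ ≠ trivIrr G → ¬ 11 ∣ deg χ → χ ∈ [b, b', m, c, g, g']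
  rel11 : ∀ x : G, ¬ 11 ∣ orderOf x → (g : G → ℂ) x = (g' : G → ℂ) x ∧
    (g : G → ℂ) x = 1 + (b : G → ℂ) x + (b' : G → ℂ) x + (m : G → ℂ) x - (c : G → ℂ) x
  rel5 : ∀ x : G, ¬ 5 ∣ orderOf x →
    (n : G → ℂ) x = 1 + (h : G → ℂ) x + (g : G → ℂ) x + (g' : G → ℂ) x
  val5 : ∀ y : G, orderOf y = 5 → (h : G → ℂ) y = 1 ∧ (g : G → ℂ) y = 1 ∧ (g' : G → ℂ) y = 1 ∧
    (n : G → ℂ) y = -1

variable {G : Type u} [Group G] [Finite G] [IsSimpleGroup G] (hcard : Nat.card G = 10200960)

include hcard

/-- An involution in the centre of a Sylow 2-subgroup. -/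
theorem exists_central_two : ∃ t : G, orderOf t = 2 ∧ cen t ∈ cs128 := by
  obtain ⟨S⟩ : Nonempty (Sylow 2 G) := inferInstance
  have hS := card_sylow_two hcard S
  haveI : Nontrivial (S : Subgroup G) := Finite.one_lt_card_iff_nontrivial.1 (by rw [hS]; norm_num)
  haveI := S.isPGroup'.center_nontrivial
  obtain ⟨n, hn⟩ := (S.isPGroup'.to_subgroup (center (S : Subgroup G))).exists_card_eq
  have hpos : n ≠ 0 := fun h => by
    rw [h, pow_zero] at hn
    exact (Finite.one_lt_card (α := center (S : Subgroup G))).ne' hn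
  obtain ⟨⟨⟨t, htS⟩, htZ⟩, hto⟩ := exists_prime_orderOf_dvd_card' (G := center (S : Subgroup G)) 2
    (by rw [hn]; exact dvd_pow_self 2 hpos)
  rw [Subgroup.orderOf_mk, Subgroup.orderOf_mk] at hto
  refine ⟨t, hto, ?_⟩
  have h128 : 128 ∣ cen t := by
    rw [← hS]
    refine card_dvd_of_le fun s hs => mem_centralizer_singleton_iff.2 ?_
    exact congrArg Subtype.val (mem_center_iff.1 htZ ⟨s, hs⟩)
  have ht1 : t ≠ 1 := fun h => by rw [h, orderOf_one] at hto; omega
  have key := List.all_eq_true.1 mem_cs128 _ (mem_divs (cen_dvd hcard t))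
  simpa [Nat.mod_eq_zero_of_dvd h128, ← Nat.dvd_iff_mod_eq_zero,
    not_dvd_cen_11 hcard ht1 (by rw [hto]; norm_num),
    not_dvd_cen_23 hcard ht1 (by rw [hto]; norm_num)] using key

theorem exists_core : Nonempty (Core G) := by
  classical
  have hG := not_comm hcard
  obtain ⟨B⟩ := exists_blocks hcard
  obtain ⟨t, ht, htc⟩ := exists_central_two hcard
  have h11t : ¬ 11 ∣ orderOf t := by rw [ht]; norm_num
  have h5t : ¬ 5 ∣ orderOf t := by rw [ht]; norm_num
  set R := B.R
  set S := B.S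
  have hrelR := R.relV h11t (f := iv t) fun χ _ => iv_spec hG ht χ
  have hrelS := S.relV h5t (f := iv t) fun χ _ => iv_spec hG ht χ
  have hKR : R.ys.length = 2 := by rw [R.len_ys, B.he]
  have hKS : S.ys.length = 1 := by rw [S.len_ys, B.hQe]
  obtain ⟨n, hn⟩ := List.length_eq_one_iff.1 hKS
  obtain ⟨g, g', hg⟩ := List.length_eq_two.1 hKR
  have hSlen : S.cs.length = 3 := by rw [S.len_cs, B.hQe]
  obtain ⟨h, x, y, hS⟩ := List.length_eq_three.1 hSlen
  have hSM : [S.w h * (deg h : ℤ), S.w x * (deg x : ℤ), S.w y * (deg y : ℤ)] = [231, 896, 896] := by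
    rw [← B.hSM]; show _ = S.cs.map _; rw [hS]; rfl
  simp only [List.cons.injEq, and_true] at hSM
  obtain ⟨eh, ex, ey⟩ := hSM
  have hw : ∀ χ ∈ S.cs, ∀ d : ℕ, 0 < d → S.w χ * (deg χ : ℤ) = (d : ℤ) → S.w χ = 1 ∧ deg χ = d := by
    intro χ hχ d hd he
    rcases S.w_eq χ hχ with e | e <;> rw [e] at he
    · exact ⟨e, by omega⟩
    · omega
  obtain ⟨wh, dh⟩ := hw h (by simp [hS]) 231 (by norm_num) eh
  obtain ⟨wx, dx⟩ := hw x (by simp [hS]) 896 (by norm_num) ex
  obtain ⟨wy, dy⟩ := hw y (by simp [hS]) 896 (by norm_num) ey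
  have hSn : S.δ = 1 ∧ deg n = 2024 := by
    have := S.rel n (by simp [hn])
    rw [hS] at this
    simp only [List.map_cons, List.map_nil, List.sum_cons, List.sum_nil, eh, ex, ey] at this
    rcases S.δ_eq with e | e <;> rw [e] at this
    · exact ⟨e, by omega⟩
    · omega
  have hRsum : 1 + R.M.sum = 896 := by
    rcases B.hM with e | e <;> rw [e] <;> simp [rowA, rowB]
  have hRδ : R.δ = 1 ∧ ∀ θ ∈ R.ys, deg θ = 896 := by
    have hrel : ∀ θ ∈ R.ys, R.δ * (deg θ : ℤ) = 896 := fun θ hθ => by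
      rw [R.rel θ hθ, ← hRsum]; rfl
    have h1 := hrel g (by simp [hg])
    rcases R.δ_eq with e | e <;> rw [e] at h1
    · exact ⟨e, fun θ hθ => by have := hrel θ hθ; rw [e] at this; omega⟩
    · omega
  have hxy : ∀ χ ∈ S.all, deg χ = 896 → χ ∈ R.ys := by
    intro χ hχ hd
    rcases List.mem_append.1 (R.mem_all_of_not_dvd B.hC (S.ne_triv hχ) (by rw [hd]; norm_num)) with
      h' | h'
    · have h2 : R.w χ * (deg χ : ℤ) ∈ R.M := List.mem_map.2 ⟨χ, h', rfl⟩
      rw [hd] at h2
      rcases B.hM with e | e <;> rw [e] at h2 <;> rcases R.w_eq χ h' with e' | e' <;> rw [e'] at h2 <;>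
        simp [rowA, rowB] at h2
    · exact h'
  have hndS := S.nodup
  rw [hS, hn] at hndS
  have hx' := hxy x (List.mem_append_left _ (by simp [hS])) dx
  have hy' := hxy y (List.mem_append_left _ (by simp [hS])) dy
  have hgxy : g = x ∧ g' = y ∨ g = y ∧ g' = x := by
    rw [hg] at hx' hy'
    simp only [List.mem_cons, List.not_mem_nil, or_false] at hx' hy'
    simp only [List.cons_append, List.nil_append, List.nodup_cons, List.mem_cons, List.not_mem_nil,
      or_false, not_or] at hndS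
    rcases hx' with e1 | e1 <;> rcases hy' with e2 | e2
    · exact absurd (e1.trans e2.symm) hndS.2.1.1
    · exact Or.inl ⟨e1.symm, e2.symm⟩
    · exact Or.inr ⟨e2.symm, e1.symm⟩
    · exact absurd (e1.trans e2.symm) hndS.2.1.1
  -- the scan
  set W := 1 + (R.us (iv t)).sum with hW
  have hWg : ∀ θ ∈ R.ys, iv t θ = W := fun θ hθ => by
    have := hrelR θ hθ; rw [hRδ.1, one_mul] at this; exact this
  have hV : iv t n = 1 + iv t h + 2 * W := by
    have := hrelS n (by simp [hn])
    rw [hSn.1, Row.us, hS] at this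
    simp only [List.map_cons, List.map_nil, List.sum_cons, List.sum_nil, wh, wx, wy, one_mul,
      hWg x hx', hWg y hy'] at this
    linarith
  have key := List.all_eq_true.1 (List.all_eq_true.1 scanL_ok R.M
    (by rcases B.hM with e | e <;> rw [e] <;> simp)) _ htc
  simp only [scanL, forceLL_eq, forceL_eq, forceI_eq] at key
  have hR11 : ∀ χ ∈ R.all, ¬ 11 ∣ deg χ := fun χ hχ => R.not_dvd_deg hχ
  have hnd : (R.all ++ [h, n]).Nodup := List.nodup_append.2 ⟨R.nodup, by
      simp only [List.nodup_cons, List.mem_singleton, List.not_mem_nil, not_false_eq_true,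
        List.nodup_nil, and_true]
      intro e; rw [e, hSn.2] at dh; omega,
    fun a ha b hb e => by
      subst e
      refine hR11 a ha ?_
      simp only [List.mem_cons, List.not_mem_nil, or_false] at hb
      rcases hb with rfl | rfl
      · rw [dh]; norm_num
      · rw [hSn.2]; norm_num⟩
  have htr2 : trivIrr G ∉ [h, n] := by
    simp only [List.mem_cons, List.not_mem_nil, or_false, not_or]
    exact ⟨(S.ne_triv (List.mem_append_left _ (by simp [hS]))).symm,
      (S.ne_triv (List.mem_append_right _ (by simp [hn]))).symm⟩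
  have hsq0 := us_sq_le hcard ht (by norm_num) R (l := []) (E := 0)
    (by rw [List.append_nil]; exact R.nodup) (by simp) (by simp)
  rw [hKR] at hsq0
  have hu : List.Forall₂ (fun u l => u ∈ l) (R.us (iv t)) (R.M.map (opts (cen t))) := by
    rw [Row.us, Row.M, List.map_map, List.forall₂_map_left_iff, List.forall₂_map_right_iff,
      List.forall₂_same]
    exact fun χ hχ => opts_iv hcard ht (R.ne_triv (List.mem_append_left _ hχ)) (R.w_eq χ hχ)
  have hgood := allV_spec key hu (by
      rw [hRsum, ← hW, ← hWg g (by simp [hg]),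
        show (896 : ℤ) = 1 * (deg g : ℤ) by rw [hRδ.2 g (by simp [hg])]; norm_num,
        ← one_mul (iv t g)]
      exact opts_iv hcard ht (R.ne_triv (List.mem_append_right _ (by simp [hg]))) (Or.inl rfl))
    (by omega)
  have hq := quadOK_iv hcard R (c := 1) (by rw [B.hC]) ht (by norm_num)
  simp only [quadOK, B.he] at hq
  have hq0 : quad R.M (R.us (iv t)) = 0 := by simpa using hq
  simp only [Bool.or_eq_true, bne_iff_ne, ne_eq, hq0, not_true_eq_false, false_or,
    List.all_eq_true, Bool.not_eq_true', Nat.blt_eq] at hgood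
  have hoA : iv t h ∈ opts (cen t) 231 := by
    have := opts_iv hcard ht (S.ne_triv (χ := h) (List.mem_append_left _ (by simp [hS]))) (Or.inl rfl)
    rw [dh] at this; simpa using this
  have hsq := us_sq_le hcard ht (by norm_num) R (l := [h, n])
    (E := (iv t h).natAbs * (iv t h).natAbs + (iv t n).natAbs * (iv t n).natAbs) hnd htr2
    (by push_cast; simp [abs_mul_abs_self])
  rw [hKR] at hsq
  have h2 := hgood _ hoA
  rw [← hV] at h2
  rcases h2 with (h2 | h2) | h2
  · have h3 : iv t n ∈ opts (cen t) 2024 := by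
      have := opts_iv hcard ht (S.ne_triv (χ := n) (List.mem_append_right _ (by simp [hn]))) (Or.inl rfl)
      rw [hSn.2] at this; simpa using this
    simp [h3] at h2
  · clear_value W
    subst hW
    have : 1 ≤ cen t := Nat.card_pos
    omega
  simp only [targetL, Bool.and_eq_true, beq_iff_eq] at h2
  obtain ⟨⟨⟨hcen, hRA⟩, hus⟩, hvh⟩ := h2
  have hlen : R.cs.length = 4 := by rw [R.len_cs, B.he]
  obtain ⟨b, b', m, c, hcs⟩ : ∃ b b' m c, R.cs = [b, b', m, c] := by
    match hl : R.cs, hlen with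
    | [b, b', m, c], _ => exact ⟨b, b', m, c, rfl⟩
  rw [Row.M, hcs] at hRA
  rw [Row.us, hcs] at hus
  simp only [rowA, List.map_cons, List.map_nil, List.cons.injEq, and_true] at hRA hus
  have hwR : ∀ χ ∈ R.cs, ∀ d v : ℤ, 0 < d → R.w χ * (deg χ : ℤ) = d → R.w χ * iv t χ = v →
      R.w χ = 1 ∧ (deg χ : ℤ) = d ∧ iv t χ = v := by
    intro χ hχ d v hd he hv
    rcases R.w_eq χ hχ with e | e <;> rw [e] at he hv
    · exact ⟨e, by linarith, by linarith⟩
    · omega
  obtain ⟨wb, db, vb⟩ := hwR b (by simp [hcs]) 45 (-3) (by norm_num) hRA.1 hus.1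
  obtain ⟨wb', db', vb'⟩ := hwR b' (by simp [hcs]) 45 (-3) (by norm_num) hRA.2.1 hus.2.1
  obtain ⟨wm, dm, vm⟩ := hwR m (by simp [hcs]) 1035 27 (by norm_num) hRA.2.2.1 hus.2.2.1
  obtain ⟨wc, dc, vc⟩ : R.w c = -1 ∧ deg c = 230 ∧ iv t c = 22 := by
    have e1 := hRA.2.2.2
    have e2 := hus.2.2.2
    rcases R.w_eq c (by simp [hcs]) with e | e <;> rw [e] at e1 e2
    · omega
    · exact ⟨e, by omega, by omega⟩
  have hW0 : W = 0 := by
    rw [hW, Row.us, hcs]
    simp only [List.map_cons, List.map_nil, List.sum_cons, List.sum_nil, wb, wb', wm, wc, vb, vb',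
      vm, vc]
    norm_num
  have hndR := R.nodup
  rw [hcs, hg] at hndR
  have hne : ∀ χ ∈ [b, b', g, g', h, c, m, n], χ ∈ R.all ∨ χ ∈ [h, n] := by
    intro χ hχ
    simp only [List.mem_cons, List.not_mem_nil, or_false] at hχ
    rcases hχ with rfl | rfl | rfl | rfl | rfl | rfl | rfl | rfl <;> simp [Row.all, hcs, hg]
  refine ⟨{
    t := t, ord_t := ht, cen_t := hcen, b := b, b' := b', m := m, c := c, g := g, g' := g', h := h
    n := n
    db := by omega, db' := by omega, dm := by omega, dc := dc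
    dg := hRδ.2 g (by simp [hg]), dg' := hRδ.2 g' (by simp [hg]), dh := dh, dn := hSn.2
    nodup := ?_
    ne_one := fun h' => by
      rcases hne _ h' with h'' | h''
      · exact R.ne_triv h'' rfl
      · exact htr2 h''
    vb := vb, vb' := vb', vm := vm, vc := vc
    vg := (hWg g (by simp [hg])).trans hW0, vg' := (hWg g' (by simp [hg])).trans hW0
    vh := hvh, vn := by rw [hV, hvh, hW0]; norm_num
    mem11 := fun χ hχ hd => by
      have := R.mem_all_of_not_dvd B.hC hχ hd
      simpa [Row.all, hcs, hg] using this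
    rel11 := fun x hx => ?_
    rel5 := fun x hx => ?_
    val5 := fun z hz => ?_ }⟩
  · have hp : ([b, b', g, g', h, c, m, n] : List (Cfsg.IrrCharacter G)).Perm
        (([b, b', m, c] ++ [g, g']) ++ [h, n]) := by
      refine (List.Perm.cons _ (List.Perm.cons _ ?_))
      show [g, g', h, c, m, n].Perm ([m, c, g, g', h, n])
      have e1 : [g, g', h, c, m, n].Perm ([g, g', h] ++ [m, c, n]) :=
        List.Perm.append_left [g, g', h] (List.Perm.swap m c [n])
      refine e1.trans ?_
      refine (List.perm_append_comm_assoc [g, g', h] [m, c] [n]).trans ?_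
      exact List.Perm.refl _
    refine hp.nodup_iff.2 ?_
    have := hnd
    rwa [Row.all, hcs, hg] at this
  · have r := R.relC g (by simp [hg]) x hx
    have r' := R.relC g' (by simp [hg]) x hx
    rw [hcs] at r r'
    simp only [List.map_cons, List.map_nil, List.sum_cons, List.sum_nil, wb, wb', wm, wc, hRδ.1] at r r'
    push_cast at r r'
    exact ⟨by linear_combination r - r', by linear_combination r⟩
  · have r := S.relC n (by simp [hn]) x hx
    rw [hS] at r
    simp only [List.map_cons, List.map_nil, List.sum_cons, List.sum_nil, wh, wx, wy, hSn.1] at r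
    push_cast at r
    rcases hgxy with ⟨rfl, rfl⟩ | ⟨rfl, rfl⟩ <;> linear_combination r
  · have hp : (5 : ℕ) = 5 ∨ (5 : ℕ) = 7 ∨ (5 : ℕ) = 11 ∨ (5 : ℕ) = 23 := by omega
    obtain ⟨Q', hQ'⟩ := exists_sylow_eq hcard hp hz
    obtain ⟨a, ha⟩ := MulAction.exists_smul_eq G Q' B.Q
    have hzQ : a * z * a⁻¹ ∈ (B.Q : Subgroup G) := by
      rw [← ha, Sylow.coe_subgroup_smul]
      exact ⟨z, by rw [hQ']; exact mem_zpowers z, rfl⟩
    set z₀ := a * z * a⁻¹
    have hz01 : z₀ ≠ 1 := fun e => by
      have : z = 1 := by simpa [z₀] using e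
      rw [this, orderOf_one] at hz; omega
    have hv : ∀ χ : Cfsg.IrrCharacter G, (χ : G → ℂ) z = (χ : G → ℂ) z₀ := fun χ =>
      (irr_isClassFunction χ z a).symm
    simp only [hv]
    have hz₀ := hzQ
    have e1 := S.val_cs h (by simp [hS]) z₀ hz₀ hz01
    have e2 := S.val_cs x (by simp [hS]) z₀ hz₀ hz01
    have e3 := S.val_cs y (by simp [hS]) z₀ hz₀ hz01
    have e4 := S.val_ys z₀ hz₀ hz01
    rw [hn, List.map_singleton, List.sum_singleton, hSn.1] at e4
    rw [wh] at e1; rw [wx] at e2; rw [wy] at e3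
    push_cast at e1 e2 e3 e4
    rcases hgxy with ⟨rfl, rfl⟩ | ⟨rfl, rfl⟩
    · exact ⟨e1, e2, e3, e4⟩
    · exact ⟨e1, e3, e2, e4⟩

end Cfsg.Agent.M23Order
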