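import Cfsg.Agent.Lib.Blocks.BrauerChar.Blocks

/-!
# Brauer characters at idempotents

Expansion of class functions at an integral idempotent, the antipode of the group algebra, and the
representations attached to the classes of primitive idempotents.
-/

set_option linter.style.haveILetI false
set_option linter.unusedSectionVars false

namespace Cfsg.Agent.M23Order.ModuleBasic

open Cfsg.Agent.Blocks Cfsg.Agent.Characters Cfsg.Agent.Blocks.Star Cfsg.Agent.Blocks.BrauerChar
open MonoidAlgebra

universe u

variable {K : Type u} [Group K] [Finite K] {p : ℕ} {M : Ideal Cfsg.AlgInt}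
  (hM : Cfsg.IsPModular p M)

/-- The multiplicities of an integral idempotent are the values of the Brauer characters. -/
theorem eval_expand {f : K → ℂ} (hf : Cfsg.IsClassFunction K f) {E : MonoidAlgebra ℂ K}
    (hE : IntEl M E) (hid : E * E = E) :
    evalChar f E = ∑ c, evalChar (ext p (ibr hM c)) E * evalChar f (pi hM c) := by
  classical
  obtain ⟨m, hm⟩ := exists_mult hM hE hid
  rw [hm f hf]
  refine Finset.sum_congr rfl fun c _ => ?_
  rw [hm _ (isClassFunction_ext _)]
  simp [evalChar_ibr]

/-- The antipode. -/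
noncomputable def antip (x : MonoidAlgebra ℂ K) : MonoidAlgebra ℂ K :=
  MonoidAlgebra.mapDomain (fun g => g⁻¹) x

theorem coeff_antip (x : MonoidAlgebra ℂ K) (g : K) : (antip x).coeff g = x.coeff g⁻¹ := by
  have h := Finsupp.mapDomain_apply (inv_injective (G := K)) x.coeff g⁻¹
  rw [inv_inv] at h
  exact h

theorem intEl_antip {x : MonoidAlgebra ℂ K} (hx : IntEl M x) : IntEl M (antip x) := fun g => by
  rw [coeff_antip]
  exact hx _

theorem evalChar_antip (f : K → ℂ) (x : MonoidAlgebra ℂ K) :
    evalChar f (antip x) = evalChar (fun g => f g⁻¹) x := by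
  haveI := Fintype.ofFinite K
  rw [evalChar_eq_sum, evalChar_eq_sum]
  refine Fintype.sum_equiv (Equiv.inv K) _ _ fun g => ?_
  rw [coeff_antip, Equiv.inv_apply, inv_inv]

theorem antip_mul (x y : MonoidAlgebra ℂ K) : antip (x * y) = antip y * antip x := by
  haveI := Fintype.ofFinite K
  ext g
  rw [coeff_antip, coeff_mul', coeff_mul']
  simp only [coeff_antip]
  refine Fintype.sum_equiv ((Equiv.mulLeft g).trans (Equiv.refl K)) _ _ fun h => ?_
  simp [mul_comm]

theorem isClassFunction_inv {f : K → ℂ} (hf : Cfsg.IsClassFunction K f) :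
    Cfsg.IsClassFunction K (fun g => f g⁻¹) := fun g h => by
  show f (h * g * h⁻¹)⁻¹ = f g⁻¹
  rw [conj_inv, hf]

theorem antip_pi_idem (c : Cls K hM) :
    antip (pi hM c) * antip (pi hM c) = antip (pi hM c) := by
  rw [← antip_mul, pi_idem]

open scoped Classical in
/-- The value of a Brauer character at a primitive idempotent. -/
theorem eval_prim (c : Cls K hM) {q : alg hM K} (hq : IsPrim q) :
    evalChar (ext p (ibr hM c)) q.1 =
      if Equiv' (mem' hM c : alg hM K) q then 1 else 0 := by
  obtain ⟨d, hd⟩ := exists_cls hM hq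
  rw [evalChar_equiv hM (isClassFunction_ext _) hd]
  show evalChar _ (pi hM d) = _
  rw [evalChar_ibr]
  refine if_congr ⟨fun h => h ▸ equiv_symm hd, fun h => ?_⟩ rfl rfl
  exact (eq_of_equiv hM
    (equiv_trans (mem'_prim hM c).idem hq.idem (mem'_prim hM d).idem h hd)).symm

/-- The degree is the size of the class. -/
theorem deg_eq_card (c : Cls K hM) :
    deg hM c = (cls (mem' hM c : alg hM K) (dec K hM)).card := by
  classical
  apply Nat.cast_injective (R := ℂ)
  have e : (1 : MonoidAlgebra ℂ K) = ∑ q ∈ dec K hM, (q : alg hM K).1 := by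
    have h := congrArg Subtype.val (dec_spec (K := K) hM).sum
    rw [AddSubmonoidClass.coe_finsetSum] at h
    exact h.symm
  rw [← ext_ibr_one, ← one_mul (ext p (ibr hM c) 1), ← evalChar_single, ← MonoidAlgebra.one_def, e,
    evalChar_sum, Finset.sum_congr rfl fun q hq => eval_prim hM c ((dec_spec hM).prim q hq)]
  rw [Finset.sum_boole]
  congr 2

open scoped Classical in
/-- An integral idempotent at which the Brauer character vanishes acts as zero. -/
theorem repHom_eq_zero (c : Cls K hM) {E : MonoidAlgebra ℂ K} (hE : IntEl M E)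
    (hid : E * E = E) (h0 : evalChar (ext p (ibr hM c)) E = 0) :
    repHom (splitsAll_loc hM) (mem'_prim hM c) (dec_spec hM) (mkA hM hE) = 0 := by
  obtain ⟨J, hJ⟩ := exists_decomp (Loc hM) (e := mkA hM hE) (Subtype.ext hid)
  have hsum : ∑ q ∈ J, (if Equiv' (mem' hM c : alg hM K) q then (1 : ℂ) else 0) = 0 := by
    refine Eq.trans ?_ h0
    rw [← Finset.sum_congr rfl fun q hq => eval_prim hM c (hJ.prim q hq), ← evalChar_sum]
    have h := congrArg Subtype.val hJ.sum
    rw [AddSubmonoidClass.coe_finsetSum] at h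
    rw [h]
    rfl
  rw [Finset.sum_boole, Nat.cast_eq_zero, Finset.card_eq_zero, Finset.filter_eq_empty_iff] at hsum
  rw [← hJ.sum, map_sum]
  refine Finset.sum_eq_zero fun q hq => ?_
  ext a b
  rw [repHom_apply, rep, Matrix.of_apply, Matrix.zero_apply]
  by_contra hne
  have hqp := hJ.prim q hq
  have hj := mem'_prim hM c
  obtain ⟨ha, -, -, -⟩ := lnk_mem hj (dec_spec hM) a
  obtain ⟨-, -, -, hb⟩ := lnk_mem hj (dec_spec hM) b
  refine hsum hq (exists_equiv (splitsAll_loc hM) hj hqp (x := lnk a * q) (y := q * lnk' b) ?_ ?_ ?_)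
  · rw [← mul_assoc, ha, mul_assoc, hqp.idem]
  · rw [← mul_assoc, hqp.idem, mul_assoc, hb]
  · rwa [← mul_assoc, mul_assoc (lnk a) q q, hqp.idem]

/-- In characteristic two the trace of a square is the square of the trace. -/
theorem trace_mul_self {n R : Type*} [Fintype n] [CommRing R] [CharP R 2] (A : Matrix n n R) :
    Matrix.trace (A * A) = Matrix.trace A * Matrix.trace A := by
  classical
  haveI : Fact (Nat.Prime 2) := ⟨Nat.prime_two⟩
  have h1 : Matrix.trace A * Matrix.trace A = ∑ i, A i i * A i i := by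
    simp only [← pow_two, Matrix.trace, Matrix.diag, sum_pow_char 2]
  have h2 : Matrix.trace (A * A) = ∑ x : n × n, A x.1 x.2 * A x.2 x.1 := by
    simp only [Matrix.trace, Matrix.diag, Matrix.mul_apply, Fintype.sum_prod_type]
  rw [h1, h2, ← Finset.sum_filter_add_sum_filter_not Finset.univ (fun x : n × n => x.1 = x.2)]
  have h3 : ∑ x ∈ Finset.univ.filter (fun x : n × n => ¬ x.1 = x.2), A x.1 x.2 * A x.2 x.1 = 0 := by
    refine Finset.sum_involution (fun x _ => x.swap) ?_ ?_ ?_ ?_
    · intro x _
      simp only [Prod.fst_swap, Prod.snd_swap]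
      rw [mul_comm (A x.2 x.1), CharTwo.add_self_eq_zero]
    · intro x hx _ h
      exact (Finset.mem_filter.1 hx).2 (congrArg Prod.snd h)
    · intro x hx
      simp only [Finset.mem_filter, Finset.mem_univ, true_and, Prod.fst_swap, Prod.snd_swap] at hx ⊢
      exact fun h => hx h.symm
    · intro x _
      exact Prod.swap_swap x
  rw [h3, add_zero]
  refine Finset.sum_bij' (fun x _ => x.1) (fun i _ => (i, i)) ?_ ?_ ?_ ?_ ?_ <;>
    simp +contextual

end Cfsg.Agent.M23Order.ModuleBasic
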