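import Cfsg.Agent.Lib.M23Order.Eleven
import Cfsg.Agent.Lib.Characters.Kernel

/-!
# Simple groups of order 10200960: no irreducible character of degree eleven
-/

set_option autoImplicit false
set_option linter.style.haveILetI false
set_option linter.unusedSectionVars false

namespace Cfsg.Agent.M23Order

open Subgroup
open Cfsg.Agent.Characters Cfsg.Agent.Blocks Cfsg.Agent.PrimeBlock
open Cfsg.Agent.SmallSimple
open Cfsg.Agent.M22Order (PRow Row)
open scoped ComplexConjugate

universe u

theorem small_deg : (degList.all fun d => Nat.blt 121 d || !(in23 d && in11 d) || (d % 23 != 1)) = true := by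
  decide +kernel

variable {G : Type u} [Group G] [Finite G] [IsSimpleGroup G] (hcard : Nat.card G = 10200960)

include hcard

/-- **There is no irreducible character of degree eleven.** -/
theorem deg_ne_eleven (φ : Cfsg.IrrCharacter G) : deg φ ≠ 11 := by
  classical
  haveI := Fintype.ofFinite G
  haveI := Fintype.ofFinite (Cfsg.IrrCharacter G)
  intro hφ
  have hp : (23 : ℕ) = 5 ∨ (23 : ℕ) = 7 ∨ (23 : ℕ) = 11 ∨ (23 : ℕ) = 23 := by omega
  obtain ⟨P, D, R, hC, -, he, hK⟩ := exists_row_twentythree hcard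
  have hne : φ ≠ trivIrr G := fun e => by rw [e, deg_trivIrr] at hφ; omega
  have hys : φ ∈ R.ys := by
    rcases List.mem_append.1 (R.mem_all_of_not_dvd hC hne (by omega)) with h | h
    · have := R.cong_cs φ h
      rcases R.w_eq φ h with e | e <;> rw [e] at this <;> omega
    · exact h
  have hδ : R.δ = 1 := by
    have := R.cong_ys φ hys
    rw [he, hφ] at this
    rcases R.δ_eq with e | e <;> rw [e] at this <;> omega
  obtain ⟨z, hz1, hz⟩ := D.exists_ne_one
  have hoz : orderOf z = 23 := D.orderOf_eq hz hz1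
  obtain ⟨θ₁, θ₂, hθ⟩ : ∃ a b, R.ys = [a, b] := List.length_eq_two.1 hK
  have hnd := R.nodup
  have h12 : θ₁ ≠ θ₂ := by
    have := (List.nodup_append.1 hnd).2.1
    rw [hθ] at this; simpa using this
  have hdeg : ∀ θ ∈ R.ys, deg θ = 11 := fun θ hm => by
    have h1 := R.rel θ hm
    rw [← R.rel φ hys, hδ, hφ] at h1
    omega
  have hsum : (θ₁ : G → ℂ) z + (θ₂ : G → ℂ) z = -1 := by
    have := R.val_ys z hz hz1
    rw [hθ, hδ] at this
    simpa using this
  -- the squares
  have hsq : Complex.normSq ((θ₁ : G → ℂ) z) + Complex.normSq ((θ₂ : G → ℂ) z) = 12 := by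
    have h2 := D.norm_block hz hz1
    rw [finsum_mem_eq_finite_toFinset_sum _ (Set.toFinite _)] at h2
    have hS : (Set.toFinite (Cfsg.principalBlock D.M G)).toFinset =
        insert (trivIrr G) R.all.toFinset := by
      ext χ
      simp only [Set.Finite.mem_toFinset, Finset.mem_insert, List.mem_toFinset]
      refine ⟨fun h => ?_, fun h => ?_⟩
      · by_cases e : χ = trivIrr G
        · exact Or.inl e
        · exact Or.inr ((R.mem χ).2 ⟨h, e⟩)
      · rcases h with rfl | h
        · exact trivIrr_mem_principal D.hM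
        · exact R.mem_block h
    rw [hS, Finset.sum_insert (by simpa using fun h : trivIrr G ∈ R.all => R.ne_triv h rfl), Row.all,
      List.sum_toFinset _ hnd, List.map_append, List.sum_append, hθ,
      List.map_congr_left (g := fun _ => (1 : ℂ)) fun χ hχ => by
        rw [R.val_cs χ hχ z hz hz1]
        rcases R.w_eq χ hχ with e | e <;> rw [e] <;> simp,
      List.map_const', List.sum_replicate, R.len_cs, he] at h2
    simp only [trivIrr_coe, map_one, one_mul, List.map_cons, List.map_nil, List.sum_cons, List.sum_nil,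
      add_zero, Complex.mul_conj, nsmul_eq_mul] at h2
    have h3 := congrArg Complex.re h2
    simp only [Complex.add_re, Complex.ofReal_re, Complex.one_re, Complex.mul_re, Complex.one_im,
      Complex.natCast_re, Complex.natCast_im] at h3
    norm_num at h3
    linarith
  -- complex conjugates
  let bar : Cfsg.IrrCharacter G → Cfsg.IrrCharacter G := fun χ =>
    ⟨fun g => conj ((χ : G → ℂ) g), isIrrCharacter_conj χ.2⟩
  have hbd : ∀ χ, deg (bar χ) = deg χ := fun χ => by
    have h : (deg (bar χ) : ℂ) = deg χ := by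
      rw [deg_cast]
      show conj ((χ : G → ℂ) 1) = _
      rw [← deg_cast, map_natCast]
    exact_mod_cast h
  have hall : ∀ χ : Cfsg.IrrCharacter G, deg χ = 11 → χ = θ₁ ∨ χ = θ₂ := fun χ hχ => by
    have hne' : χ ≠ trivIrr G := fun e => by rw [e, deg_trivIrr] at hχ; omega
    rcases List.mem_append.1 (R.mem_all_of_not_dvd hC hne' (by omega)) with h | h
    · have := R.cong_cs χ h
      rcases R.w_eq χ h with e | e <;> rw [e] at this <;> omega
    · simpa [hθ] using h
  have hb1 : bar θ₁ = θ₂ := by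
    refine (hall _ ((hbd _).trans (hdeg θ₁ (by simp [hθ])))).resolve_left fun e1 => ?_
    have e2 : bar θ₂ = θ₂ := by
      refine (hall _ ((hbd _).trans (hdeg θ₂ (by simp [hθ])))).resolve_left fun e => h12 ?_
      refine Subtype.ext (funext fun g => ?_)
      have a1 := congrArg (fun χ : Cfsg.IrrCharacter G => (χ : G → ℂ) g) e1
      have a2 := congrArg (fun χ : Cfsg.IrrCharacter G => (χ : G → ℂ) g) e
      exact (starRingEnd ℂ).injective (a1.trans a2.symm)
    have r1 : conj ((θ₁ : G → ℂ) z) = (θ₁ : G → ℂ) z :=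
      congrArg (fun χ : Cfsg.IrrCharacter G => (χ : G → ℂ) z) e1
    have r2 : conj ((θ₂ : G → ℂ) z) = (θ₂ : G → ℂ) z :=
      congrArg (fun χ : Cfsg.IrrCharacter G => (χ : G → ℂ) z) e2
    have n1 := Complex.mul_conj ((θ₁ : G → ℂ) z)
    have n2 := Complex.mul_conj ((θ₂ : G → ℂ) z)
    rw [r1] at n1; rw [r2] at n2
    have hs : (θ₁ : G → ℂ) z * (θ₁ : G → ℂ) z + (θ₂ : G → ℂ) z * (θ₂ : G → ℂ) z = 12 := by
      rw [n1, n2]; exact_mod_cast hsq
    have hprod : (θ₁ : G → ℂ) z * (θ₂ : G → ℂ) z = (((-11 / 2 : ℚ)) : ℂ) := by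
      push_cast
      linear_combination (-1 / 2 : ℂ) * hs + (1 / 2 : ℂ) * ((θ₁ : G → ℂ) z + (θ₂ : G → ℂ) z - 1) * hsum
    obtain ⟨k, hk⟩ := exists_int_of_isIntegral_ratCast (q := (-11 / 2 : ℚ)) (hprod ▸
      (char_value_isIntegral (irr_isCharacter θ₁) z).mul (char_value_isIntegral (irr_isCharacter θ₂) z))
    have h' : ((2 * k : ℤ) : ℚ) = ((-11 : ℤ) : ℚ) := by
      have := Rat.cast_injective (hk.trans (Rat.cast_intCast k).symm)
      push_cast
      linarith
    have := Int.cast_injective h'
    omega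
  have hv2 : (θ₂ : G → ℂ) z = conj ((θ₁ : G → ℂ) z) :=
    (congrArg (fun χ : Cfsg.IrrCharacter G => (χ : G → ℂ) z) hb1).symm
  have hre1 : ((θ₁ : G → ℂ) z).re = -1 / 2 := by
    have := congrArg Complex.re hsum
    rw [hv2, Complex.add_re, Complex.conj_re] at this
    simp at this
    linarith
  have hn6 : Complex.normSq ((θ₁ : G → ℂ) z) = 6 := by
    rw [hv2, Complex.normSq_conj] at hsq; linarith
  -- the product with the conjugate
  set f : G → ℂ := fun g => (θ₁ : G → ℂ) g * conj ((θ₁ : G → ℂ) g) with hf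
  have hfc : Cfsg.IsCharacter G f :=
    isCharacter_mul (irr_isCharacter θ₁) (isCharacter_of_isIrr (isIrrCharacter_conj θ₁.2))
  have hcoef : ∀ χ : Cfsg.IrrCharacter G, ∃ n : ℕ, Cfsg.classInner f (χ : G → ℂ) = (n : ℂ) :=
    fun χ => classInner_char_nat hfc (irr_isCharacter χ)
  choose n hn using hcoef
  have hexp := classFun_eq_sum (char_isClassFunction hfc)
  have heval : ∀ g : G, f g = ∑ χ : Cfsg.IrrCharacter G, (n χ : ℂ) * (χ : G → ℂ) g := fun g => by
    have := congrFun hexp g
    rw [this, Finset.sum_apply]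
    exact Finset.sum_congr rfl fun χ _ => by rw [Pi.smul_apply, smul_eq_mul, hn]
  have hn1 : n (trivIrr G) = 1 := by
    have h1 : Cfsg.classInner f ((trivIrr G : Cfsg.IrrCharacter G) : G → ℂ) =
        Cfsg.classInner (θ₁ : G → ℂ) (θ₁ : G → ℂ) := by
      simp [classInner_def, hf]
    rw [hn, classInner_irr, if_pos rfl] at h1
    exact_mod_cast h1
  have h121 : ∑ χ : Cfsg.IrrCharacter G, n χ * deg χ = 121 := by
    have h := heval 1
    simp only [hf, ← deg_cast, hdeg θ₁ (by simp [hθ])] at h
    rw [map_natCast] at h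
    push_cast at h
    have h' : ((∑ χ : Cfsg.IrrCharacter G, n χ * deg χ : ℕ) : ℂ) = ((121 : ℕ) : ℂ) := by
      push_cast; rw [← h]; norm_num
    exact_mod_cast h'
  have hle : ∀ χ : Cfsg.IrrCharacter G, χ ≠ trivIrr G →
      ((n χ : ℂ) * (χ : G → ℂ) z).re ≤ 0 := by
    intro χ hχ
    rw [Complex.mul_re, Complex.natCast_re, Complex.natCast_im, zero_mul, sub_zero]
    rcases Nat.eq_zero_or_pos (n χ) with h0 | h0
    · rw [h0]; simp
    refine mul_nonpos_of_nonneg_of_nonpos (Nat.cast_nonneg _) ?_
    have hd : deg χ ≤ 121 := by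
      have := Finset.single_le_sum (f := fun ψ => n ψ * deg ψ) (fun ψ _ => Nat.zero_le _)
        (Finset.mem_univ χ)
      rw [h121] at this
      exact (Nat.le_mul_of_pos_left _ h0).trans this
    have key := List.all_eq_true.1 small_deg _ (deg_mem hcard hχ)
    have h23 := deg_in23 hcard hχ
    rw [h23, deg_in11 hcard hχ] at key
    have hblt : Nat.blt 121 (deg χ) = false := by
      rw [← Bool.not_eq_true, Nat.blt_eq]; omega
    rw [hblt] at key
    simp only [Bool.and_self, Bool.not_true, Bool.or_self, Bool.false_or, bne_iff_ne, ne_eq] at key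
    by_cases hd23 : 23 ∣ deg χ
    · rw [zero_of_singular hcard hp χ hd23 (by rw [hoz]), Complex.zero_re]
    rcases List.mem_append.1 (R.mem_all_of_not_dvd hC hχ hd23) with h | h
    · have := R.cong_cs χ h
      rw [R.val_cs χ h z hz hz1]
      rcases R.w_eq χ h with e | e <;> rw [e] at this ⊢
      · omega
      · simp
    · rw [hθ] at h
      simp only [List.mem_cons, List.not_mem_nil, or_false] at h
      rcases h with rfl | rfl
      · rw [hre1]; norm_num
      · rw [hv2, Complex.conj_re, hre1]; norm_num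
  have hz' := congrArg Complex.re (heval z)
  rw [hf] at hz'
  simp only [Complex.mul_conj, Complex.ofReal_re, hn6, Complex.re_sum] at hz'
  rw [← Finset.add_sum_erase _ _ (Finset.mem_univ (trivIrr G)), hn1] at hz'
  have hrest := Finset.sum_nonpos fun χ (hχ : χ ∈ Finset.univ.erase (trivIrr G)) =>
    hle χ (Finset.ne_of_mem_erase hχ)
  simp only [trivIrr_coe, Nat.cast_one, mul_one, Complex.one_re] at hz'
  linarith

theorem deg_ok {χ : Cfsg.IrrCharacter G} (hne : χ ≠ trivIrr G) : okDeg (deg χ) = true := by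
  simp [okDeg, deg_in23 hcard hne, deg_in11 hcard hne, deg_ne_eleven hcard χ]

end Cfsg.Agent.M23Order
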