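import Cfsg.Agent.Lib.M23Order.Frame

/-!
# Elements normalising a subgroup of prime order
-/

set_option autoImplicit false

namespace Cfsg.Agent.M23Order

open Subgroup

universe u

variable {G : Type u} [Group G] [Finite G]

omit [Finite G] in
theorem conj_pow_pow {z u : G} {i : ℕ} (h : u * z * u⁻¹ = z ^ i) (n : ℕ) :
    u ^ n * z * (u ^ n)⁻¹ = z ^ (i ^ n) := by
  induction n with
  | zero => simp
  | succ n ih =>
    rw [pow_succ', show u * u ^ n * z * (u * u ^ n)⁻¹ = u * (u ^ n * z * (u ^ n)⁻¹) * u⁻¹ by group, ih,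
      ← conj_pow, h, ← pow_mul, ← pow_succ']

/-- Some element of order `q` raises `z` to the power `t`. -/
theorem exists_conj_eq_pow {p q t : ℕ} (hp : p.Prime) (hq : q.Prime) (hne : ¬ q ∣ p) {z : G}
    (hz : orderOf z = p) (hcen : Nat.card (centralizer ({z} : Set G)) = p)
    (hdvd : q ∣ Nat.card (normalizer (zpowers z : Set G)))
    (hfin : ∀ i < p, i ^ q % p = 1 → i ≠ 1 → ∃ m < q, m ≠ 0 ∧ i ^ m % p = t) :
    ∃ u : G, orderOf u = q ∧ u * z * u⁻¹ = z ^ t := by
  have : Fact q.Prime := ⟨hq⟩
  obtain ⟨⟨u, hu⟩, huo⟩ := exists_prime_orderOf_dvd_card' q hdvd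
  rw [← Subgroup.orderOf_coe] at huo
  simp only at huo
  have hmem : u * z * u⁻¹ ∈ zpowers z := (mem_normalizer_iff.1 hu z).1 (mem_zpowers z)
  classical
  rw [mem_zpowers_iff_mem_range_orderOf, Finset.mem_image] at hmem
  obtain ⟨i, hi, hui⟩ := hmem
  rw [Finset.mem_range, hz] at hi
  have hiq : i ^ q % p = 1 := by
    have h := conj_pow_pow hui.symm q
    rw [← huo, pow_orderOf_eq_one, one_mul, inv_one, mul_one, huo] at h
    have h' := pow_eq_pow_iff_modEq.1 ((pow_one z).trans h)
    rw [hz] at h'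
    rw [Nat.ModEq, Nat.mod_eq_of_lt hp.one_lt] at h'
    exact h'.symm
  have hi1 : i ≠ 1 := by
    rintro rfl
    rw [pow_one] at hui
    have hc : u ∈ centralizer ({z} : Set G) :=
      mem_centralizer_singleton_iff.2 (mul_inv_eq_iff_eq_mul.1 hui.symm)
    have := orderOf_dvd_natCard (⟨u, hc⟩ : centralizer ({z} : Set G))
    rw [← Subgroup.orderOf_coe, hcen] at this
    simp only [huo] at this
    exact hne this
  obtain ⟨m, hm, hm0, hmt⟩ := hfin i hi hiq hi1
  refine ⟨u ^ m, ?_, ?_⟩
  · rw [Nat.Coprime.orderOf_pow, huo]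
    rw [huo]
    exact (Nat.Prime.coprime_iff_not_dvd hq).2 fun h =>
      absurd (Nat.le_of_dvd (Nat.pos_of_ne_zero hm0) h) (by omega)
  · rw [conj_pow_pow hui.symm m, ← hmt, ← hz, pow_mod_orderOf]

theorem exists_order {p : ℕ} (hp : p.Prime) (h : p ∣ Nat.card G) : ∃ z : G, orderOf z = p :=
  haveI : Fact p.Prime := ⟨hp⟩
  exists_prime_orderOf_dvd_card' p h

theorem Local.exists_pair (L : Local G) :
    ∃ z u : G, orderOf z = 23 ∧ orderOf u = 11 ∧ u * z * u⁻¹ = z ^ 2 := by
  obtain ⟨z, hz⟩ := exists_order (G := G) (p := 23) (by norm_num) (by rw [L.card_G]; norm_num)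
  obtain ⟨u, hu, huz⟩ := exists_conj_eq_pow (q := 11) (t := 2) (by norm_num) (by norm_num) (by norm_num)
    hz (L.cen23 z hz) (by rw [L.nor23 z hz]; norm_num) (by decide +kernel)
  exact ⟨z, u, hz, hu, huz⟩

theorem Local.exists_five (L : Local G) {u : G} (hu : orderOf u = 11) :
    ∃ v : G, orderOf v = 5 ∧ v * u * v⁻¹ = u ^ 3 :=
  exists_conj_eq_pow (q := 5) (t := 3) (by norm_num) (by norm_num) (by norm_num)
    hu (L.cen11 u hu) (by rw [L.nor11 u hu]; norm_num) (by decide +kernel)

theorem order_table : ((List.range 8065).all fun m => m == 0 || !(8064 % m == 0) || m == 8064 ||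
    !(5 * m % 23 == 1) || !(253 * (5 * m) / 55 % 11 == 1)) = true := by
  decide +kernel

/-- The normalisers of the subgroups of order 23 and 11 with an element of order five generate. -/
theorem Local.closure_eq_top (L : Local G) {z u v : G} (hz : orderOf z = 23) (hu : orderOf u = 11)
    (huz : u * z * u⁻¹ = z ^ 2) (hv : orderOf v = 5) (hvu : v * u * v⁻¹ = u ^ 3) :
    closure ({z, u, v} : Set G) = ⊤ := by
  classical
  set H := closure ({z, u, v} : Set G) with hH
  have hzH : z ∈ H := subset_closure (by simp)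
  have huH : u ∈ H := subset_closure (by simp)
  have hvH : v ∈ H := subset_closure (by simp)
  -- a subgroup inside a normaliser with two prime orders is the whole normaliser
  have hfull : ∀ {p q : ℕ} (a b : G), p.Coprime q → orderOf a = p → orderOf b = q → a ∈ H → b ∈ H →
      (∃ t, b * a * b⁻¹ = a ^ t) → Nat.card (normalizer (zpowers a : Set G)) = p * q →
      normalizer (zpowers a : Set G) ≤ H := by
    intro p q a b hpq ha hb haH hbH ⟨t, ht⟩ hN
    have haN : a ∈ normalizer (zpowers a : Set G) := le_normalizer (mem_zpowers a)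
    have hbN : b ∈ normalizer (zpowers a : Set G) := by
      apply Subgroup.mem_normalizer_fintype
      rintro _ ⟨k, rfl⟩
      show b * a ^ k * b⁻¹ ∈ zpowers a
      rw [← conj_zpow, ht]
      exact zpow_mem (pow_mem (mem_zpowers a) t) k
    have h1 : p ∣ Nat.card ↥(normalizer (zpowers a : Set G) ⊓ H) := by
      have := orderOf_dvd_natCard (⟨a, haN, haH⟩ : ↥(normalizer (zpowers a : Set G) ⊓ H))
      rwa [← Subgroup.orderOf_coe, ha] at this
    have h2 : q ∣ Nat.card ↥(normalizer (zpowers a : Set G) ⊓ H) := by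
      have := orderOf_dvd_natCard (⟨b, hbN, hbH⟩ : ↥(normalizer (zpowers a : Set G) ⊓ H))
      rwa [← Subgroup.orderOf_coe, hb] at this
    have h3 := Nat.le_of_dvd Nat.card_pos (hpq.mul_dvd_of_dvd_of_dvd h1 h2)
    have := Subgroup.eq_of_le_of_card_ge (inf_le_left : normalizer (zpowers a : Set G) ⊓ H ≤ _)
      (by rw [hN]; exact h3)
    exact inf_eq_left.1 this
  have hN23 : normalizer (zpowers z : Set G) ≤ H :=
    hfull (p := 23) (q := 11) z u (by norm_num) hz hu hzH huH ⟨2, huz⟩ (L.nor23 z hz)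
  have hN11 : normalizer (zpowers u : Set G) ≤ H :=
    hfull (p := 11) (q := 5) u v (by norm_num) hu hv huH hvH ⟨3, hvu⟩ (L.nor11 u hu)
  -- Sylow counts inside `H`
  have hdvdG : Nat.card H ∣ 10200960 := L.card_G ▸ Subgroup.card_subgroup_dvd_card H
  have hsyl : ∀ {p : ℕ} (a : G), p.Prime → orderOf a = p → a ∈ H → ¬ p ^ 2 ∣ 10200960 →
      normalizer (zpowers a : Set G) ≤ H →
      Nat.card (normalizer (zpowers a : Set G)) ∣ Nat.card H ∧
        Nat.card H / Nat.card (normalizer (zpowers a : Set G)) % p = 1 := by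
    intro p a hp ha haH hp2 hle
    have : Fact p.Prime := ⟨hp⟩
    have hfac : (Nat.card H).factorization p = 1 := by
      have h1 : p ∣ Nat.card H := by
        have := orderOf_dvd_natCard (⟨a, haH⟩ : H)
        rwa [← Subgroup.orderOf_coe, ha] at this
      have := Nat.Prime.factorization_pos_of_dvd hp Nat.card_pos.ne' h1
      by_contra hc
      exact hp2 (dvd_trans (dvd_trans (pow_dvd_pow p (by omega : 2 ≤ (Nat.card H).factorization p))
        (Nat.ordProj_dvd _ _)) hdvdG)
    let P : Sylow p H := Sylow.ofCard (zpowers (⟨a, haH⟩ : H)) (by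
      rw [Nat.card_zpowers, ← Subgroup.orderOf_coe, hfac, pow_one]; exact ha)
    have hmod := card_sylow_modEq_one p H
    rw [Sylow.card_eq_index_normalizer P] at hmod
    have heq : normalizer ((P : Subgroup H) : Set H) = (normalizer (zpowers a : Set G)).subgroupOf H := by
      ext ⟨g, hg⟩
      rw [mem_subgroupOf, mem_normalizer_iff, mem_normalizer_iff]
      have hiff : ∀ (x : G) (hx : x ∈ H), (⟨x, hx⟩ : H) ∈ (P : Subgroup H) ↔ x ∈ zpowers a := by
        intro x hx
        show _ ∈ zpowers (⟨a, haH⟩ : H) ↔ _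
        simp only [mem_zpowers_iff]
        exact exists_congr fun k => by rw [← Subtype.coe_inj]; simp
      constructor
      · intro h x
        by_cases hx : x ∈ H
        · rw [← hiff x hx, ← hiff _ (mul_mem (mul_mem hg hx) (inv_mem hg))]
          exact h ⟨x, hx⟩
        · have hz' : ∀ y ∈ zpowers a, y ∈ H := fun y hy => zpowers_le.2 haH hy
          refine ⟨fun hc => absurd (hz' _ hc) hx, fun hc => absurd ?_ hx⟩
          have := mul_mem (mul_mem (inv_mem hg) (hz' _ hc)) hg
          simpa [mul_assoc] using this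
      · rintro h ⟨x, hx⟩
        rw [hiff x hx, SetLike.mem_coe.symm]
        exact (h x).trans (hiff _ (mul_mem (mul_mem hg hx) (inv_mem hg))).symm
    have hcard : Nat.card (normalizer ((P : Subgroup H) : Set H)) =
        Nat.card (normalizer (zpowers a : Set G)) := by
      rw [heq]
      exact Nat.card_congr (subgroupOfEquivOfLe hle).toEquiv
    have hmul := (normalizer ((P : Subgroup H) : Set H)).card_mul_index
    rw [hcard] at hmul
    refine ⟨⟨_, hmul.symm⟩, ?_⟩
    rw [← hmul, Nat.mul_div_cancel_left _ Nat.card_pos]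
    rw [Nat.ModEq, Nat.mod_eq_of_lt hp.one_lt] at hmod
    exact hmod
  obtain ⟨hd23, hm23⟩ := hsyl z (by norm_num) hz hzH (by norm_num) hN23
  obtain ⟨hd11, hm11⟩ := hsyl u (by norm_num) hu huH (by norm_num) hN11
  rw [L.nor23 z hz] at hd23 hm23
  rw [L.nor11 u hu] at hd11 hm11
  obtain ⟨m, hm⟩ : 1265 ∣ Nat.card H :=
    (Nat.Coprime.mul_dvd_of_dvd_of_dvd (by norm_num : Nat.Coprime 253 5) hd23
      ((by norm_num : 5 ∣ 55).trans hd11) : 253 * 5 ∣ Nat.card H)
  have hm8 : m ∣ 8064 := by
    rw [hm, show (10200960 : ℕ) = 1265 * 8064 by norm_num] at hdvdG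
    exact Nat.dvd_of_mul_dvd_mul_left (by norm_num) hdvdG
  have hmle : m ≤ 8064 := Nat.le_of_dvd (by norm_num) hm8
  have hmpos : 0 < m := by
    rcases Nat.eq_zero_or_pos m with rfl | h
    · exact absurd hm (Nat.card_pos (α := H)).ne'
    · exact h
  have h := List.all_eq_true.1 order_table m (List.mem_range.2 (by omega))
  have e1 : 5 * m % 23 = 1 := by
    rwa [hm, show 1265 * m = 253 * (5 * m) by ring, Nat.mul_div_cancel_left _ (by norm_num)] at hm23
  have e2 : 253 * (5 * m) / 55 % 11 = 1 := by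
    rwa [hm, show 1265 * m = 253 * (5 * m) by ring] at hm11
  simp only [Bool.or_eq_true, beq_iff_eq, Bool.not_eq_true', beq_eq_false_iff_ne, ne_eq] at h
  have hm' : m = 8064 := by
    rcases h with (((h | h) | h) | h) | h
    · omega
    · exact absurd (Nat.mod_eq_zero_of_dvd hm8) h
    · exact h
    · exact absurd e1 h
    · exact absurd e2 h
  apply Subgroup.eq_top_of_card_eq
  rw [hm, hm', L.card_G]

end Cfsg.Agent.M23Order
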