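import Cfsg.Agent.Lib.M22Order.Nse
import Cfsg.Agent.Lib.M23Order.Eleven
import Cfsg.Agent.Lib.Golay.MultBig
import Cfsg.Agent.S0377

/-!
# A group with the order and the element-order counts of M23 is simple

The number 887040 of elements of order 23 of M23 is the only count not divisible by 23 apart from 1,
so a group with the same counts has 40320 Sylow 23-subgroups, and this forces simplicity.
-/

set_option autoImplicit false
set_option linter.style.haveILetI false

namespace Cfsg.Agent.M23Order.Nse

open Subgroup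
open Cfsg.Agent.M22Order.Nse (dvd_card_set card_order_eq)

theorem isSimple_M23 : IsSimpleGroup Cfsg.Spor.M23 := by
  have e : ↥Cfsg.Spor.M23 ≃* MulAction.stabilizer Cfsg.M24 (none : Cfsg.GolayPt) :=
    (MulEquiv.subgroupCongr (show Cfsg.Spor.M23 =
        (MulAction.stabilizer Cfsg.M24 (none : Cfsg.GolayPt)).map Cfsg.M24.subtype by
      ext g
      simp [Cfsg.Spor.M23, MulAction.mem_stabilizer_iff, and_comm])).trans
      ((MulAction.stabilizer Cfsg.M24 (none : Cfsg.GolayPt)).equivMapOfInjective _
        Cfsg.M24.subtype_injective).symm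
  haveI := Cfsg.Agent.S0377.result (none : Cfsg.GolayPt)
  exact e.isSimpleGroup_congr.2 inferInstance

variable {G : Type*} [Group G] [Finite G]

theorem card_sylow_prime (hc : Nat.card G = 10200960) {q : ℕ} [Fact q.Prime]
    (hq : q = 11 ∨ q = 23) (P : Sylow q G) : Nat.card P = q := by
  rw [P.card_eq_multiplicity, hc, Nat.factorization_def _ (Fact.out : q.Prime),
    show 10200960 = q ^ 1 * (10200960 / q) by rcases hq with rfl | rfl <;> norm_num,
    padicValNat.mul (pow_ne_zero _ (Fact.out : q.Prime).ne_zero)
      (by rcases hq with rfl | rfl <;> norm_num),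
    padicValNat.prime_pow, padicValNat.eq_zero_of_not_dvd
      (by rcases hq with rfl | rfl <;> norm_num), pow_one]

theorem card_sylow23 (hc : Nat.card G = 10200960) (P : Sylow 23 G) : Nat.card P = 23 :=
  card_sylow_prime hc (Or.inr rfl) P

/-- The values of the counting function in a simple group of order 10200960. -/
theorem count_cases [IsSimpleGroup G] (hc : Nat.card G = 10200960) {c : ℕ}
    (hmem : 0 < c ∧ ∃ n : ℕ, c = Nat.card {g : G // orderOf g = n}) :
    c = 1 ∨ c = 887040 ∨ 23 ∣ c := by
  obtain ⟨-, n, rfl⟩ := hmem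
  obtain ⟨P⟩ : Nonempty (Sylow 23 G) := inferInstance
  by_cases h23 : n = 23
  · subst h23
    obtain ⟨D, ht, hts⟩ := PrimeBlock.exists_pblock' (not_comm hc) (by norm_num) P
      (card_sylow23 hc P)
    have hN := (sylow_twentythree hc P D ht hts).2.2
    have h1 : Nat.card (Sylow 23 G) = 40320 := by
      rw [P.card_eq_index_normalizer, ← P.coe_coe]
      have h2 := card_mul_index (normalizer ((P : Subgroup G) : Set G))
      rw [hN, hc] at h2
      omega
    refine Or.inr (Or.inl ?_)
    rw [card_order_eq (card_sylow23 hc), h1]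
  by_cases h1 : n = 1
  · subst h1
    refine Or.inl ?_
    simp [orderOf_eq_one_iff]
  refine Or.inr (Or.inr (dvd_card_set (P.isPGroup') {g : G | orderOf g = n} ?_ ?_))
  · intro a _ x hx
    exact (MulEquiv.orderOf_eq (MulAut.conj a) x).trans hx
  · intro x hx hxC
    have hC : centralizer ((P : Subgroup G) : Set G) = (P : Subgroup G) := by
      haveI : IsMulCommutative (P : Subgroup G) :=
        have := isCyclic_of_prime_card (p := 23) (card_sylow23 hc P)
        inferInstance
      refine (eq_of_le_of_card_ge (Subgroup.le_centralizer _) ?_).symm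
      rw [card_centralizer_twentythree hc P, card_sylow23 hc P]
    rw [hC] at hxC
    have hd : orderOf x ∣ 23 := by
      have := Subgroup.orderOf_dvd_natCard _ hxC
      rwa [card_sylow23 hc P] at this
    rcases (Nat.dvd_prime (by norm_num : Nat.Prime 23)).1 hd with h | h
    · exact h1 (hx.symm.trans h)
    · exact h23 (hx.symm.trans h)

section Main

variable (hc : Nat.card G = 10200960)
  (hnse : {c : ℕ | 0 < c ∧ ∃ n : ℕ, c = Nat.card {g : G // orderOf g = n}} =
    {c : ℕ | 0 < c ∧ ∃ n : ℕ, c = Nat.card {g : ↥Cfsg.Spor.M23 // orderOf g = n}})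

include hc hnse

omit hc in
theorem count_cases' {n : ℕ} (hn : 0 < Nat.card {g : G // orderOf g = n}) :
    Nat.card {g : G // orderOf g = n} = 1 ∨ Nat.card {g : G // orderOf g = n} = 887040 ∨
      23 ∣ Nat.card {g : G // orderOf g = n} := by
  haveI := isSimple_M23
  have h : Nat.card {g : G // orderOf g = n} ∈
      {c : ℕ | 0 < c ∧ ∃ m : ℕ, c = Nat.card {g : G // orderOf g = m}} := ⟨hn, n, rfl⟩
  rw [hnse] at h
  exact count_cases Golay.MultBig.card_M23' h

theorem card_normalizer23 (P : Sylow 23 G) :
    Nat.card (normalizer ((P : Subgroup G) : Set G)) = 253 ∧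
      Nat.card {g : G // orderOf g = 23} = 887040 := by
  have hmod := card_sylow_modEq_one 23 G
  have hcnt := card_order_eq (card_sylow23 hc)
  have hpos : 0 < Nat.card (Sylow 23 G) := Nat.card_pos
  have h := count_cases' hnse (n := 23) (by omega)
  have h1 : Nat.card (Sylow 23 G) = 40320 := by
    unfold Nat.ModEq at hmod
    rcases h with h | h | ⟨k, h⟩ <;> omega
  refine ⟨?_, by omega⟩
  have h2 := card_mul_index (normalizer ((P : Subgroup G) : Set G))
  rw [P.coe_coe, ← P.card_eq_index_normalizer, h1, hc] at h2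
  rw [P.coe_coe]
  omega

/-- A normal subgroup of order prime to 23 is trivial. -/
theorem eq_bot_of_not_dvd (K : Subgroup G) [K.Normal] (hK : ¬ 23 ∣ Nat.card K) : K = ⊥ := by
  obtain ⟨P⟩ : Nonempty (Sylow 23 G) := inferInstance
  have hPc := card_sylow23 hc P
  have main : ∀ q : ℕ, q.Prime → q ∣ Nat.card K → q = 11 := by
    intro q hq hqK
    by_contra hq11
    haveI : Fact q.Prime := ⟨hq⟩
    have hsolv : Group.IsSolvable (P : Subgroup G) := by
      haveI := isCyclic_of_prime_card (p := 23) hPc
      infer_instance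
    obtain ⟨Q, hQ⟩ := Coprime.exists_invariant_sylow q (A := (P : Subgroup G)) (K := K)
      (by rw [normalizer_eq_top]; exact le_top)
      (by rw [hPc]; exact ((by norm_num : Nat.Prime 23).coprime_iff_not_dvd).2 hK) (Or.inl hsolv)
    let Q' : Subgroup G := (Q : Subgroup K).map K.subtype
    have hQc : Nat.card Q' = q ^ (Nat.card K).factorization q := by
      rw [Subgroup.card_subtype, Q.card_eq_multiplicity]
    have hdvd : 23 ∣ Nat.card ((Q' : Set G) \ {1} : Set G) := by
      refine dvd_card_set P.isPGroup' _ ?_ ?_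
      · rintro a ha x ⟨hx, hx1⟩
        exact ⟨(mem_normalizer_iff.1 (hQ ha) x).1 hx, fun h => hx1 (by
          rw [Set.mem_singleton_iff] at h ⊢
          calc x = a⁻¹ * (a * x * a⁻¹) * a := by group
            _ = 1 := by rw [h]; group)⟩
      · rintro x ⟨hx, hx1⟩ hxC
        have h253 : orderOf x ∣ 253 := by
          have hxN : x ∈ normalizer ((P : Subgroup G) : Set G) :=
            centralizer_le_normalizer _ hxC
          have := Subgroup.orderOf_dvd_natCard _ hxN
          rwa [(card_normalizer23 hc hnse P).1] at this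
        have hqp : orderOf x ∣ q ^ (Nat.card K).factorization q := by
          rw [← hQc]; exact Subgroup.orderOf_dvd_natCard _ hx
        have hcop : (q ^ (Nat.card K).factorization q).Coprime 253 := by
          refine Nat.Coprime.pow_left _ (hq.coprime_iff_not_dvd.2 fun h => ?_)
          rcases hq.dvd_mul.1 (show q ∣ 11 * 23 from h) with h11c | h11
          · exact hq11 ((Nat.prime_dvd_prime_iff_eq hq (by norm_num)).1 h11c)
          · rw [(Nat.prime_dvd_prime_iff_eq hq (by norm_num)).1 h11] at hqK
            exact hK hqK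
        exact hx1 (orderOf_eq_one_iff.1 (Nat.eq_one_of_dvd_coprimes hcop hqp h253))
    rw [Nat.card_coe_set_eq, Set.ncard_diff_singleton_of_mem Q'.one_mem,
      ← Nat.card_coe_set_eq] at hdvd
    change 23 ∣ Nat.card Q' - 1 at hdvd
    rw [hQc] at hdvd
    have hk : 0 < (Nat.card K).factorization q :=
      hq.factorization_pos_of_dvd Nat.card_pos.ne' hqK
    have hd : q ^ (Nat.card K).factorization q ∣ 10200960 :=
      (Nat.ordProj_dvd _ _).trans (hc ▸ card_subgroup_dvd_card K)
    have hfin : ∀ a : ℕ, a ∈ ({2, 4, 8, 16, 32, 64, 128, 3, 9, 5, 7} : List ℕ) → ¬ 23 ∣ a - 1 := by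
      decide
    refine hfin _ ?_ hdvd
    have hq' : q ∣ 2 ^ 7 * (3 ^ 2 * (5 * (7 * (11 * 23)))) :=
      (show (10200960 : ℕ) = 2 ^ 7 * (3 ^ 2 * (5 * (7 * (11 * 23)))) by norm_num) ▸
        (dvd_pow_self q hk.ne').trans hd
    have hpr : ∀ r : ℕ, r.Prime → q ∣ r → q = r := fun r hr h =>
      (Nat.prime_dvd_prime_iff_eq hq hr).1 h
    have hcases : q = 2 ∨ q = 3 ∨ q = 5 ∨ q = 7 := by
      rcases hq.dvd_mul.1 hq' with h | h
      · exact Or.inl (hpr 2 Nat.prime_two (hq.dvd_of_dvd_pow h))
      rcases hq.dvd_mul.1 h with h | h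
      · exact Or.inr (Or.inl (hpr 3 Nat.prime_three (hq.dvd_of_dvd_pow h)))
      rcases hq.dvd_mul.1 h with h | h
      · exact Or.inr (Or.inr (Or.inl (hpr 5 (by norm_num) h)))
      rcases hq.dvd_mul.1 h with h | h
      · exact Or.inr (Or.inr (Or.inr (hpr 7 (by norm_num) h)))
      rcases hq.dvd_mul.1 h with h | h
      · exact absurd (hpr 11 (by norm_num) h) hq11
      · exact absurd (hpr 23 (by norm_num) h ▸ hqK) hK
    generalize (Nat.card K).factorization q = k at hd hk ⊢
    rcases hcases with rfl | rfl | rfl | rfl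
    · have : k ≤ 7 := by
        by_contra hlt
        have := (pow_dvd_pow 2 (show 8 ≤ k by omega)).trans hd
        norm_num at this
      interval_cases k <;> decide
    · have : k ≤ 2 := by
        by_contra hlt
        have := (pow_dvd_pow 3 (show 3 ≤ k by omega)).trans hd
        norm_num at this
      interval_cases k <;> decide
    · have : k ≤ 1 := by
        by_contra hlt
        have := (pow_dvd_pow 5 (show 2 ≤ k by omega)).trans hd
        norm_num at this
      interval_cases k
      decide
    · have : k ≤ 1 := by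
        by_contra hlt
        have := (pow_dvd_pow 7 (show 2 ≤ k by omega)).trans hd
        norm_num at this
      interval_cases k
      decide
  rw [eq_bot_iff_card]
  by_contra hne
  obtain ⟨r, hr, hrK⟩ := Nat.exists_prime_and_dvd hne
  have h11 : Nat.card K = 11 := by
    have hr11 := main r hr hrK
    subst hr11
    have hall : Nat.card K = 11 ^ (Nat.card K).primeFactorsList.length :=
      Nat.eq_prime_pow_of_unique_prime_dvd Nat.card_pos.ne' fun {d} hd1 hd2 => main d hd1 hd2
    have hd : Nat.card K ∣ 10200960 := hc ▸ card_subgroup_dvd_card K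
    generalize (Nat.card K).primeFactorsList.length = k at hall
    rw [hall] at hd hne ⊢
    have hk1 : k ≤ 1 := by
      by_contra hlt
      have := (pow_dvd_pow 11 (show 2 ≤ k by omega)).trans hd
      norm_num at this
    interval_cases k <;> simp_all
  haveI : Fact (Nat.Prime 11) := ⟨by norm_num⟩
  have hs : ∀ S : Sylow 11 G, Nat.card S = 11 := fun S => card_sylow_prime hc (Or.inl rfl) S
  have huniq : Nat.card (Sylow 11 G) = 1 := by
    obtain ⟨S⟩ : Nonempty (Sylow 11 G) := inferInstance
    let SK : Sylow 11 G := Sylow.ofCard K (by rw [h11, ← S.card_eq_multiplicity, hs])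
    haveI : (SK : Subgroup G).Normal := by rw [Sylow.coe_ofCard]; infer_instance
    rw [SK.card_eq_index_normalizer, ← SK.coe_coe, normalizer_eq_top, index_top]
  have hcnt := card_order_eq hs
  rw [huniq] at hcnt
  rcases count_cases' hnse (n := 11) (by omega) with h | h | h <;> omega

theorem isSimpleGroup : IsSimpleGroup G := by
  haveI : Nontrivial G := by
    rw [← Finite.one_lt_card_iff_nontrivial, hc]; norm_num
  refine ⟨fun N hN => or_iff_not_imp_left.2 fun hbot => ?_⟩
  by_contra htop
  haveI := hN
  have h11 : 23 ∣ Nat.card N := by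
    by_contra h
    exact hbot (eq_bot_of_not_dvd hc hnse N h)
  obtain ⟨⟨x, hxN⟩, hx⟩ := exists_prime_orderOf_dvd_card' (G := N) 23 h11
  rw [Subgroup.orderOf_mk] at hx
  obtain ⟨P₀⟩ : Nonempty (Sylow 23 G) := inferInstance
  let P : Sylow 23 G := Sylow.ofCard (zpowers x) (by
    rw [Nat.card_zpowers, hx, ← P₀.card_eq_multiplicity, card_sylow23 hc])
  have hPN : (P : Subgroup G) ≤ N := by
    rw [Sylow.coe_ofCard, zpowers_le]; exact hxN
  obtain ⟨hNP, -⟩ := card_normalizer23 hc hnse P
  have hPc := card_sylow23 hc P
  have hsup : normalizer ((P : Subgroup G) : Set G) ⊔ N = ⊤ := P.normalizer_sup_eq_top' hPN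
  have hidx : N.index = 11 := by
    have h1 : N.relIndex (normalizer ((P : Subgroup G) : Set G)) = N.index := by
      rw [← relIndex_sup_right, hsup, relIndex_top_right]
    have h2 : (P : Subgroup G).relIndex (normalizer ((P : Subgroup G) : Set G)) = 11 := by
      have := relIndex_mul_relIndex ⊥ (P : Subgroup G) (normalizer ((P : Subgroup G) : Set G))
        bot_le le_normalizer
      rw [relIndex_bot_left, relIndex_bot_left, hPc, hNP] at this
      omega
    have h3 := relIndex_dvd_of_le_left (normalizer ((P : Subgroup G) : Set G)) hPN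
    rw [h1, h2] at h3
    exact ((Nat.dvd_prime (by norm_num)).1 h3).resolve_left fun h => htop (index_eq_one.1 h)
  have hcardN : Nat.card N = 927360 := by
    have := card_mul_index N
    rw [hidx, hc] at this
    omega
  -- the Sylow subgroup is self-normalising in `N`
  let S : Sylow 23 N := P.subtype hPN
  have hSc : Nat.card S = 23 := by
    change Nat.card ((P : Subgroup G).subgroupOf N) = 23
    rw [Nat.card_congr (subgroupOfEquivOfLe hPN).toEquiv, hPc]
  have hle : normalizer ((S : Subgroup N) : Set N) ≤ centralizer ((S : Subgroup N) : Set N) := by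
    have hS : normalizer ((S : Subgroup N) : Set N) = (S : Subgroup N) := by
      refine (eq_of_le_of_card_ge le_normalizer ?_).symm
      change Nat.card (normalizer ((P : Subgroup G).subgroupOf N : Set N)) ≤ Nat.card S
      rw [← subgroupOf_normalizer_eq hPN, hSc]
      have hd1 : Nat.card ((normalizer ((P : Subgroup G) : Set G)).subgroupOf N) ∣ 927360 :=
        hcardN ▸ card_subgroup_dvd_card _
      have hd2 : Nat.card ((normalizer ((P : Subgroup G) : Set G)).subgroupOf N) ∣ 253 := by
        rw [← hNP, ← inf_subgroupOf_right, Nat.card_congr (subgroupOfEquivOfLe inf_le_right).toEquiv]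
        exact card_dvd_of_le inf_le_left
      have := Nat.le_of_dvd (by norm_num) (Nat.dvd_gcd hd1 hd2)
      norm_num at this
      exact this
    rw [hS]
    haveI : IsMulCommutative (S : Subgroup N) :=
      have := isCyclic_of_prime_card (p := 23) hSc
      inferInstance
    exact Subgroup.le_centralizer _
  have hcompl := MonoidHom.ker_transferSylow_isComplement' S hle
  set K₀ := (MonoidHom.transferSylow S hle).ker
  have hK₀ : Nat.card K₀ = 40320 := by
    have := hcompl.card_mul
    rw [hSc, hcardN] at this
    omega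
  have hmem : ∀ y : N, y ∈ K₀ ↔ ¬ 23 ∣ orderOf y := by
    intro y
    constructor
    · intro hy h
      have := h.trans (Subgroup.orderOf_dvd_natCard _ hy)
      rw [hK₀] at this
      norm_num at this
    · intro hy
      have h1 : orderOf (QuotientGroup.mk' K₀ y) ∣ 23 := by
        have h : orderOf (QuotientGroup.mk' K₀ y) ∣ Nat.card (N ⧸ K₀) := orderOf_dvd_natCard _
        rwa [← index_eq_card, hcompl.symm.index_eq_card, hSc] at h
      have h2 := orderOf_map_dvd (QuotientGroup.mk' K₀) y
      rcases (Nat.dvd_prime (by norm_num : Nat.Prime 23)).1 h1 with h | h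
      · exact (QuotientGroup.eq_one_iff y).1 (orderOf_eq_one_iff.1 h)
      · exact absurd (h ▸ h2) hy
  haveI : (K₀.map N.subtype).Normal := by
    refine ⟨?_⟩
    rintro _ ⟨y, hy, rfl⟩ g
    refine ⟨⟨g * y * g⁻¹, hN.conj_mem _ y.2 g⟩, (hmem _).2 ?_, rfl⟩
    rw [Subgroup.orderOf_mk, show g * (y : G) * g⁻¹ = MulAut.conj g y from rfl,
      MulEquiv.orderOf_eq, Subgroup.orderOf_coe]
    exact (hmem y).1 hy
  have hKc : Nat.card (K₀.map N.subtype) = 40320 := by
    rw [Subgroup.card_subtype, hK₀]
  have := eq_bot_of_not_dvd hc hnse (K₀.map N.subtype) (by rw [hKc]; norm_num)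
  rw [this, card_bot] at hKc
  norm_num at hKc

end Main

/-- A group with the order and the counts of elements of each order of M23 is simple. -/
theorem isSimpleGroup_of_nse (hcard : Nat.card G = Nat.card ↥Cfsg.Spor.M23)
    (hnse : {c : ℕ | 0 < c ∧ ∃ n : ℕ, c = Nat.card {g : G // orderOf g = n}} =
      {c : ℕ | 0 < c ∧ ∃ n : ℕ, c = Nat.card {g : ↥Cfsg.Spor.M23 // orderOf g = n}}) :
    IsSimpleGroup G :=
  isSimpleGroup (hcard.trans Golay.MultBig.card_M23') hnse

end Cfsg.Agent.M23Order.Nse
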