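import Cfsg.Agent.Lib.M23Order.Basic

/-!
# The principal block part of a class multiplication coefficient

For `|C(P)| = p c`, summing over the `p'`-part of the centralizer leaves the principal block only.
-/

set_option autoImplicit false
set_option linter.style.haveILetI false
set_option linter.unusedSectionVars false

namespace Cfsg.Agent.M23Order

open Subgroup
open Cfsg.Agent.Characters Cfsg.Agent.Blocks Cfsg.Agent.PrimeBlock
open Cfsg.Agent.SmallSimple
open Cfsg.Agent.M12Order (cen cls)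
open Cfsg.Agent.M22Order (PRow Row class_pairs)
open scoped ComplexConjugate

universe u

variable {G : Type u} [Group G] [Finite G] {p : ℕ} [Fact p.Prime] {P : Sylow p G} {D : PBlock P}

/-- The triple sum for a rational column, as an integer. -/
theorem block_triple [Fintype (Cfsg.IrrCharacter G)]
    [DecidablePred fun χ : Cfsg.IrrCharacter G => χ ∈ Cfsg.principalBlock D.M G] (R : PRow D)
    (hcard : Nat.card G = 10200960) {g : G}
    {f : Cfsg.IrrCharacter G → ℤ} (hf : ∀ χ ∈ R.all, (χ : G → ℂ) g = (f χ : ℂ)) (hrel : R.RelV f)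
    {x : G} (hx : x ∈ (P : Subgroup G)) (hx1 : x ≠ 1) :
    (Nat.card G : ℂ) * ∑ χ ∈ Finset.univ.filter (fun χ : Cfsg.IrrCharacter G => χ ∈ Cfsg.principalBlock D.M G),
        (χ : G → ℂ) g * (χ : G → ℂ) g * conj ((χ : G → ℂ) x) / (χ : G → ℂ) 1 =
      (quad R.M (R.us f) : ℂ) := by
  classical
  set T : Cfsg.IrrCharacter G → ℂ := fun χ =>
    (χ : G → ℂ) g * (χ : G → ℂ) g * conj ((χ : G → ℂ) x) / (χ : G → ℂ) 1 with hT
  show _ * ∑ χ ∈ _, T χ = _
  have htriv : trivIrr G ∉ R.all := fun h => R.ne_triv h rfl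
  rw [show Finset.univ.filter (fun χ : Cfsg.IrrCharacter G => χ ∈ Cfsg.principalBlock D.M G) =
      insert (trivIrr G) R.all.toFinset by
    ext χ
    simp only [Finset.mem_filter, Finset.mem_univ, true_and, Finset.mem_insert, List.mem_toFinset]
    refine ⟨fun h => ?_, fun h => ?_⟩
    · by_cases e : χ = trivIrr G
      · exact Or.inl e
      · exact Or.inr ((R.mem χ).2 ⟨h, e⟩)
    · rcases h with rfl | h
      · exact trivIrr_mem_principal D.hM
      · exact R.mem_block h,
    Finset.sum_insert (by simpa using htriv), Row.all, List.sum_toFinset _ R.nodup]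
  have hT1 : T (trivIrr G) = 1 := by simp [hT, trivIrr_coe]
  rw [hT1, List.map_append, List.sum_append, mul_add, mul_one, mul_add]
  have hdeg0 : ∀ χ : Cfsg.IrrCharacter G, (deg χ : ℂ) ≠ 0 := fun χ =>
    Nat.cast_ne_zero.2 (charDegree_pos χ).ne'
  have hord : (ord : ℂ) = (Nat.card G : ℂ) := by rw [hcard]; norm_num [ord]
  have hdvd : ∀ χ : Cfsg.IrrCharacter G, ((deg χ : ℕ) : ℤ) ∣ ord := fun χ => by
    show ((deg χ : ℕ) : ℤ) ∣ ((10200960 : ℕ) : ℤ)
    exact Int.natCast_dvd_natCast.2 (hcard ▸ char_degree_dvd_card χ)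
  have hcs : (Nat.card G : ℂ) * (R.cs.map T).sum =
      (((List.zipWith (fun z u => ord / z * (u * u)) R.M (R.us f)).sum : ℤ) : ℂ) := by
    rw [← List.sum_map_mul_left, Row.M, Row.us, List.zipWith_map, List.zipWith_self, Int.cast_list_sum,
      List.map_map]
    refine congrArg List.sum (List.map_congr_left fun χ hχ => ?_)
    have hm : χ ∈ R.all := List.mem_append_left _ hχ
    rw [Function.comp_apply, hT]
    simp only
    rw [hf χ hm, R.val_cs χ hχ x hx hx1, map_intCast, ← deg_cast, ← hord]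
    have hz : R.w χ * (deg χ : ℤ) ∣ ord := by
      rcases R.w_eq χ hχ with e | e <;> rw [e]
      · simpa using hdvd χ
      · simpa using hdvd χ
    rw [Int.cast_mul, Int.cast_div hz (by
      rcases R.w_eq χ hχ with e | e <;> rw [e] <;> simpa using hdeg0 χ)]
    have := hdeg0 χ
    rcases R.w_eq χ hχ with e | e <;> rw [e] <;> push_cast <;> field_simp
  obtain ⟨θ₀, hθ₀⟩ := List.exists_mem_of_ne_nil _ R.ys_ne
  have hδ : R.δ * R.δ = 1 := by rcases R.δ_eq with e | e <;> simp [e]
  have hys : (R.ys.map T).sum =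
      (f θ₀ : ℂ) * (f θ₀ : ℂ) / (deg θ₀ : ℂ) * -(R.δ : ℂ) := by
    have hsame : ∀ θ ∈ R.ys, T θ =
        (f θ₀ : ℂ) * (f θ₀ : ℂ) / (deg θ₀ : ℂ) * conj ((θ : G → ℂ) x) := by
      intro θ hθ
      have e1 : f θ = f θ₀ := by
        have a1 := congrArg (R.δ * ·) ((hrel θ hθ).trans (hrel θ₀ hθ₀).symm)
        simpa only [← mul_assoc, hδ, one_mul] using a1
      have e2 : (deg θ : ℤ) = (deg θ₀ : ℤ) := by
        have a1 := congrArg (R.δ * ·) ((R.rel θ hθ).trans (R.rel θ₀ hθ₀).symm)
        simpa only [← mul_assoc, hδ, one_mul] using a1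
      rw [hT]
      simp only
      rw [hf θ (List.mem_append_right _ hθ), e1, ← deg_cast, show deg θ = deg θ₀ by exact_mod_cast e2]
      ring
    rw [List.map_congr_left hsame, List.sum_map_mul_left,
      show (R.ys.map fun θ : Cfsg.IrrCharacter G => conj ((θ : G → ℂ) x)).sum =
        conj (R.ys.map fun θ : Cfsg.IrrCharacter G => (θ : G → ℂ) x).sum by
          rw [map_list_sum, List.map_map]; rfl,
      R.val_ys x hx hx1, map_neg, map_intCast]
  have hF := (R.rel θ₀ hθ₀).symm
  have hW := (hrel θ₀ hθ₀).symm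
  rw [hcs, hys, quad]
  rw [show 1 + R.M.sum = R.δ * (deg θ₀ : ℤ) from hF, hW]
  have hz : R.δ * (deg θ₀ : ℤ) ∣ ord := by
    rcases R.δ_eq with e | e <;> rw [e] <;> simpa using hdvd θ₀
  have hne : R.δ * (deg θ₀ : ℤ) ≠ 0 := mul_ne_zero (by rcases R.δ_eq with e | e <;> simp [e])
    (Int.natCast_ne_zero.2 (charDegree_pos θ₀).ne')
  obtain ⟨k, hk⟩ := hz
  have hq : ord / (R.δ * (deg θ₀ : ℤ)) = k := by rw [hk, Int.mul_ediv_cancel_left _ hne]
  have hk' : (ord : ℂ) = (R.δ : ℂ) * (deg θ₀ : ℂ) * (k : ℂ) := by rw [hk]; push_cast; ring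
  rw [hq, ← hord]
  push_cast
  rw [hk']
  have := hdeg0 θ₀
  have hδ' : (R.δ : ℂ) * (R.δ : ℂ) = 1 := by exact_mod_cast hδ
  field_simp
  ring


variable [Fintype G]

variable (P) in
/-- The elements of order prime to `p` centralizing `P`. -/
noncomputable def kset : Finset G :=
  (Set.toFinite {k : G | k ∈ centralizer ((P : Subgroup G) : Set G) ∧ ¬ p ∣ orderOf k}).toFinset

theorem mem_kset {k : G} :
    k ∈ kset P ↔ k ∈ centralizer ((P : Subgroup G) : Set G) ∧ ¬ p ∣ orderOf k := by simp [kset]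

variable {c : ℕ} (hC : Nat.card (centralizer ((P : Subgroup G) : Set G)) = p * c)
include hC

theorem card_kset (D : PBlock P) : (kset P).card = c := by
  classical
  obtain ⟨g, K, h, u, hD⟩ := exists_primeData P D.card_P
  have hk : ∀ k, k ∈ kset P ↔ k ∈ K := fun k => by rw [mem_kset, hD.mem_iff, and_comm]
  have hK : (kset P).card = Nat.card K := by
    rw [← Nat.card_eq_finsetCard]
    exact Nat.card_congr (Equiv.subtypeEquivRight hk)
  set C := centralizer ((P : Subgroup G) : Set G) with hCdef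
  have hPC : ∀ y ∈ (P : Subgroup G), y ∈ C := fun y hy => mem_centralizer_iff.2 fun z hz => by
    haveI : IsCyclic (P : Subgroup G) := isCyclic_of_prime_card D.card_P
    letI := IsCyclic.commGroup (α := (P : Subgroup G))
    exact congrArg Subtype.val (mul_comm (⟨z, hz⟩ : (P : Subgroup G)) ⟨y, hy⟩)
  let F : ↥(P : Subgroup G) × ↥K → ↥C := fun q =>
    ⟨(q.1 : G) * (q.2 : G), C.mul_mem (hPC _ q.1.2) ((hD.mem_iff _).1 q.2.2).2⟩
  have hbij : Function.Bijective F := by
    constructor
    · rintro ⟨y, k⟩ ⟨y', k'⟩ h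
      have he : (y : G) * k = y' * k' := congrArg Subtype.val h
      have h0 : (y' : G)⁻¹ * y = k' * (k : G)⁻¹ := by
        rw [eq_mul_inv_iff_mul_eq, mul_assoc, he, inv_mul_cancel_left]
      have hyy : (y' : G)⁻¹ * y = 1 := by
        by_contra hne
        have h1 : orderOf ((y' : G)⁻¹ * y) = p :=
          D.orderOf_eq ((P : Subgroup G).mul_mem ((P : Subgroup G).inv_mem y'.2) y.2) hne
        rw [h0] at h1
        exact ((hD.mem_iff _).1 (K.mul_mem k'.2 (K.inv_mem k.2))).1 (h1 ▸ dvd_rfl)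
      have h2 : (y' : G) = y := (eq_of_inv_mul_eq_one hyy)
      rw [h2] at he
      exact Prod.ext (Subtype.ext h2.symm) (Subtype.ext (mul_left_cancel he))
    · rintro ⟨z, hz⟩
      obtain ⟨i, k, hk, rfl⟩ := hD.decomp z hz
      exact ⟨(⟨g ^ i, (P : Subgroup G).pow_mem (hD.gen ▸ mem_zpowers g) i⟩, ⟨k, hk⟩), rfl⟩
  have hc := Nat.card_congr (Equiv.ofBijective F hbij)
  rw [Nat.card_prod, D.card_P, hC] at hc
  rw [hK]
  exact Nat.eq_of_mul_eq_mul_left (Fact.out : p.Prime).pos hc

/-- One exponent takes every `x k` to `x`. -/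
theorem exists_exp (D : PBlock P) {x : G} (hx : x ∈ (P : Subgroup G)) :
    ∃ m : ℕ, ∀ k ∈ kset P, (x * k) ^ m = x := by
  classical
  obtain ⟨g, K, h, u, hD⟩ := exists_primeData P D.card_P
  have hcop : p.Coprime (Nat.card K) := (Fact.out : p.Prime).coprime_iff_not_dvd.2 hD.not_dvd
  obtain ⟨m, hm1, hm0⟩ := Nat.chineseRemainder hcop 1 0
  refine ⟨m, fun k hk => ?_⟩
  obtain ⟨hkC, hkr⟩ := mem_kset.1 hk
  have hcm : Commute x k := mem_centralizer_iff.1 hkC x hx
  have hk1 : k ^ m = 1 := by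
    obtain ⟨j, hj⟩ := Nat.modEq_zero_iff_dvd.1 hm0
    have h1 : k ^ Nat.card K = 1 :=
      congrArg Subtype.val (pow_card_eq_one' (G := K) (x := ⟨k, (hD.mem_iff k).2 ⟨hkr, hkC⟩⟩))
    rw [hj, pow_mul, h1, one_pow]
  rw [hcm.mul_pow, hk1, mul_one]
  conv_rhs => rw [← pow_one x]
  exact pow_eq_pow_iff_modEq.2 (hm1.of_dvd (orderOf_dvd_of_pow_eq_one (D.x_pow hx)))

/-- Characters outside the principal block add up to zero on each `p`-section. -/
theorem sum_kset_zero (D : PBlock P) {χ : Cfsg.IrrCharacter G}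
    (hχ : χ ∉ Cfsg.principalBlock D.M G) {x : G} (hx : x ∈ (P : Subgroup G)) (hx1 : x ≠ 1) :
    ∑ k ∈ kset P, (χ : G → ℂ) (x * k) = 0 := by
  classical
  haveI := Fintype.ofFinite (Cfsg.IrrCharacter G)
  set C := centralizer ((P : Subgroup G) : Set G) with hCdef
  obtain ⟨m, hm⟩ := exists_exp hC D hx
  have hCx : ∀ a : G, a ∈ C ↔ a * x * a⁻¹ = x := fun a => by
    rw [hCdef, ← D.centralizer_eq hx hx1, mem_centralizer_singleton_iff, mul_inv_eq_iff_eq_mul]
  set S : Cfsg.IrrCharacter G → ℂ := fun ψ => ∑ k ∈ kset P, (ψ : G → ℂ) (x * k) with hS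
  have htot : ∑ ψ, S ψ * conj (S ψ) = ((c * (p * c) : ℕ) : ℂ) := by
    simp only [hS, map_sum, Finset.sum_mul, Finset.mul_sum]
    rw [Finset.sum_comm]
    simp only [Finset.sum_comm (s := (Finset.univ : Finset (Cfsg.IrrCharacter G))),
      second_orthogonality]
    have key : ∀ k ∈ kset P, ∑ k' ∈ kset P,
        (if IsConj (x * k) (x * k') then
          (Nat.card (centralizer ({x * k'} : Set G)) : ℂ) else 0) = ((p * c : ℕ) : ℂ) := by
      intro k hk
      have hfib : ∀ k' ∈ kset P, (if IsConj (x * k) (x * k') then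
          (Nat.card (centralizer ({x * k'} : Set G)) : ℂ) else 0) =
            (((Finset.univ.filter fun a : G => a ∈ C).filter fun a =>
              x⁻¹ * (a * (x * k') * a⁻¹) = k).card : ℂ) := by
        intro k' hk'
        have e : ∀ a : G, (a ∈ C ∧ x⁻¹ * (a * (x * k') * a⁻¹) = k) ↔ a * (x * k') * a⁻¹ = x * k := by
          intro a
          rw [inv_mul_eq_iff_eq_mul]
          refine ⟨And.right, fun h => ⟨(hCx a).2 ?_, h⟩⟩
          have := congrArg (· ^ m) h
          rwa [conj_pow, hm k' hk', hm k hk] at this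
        rw [show ((Finset.univ.filter fun a : G => a ∈ C).filter fun a =>
            x⁻¹ * (a * (x * k') * a⁻¹) = k).card = Nat.card {a : G // a * (x * k') * a⁻¹ = x * k} by
          rw [Nat.card_eq_fintype_card, Fintype.card_subtype]
          congr 1; ext a; simp [e]]
        split_ifs with hc
        · rw [Basic.card_conjugating_eq_centralizer hc.symm]
        · rw [eq_comm, Nat.cast_eq_zero, Nat.card_eq_zero]
          exact Or.inl ⟨fun a => hc (isConj_iff.2 ⟨a.1, a.2⟩).symm⟩
      rw [Finset.sum_congr rfl hfib, ← Nat.cast_sum, ← hC]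
      congr 1
      rw [Nat.card_eq_fintype_card, Fintype.card_subtype,
        Finset.card_eq_sum_card_fiberwise (f := fun a : G => a⁻¹ * k * a) (t := kset P)]
      · refine Finset.sum_congr rfl fun k' _ => ?_
        congr 1
        refine Finset.filter_congr fun a ha => ?_
        have ha' : a * x * a⁻¹ = x := (hCx a).1 (Finset.mem_filter.1 ha).2
        rw [show a * (x * k') * a⁻¹ = (a * x * a⁻¹) * (a * k' * a⁻¹) by group, ha', inv_mul_cancel_left]
        constructor
        · intro h; rw [← h]; group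
        · intro h; rw [← h]; group
      · intro a ha
        have haC : a ∈ C := (Finset.mem_filter.1 ha).2
        obtain ⟨hkC, hkr⟩ := mem_kset.1 hk
        refine mem_kset.2 ⟨C.mul_mem (C.mul_mem (C.inv_mem haC) hkC) haC, ?_⟩
        show ¬ p ∣ orderOf (a⁻¹ * k * a)
        rwa [show a⁻¹ * k * a = MulAut.conj a⁻¹ k by simp, MulEquiv.orderOf_eq]
    rw [Finset.sum_comm]
    refine (Finset.sum_congr rfl fun k hk => (Finset.sum_congr rfl fun k' _ => ?_).trans (key k hk)).trans ?_
    · split_ifs <;> rfl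
    rw [Finset.sum_const, card_kset hC D, nsmul_eq_mul]
    push_cast; ring
  have hblk : ∑ ψ ∈ Finset.univ.filter (fun ψ => ψ ∈ Cfsg.principalBlock D.M G),
      S ψ * conj (S ψ) = ((c * (c * p) : ℕ) : ℂ) := by
    have hval : ∀ ψ ∈ Finset.univ.filter (fun ψ => ψ ∈ Cfsg.principalBlock D.M G),
        S ψ * conj (S ψ) = (c : ℂ) * c * ((ψ : G → ℂ) x * conj ((ψ : G → ℂ) x)) := by
      intro ψ hψ
      simp only [hS]
      rw [Finset.sum_congr rfl fun k hk => D.value_mul (Finset.mem_filter.1 hψ).2 hx hx1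
        (mem_kset.1 hk).1 (mem_kset.1 hk).2, Finset.sum_const, card_kset hC D, nsmul_eq_mul,
        map_mul, map_natCast]
      ring
    rw [Finset.sum_congr rfl hval, ← Finset.mul_sum]
    have h2 := D.norm_block hx hx1
    rw [finsum_mem_eq_finite_toFinset_sum _ (Set.toFinite _)] at h2
    rw [show (Finset.univ.filter fun ψ => ψ ∈ Cfsg.principalBlock D.M G) =
      (Set.toFinite (Cfsg.principalBlock D.M G)).toFinset by ext; simp, h2]
    push_cast; ring
  rw [← Finset.sum_filter_add_sum_filter_not Finset.univ (fun ψ => ψ ∈ Cfsg.principalBlock D.M G),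
    hblk, show c * (p * c) = c * (c * p) by ring, add_eq_left] at htot
  have h3 := congrArg Complex.re htot
  simp only [Complex.re_sum, Complex.mul_conj, Complex.ofReal_re, Complex.zero_re] at h3
  have h4 := (Finset.sum_eq_zero_iff_of_nonneg fun ψ _ => Complex.normSq_nonneg _).1 h3 χ (by simp [hχ])
  simp only [hS] at h4
  exact Complex.normSq_eq_zero.1 h4

/-- **The coefficient of the principal block.** -/
theorem quad_gen (R : PRow D) (hcard : Nat.card G = 10200960) {g : G} (hg : orderOf g = 2)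
    {f : Cfsg.IrrCharacter G → ℤ} (hf : ∀ χ ∈ R.all, (χ : G → ℂ) g = (f χ : ℂ)) (hrel : R.RelV f) :
    ∃ T : ℕ, quad R.M (R.us f) * (c : ℤ) = (cen g : ℤ) * (cen g : ℤ) * (T : ℤ) ∧
      T ≤ (p * c * D.e - p * c) * c ∧ (D.e % 2 = 1 → T = 0) := by
  classical
  haveI := Fintype.ofFinite (Cfsg.IrrCharacter G)
  obtain ⟨x, hx1, hx⟩ := D.exists_ne_one
  set C := centralizer ((P : Subgroup G) : Set G) with hCdef
  set N := normalizer ((P : Subgroup G) : Set G) with hNdef
  obtain ⟨m, hm⟩ := exists_exp hC D hx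
  let A : G → Finset G := fun k => Finset.univ.filter fun s => IsConj g s ∧ IsConj g (s * (x * k))
  refine ⟨∑ k ∈ kset P, (A k).card, ?_, ?_, ?_⟩
  · have hcount : ∀ k ∈ kset P, (Nat.card G : ℂ) * ∑ χ : Cfsg.IrrCharacter G,
        (χ : G → ℂ) g * (χ : G → ℂ) g * conj ((χ : G → ℂ) (x * k)) / (χ : G → ℂ) 1 =
          (cen g : ℂ) * (cen g : ℂ) * ((A k).card : ℂ) := by
      intro k _
      rw [class_pairs g g (x * k)]
      set y := x * k
      have hinv : ∀ a : G, (a * g * a⁻¹)⁻¹ = a * g * a⁻¹ := fun a =>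
        inv_eq_self_of_orderOf_eq_two ((MulEquiv.orderOf_eq (MulAut.conj a) g).trans hg)
      have e : Nat.card {q : G × G // (q.1 * g * q.1⁻¹) * (q.2 * g * q.2⁻¹) = y} =
          Nat.card (Σ a : G, {b : G // b * g * b⁻¹ = (a * g * a⁻¹) * y}) := by
        refine Nat.card_congr
          { toFun := fun q => ⟨q.1.1, q.1.2, ?_⟩
            invFun := fun z => ⟨(z.1, z.2.1), ?_⟩
            left_inv := fun q => rfl
            right_inv := fun z => rfl }
        · conv_rhs => rw [← hinv q.1.1]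
          rw [eq_inv_mul_iff_mul_eq, q.2]
        · show z.1 * g * z.1⁻¹ * (z.2.1 * g * z.2.1⁻¹) = y
          rw [z.2.2, ← eq_inv_mul_iff_mul_eq, hinv]
      rw [e, Nat.card_sigma]
      have e2 : ∀ a : G, Nat.card {b : G // b * g * b⁻¹ = (a * g * a⁻¹) * y} =
          if IsConj g ((a * g * a⁻¹) * y) then cen g else 0 := fun a => by
        split_ifs with hq
        · rw [Basic.card_conjugating_eq_centralizer hq]
        · rw [Nat.card_eq_zero]
          exact Or.inl ⟨fun b => hq (isConj_iff.2 ⟨b.1, b.2⟩)⟩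
      rw [Finset.sum_congr rfl fun a _ => e2 a, ← Finset.sum_filter, Finset.sum_const, smul_eq_mul,
        ← Fintype.card_subtype, ← Nat.card_eq_fintype_card,
        Basic.card_conjugating g fun s => IsConj g (s * y),
        show Nat.card {s : G // IsConj g s ∧ IsConj g (s * y)} = (A k).card by
          rw [Nat.card_eq_fintype_card, Fintype.card_subtype]]
      push_cast; ring
    have hsum : ∀ χ : Cfsg.IrrCharacter G, ∑ k ∈ kset P,
        (χ : G → ℂ) g * (χ : G → ℂ) g * conj ((χ : G → ℂ) (x * k)) / (χ : G → ℂ) 1 =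
        if χ ∈ Cfsg.principalBlock D.M G then
          (c : ℂ) * ((χ : G → ℂ) g * (χ : G → ℂ) g * conj ((χ : G → ℂ) x) / (χ : G → ℂ) 1) else 0 := by
      intro χ
      rw [← Finset.sum_div, ← Finset.mul_sum, ← map_sum]
      split_ifs with h
      · rw [Finset.sum_congr rfl fun k hk => D.value_mul h hx hx1 (mem_kset.1 hk).1 (mem_kset.1 hk).2,
          Finset.sum_const, card_kset hC D, nsmul_eq_mul, map_mul, map_natCast]
        ring
      · rw [sum_kset_zero hC D h hx hx1]; simp
    have h := Finset.sum_congr rfl hcount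
    rw [← Finset.mul_sum, Finset.sum_comm, Finset.sum_congr rfl fun χ _ => hsum χ,
      ← Finset.sum_filter, ← Finset.mul_sum, ← mul_assoc, mul_comm (Nat.card G : ℂ) (c : ℂ),
      mul_assoc, block_triple R hcard hf hrel hx hx1, ← Finset.mul_sum] at h
    have h' : ((quad R.M (R.us f) * (c : ℤ) : ℤ) : ℂ) =
        (((cen g : ℤ) * (cen g : ℤ) * ((∑ k ∈ kset P, (A k).card : ℕ) : ℤ) : ℤ) : ℂ) := by
      push_cast at h ⊢
      linear_combination h
    exact_mod_cast h'
  all_goals
    have hin : ∀ k ∈ kset P, ∀ s ∈ A k, s ∈ N ∧ s ∉ C ∧ s * x * s⁻¹ = x⁻¹ := by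
      intro k hk s hs
      obtain ⟨h1, h2⟩ := (Finset.mem_filter.1 hs).2
      obtain ⟨a, rfl⟩ := isConj_iff.1 h1
      obtain ⟨b, hb⟩ := isConj_iff.1 h2
      set s := a * g * a⁻¹
      have hi : s⁻¹ = s :=
        inv_eq_self_of_orderOf_eq_two ((MulEquiv.orderOf_eq (MulAut.conj a) g).trans hg)
      have hi' : (s * (x * k))⁻¹ = s * (x * k) := by
        rw [← hb]
        exact inv_eq_self_of_orderOf_eq_two ((MulEquiv.orderOf_eq (MulAut.conj b) g).trans hg)
      rw [mul_inv_rev, hi] at hi'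
      have h3 : s * (x * k) * s⁻¹ = (x * k)⁻¹ := by
        rw [← hi', mul_assoc, mul_inv_cancel, mul_one]
      have h4 := congrArg (· ^ m) h3
      rw [conj_pow, inv_pow, hm k hk] at h4
      refine ⟨?_, fun hsC => ?_, h4⟩
      · rw [hNdef, ← D.zpowers_eq hx hx1, mem_normalizer_iff]
        intro y
        simp only [mem_zpowers_iff]
        constructor
        · rintro ⟨j, rfl⟩
          exact ⟨-j, by rw [← conj_zpow, h4, inv_zpow']⟩
        · rintro ⟨j, hj⟩
          refine ⟨-j, mul_left_cancel (a := s) (mul_right_cancel (b := s⁻¹) ?_)⟩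
          rw [← hj, ← conj_zpow, h4, inv_zpow', neg_neg]
      · have hfix : s * x * s⁻¹ = x := by
          rw [(mem_centralizer_iff.1 hsC x hx).symm, mul_assoc, mul_inv_cancel, mul_one]
        rw [hfix] at h4
        have h2 : x ^ 2 = 1 := by rw [pow_two]; exact eq_inv_iff_mul_eq_one.1 h4
        have := D.orderOf_eq hx hx1 ▸ orderOf_dvd_of_pow_eq_one h2
        exact D.odd ((Nat.prime_dvd_prime_iff_eq Fact.out Nat.prime_two).1 this)
  · have hN : Nat.card N = p * c * D.e := by
      rw [← hC, ← D.he, Subgroup.relIndex,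
        ← Nat.card_congr (subgroupOfEquivOfLe (centralizer_le_normalizer ..)).toEquiv, card_mul_index]
    have hsub : ∀ k ∈ kset P, (A k).card ≤ p * c * D.e - p * c := by
      intro k hk
      have hle : A k ⊆ (Finset.univ.filter fun s => s ∈ N) \ (Finset.univ.filter fun s => s ∈ C) :=
        fun s hs => by simp [(hin k hk s hs).1, (hin k hk s hs).2.1]
      refine (Finset.card_le_card hle).trans (le_of_eq ?_)
      have hCN : (Finset.univ.filter fun s => s ∈ C) ⊆ Finset.univ.filter fun s => s ∈ N :=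
        fun s hs => by
          simp only [Finset.mem_filter, Finset.mem_univ, true_and] at hs ⊢
          exact centralizer_le_normalizer _ hs
      rw [Finset.card_sdiff_of_subset hCN, ← Fintype.card_subtype, ← Fintype.card_subtype,
        ← Nat.card_eq_fintype_card, ← Nat.card_eq_fintype_card, ← hN, ← hC]
    calc ∑ k ∈ kset P, (A k).card ≤ ∑ _k ∈ kset P, (p * c * D.e - p * c) := Finset.sum_le_sum hsub
      _ = _ := by rw [Finset.sum_const, card_kset hC D, smul_eq_mul, mul_comm]
  · intro he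
    refine Finset.sum_eq_zero fun k hk => Finset.card_eq_zero.2 (Finset.eq_empty_of_forall_notMem ?_)
    intro s hs
    obtain ⟨hsN, hsC, h4⟩ := hin k hk s hs
    have h2 : s * s = 1 := by
      obtain ⟨a, ha⟩ := isConj_iff.1 (Finset.mem_filter.1 hs).2.1
      rw [← pow_two, ← (show orderOf s = 2 by rw [← ha]; exact (MulEquiv.orderOf_eq (MulAut.conj a) g).trans hg),
        pow_orderOf_eq_one]
    set q : N ⧸ (C.subgroupOf N) := QuotientGroup.mk (⟨s, hsN⟩ : N) with hq
    have hq1 : orderOf q = 2 := by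
      refine orderOf_eq_prime ?_ fun h => hsC ?_
      · rw [pow_two, hq, ← QuotientGroup.mk_mul, QuotientGroup.eq_one_iff, mem_subgroupOf]
        simp [h2]
      · rw [hq, QuotientGroup.eq_one_iff, mem_subgroupOf] at h
        exact h
    have hd := orderOf_dvd_natCard q
    rw [hq1] at hd
    have : 2 ∣ D.e := by rw [← D.he, Subgroup.relIndex]; exact hd
    omega

end Cfsg.Agent.M23Order
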