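import Cfsg.Agent.Lib.M23Order.Data

/-!
# The searches at the prime 23
-/

set_option autoImplicit false
set_option maxHeartbeats 4000000

namespace Cfsg.Agent.M23Order

/-- All degrees. -/
def allDeg : ℕ → Bool := fun _ => true

/-- The signed degrees possible if `|C(P₂₃)| = 23 c` with `c = 12, 288`. -/
def cand70 : List ℤ := [70, -160, 231, -528, -1540, 1680]

theorem ec23 : ((ecList 23).all fun x => (x == (11, 1)) || (x == (11, 24)) || (x == (11, 576)) ||
    (x == (22, 12)) || (x == (22, 288)) || (rows allDeg 23 x.1 x.2).isEmpty) = true := by
  decide +kernel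

theorem dead23 : (([24, 576] : List ℕ).all fun c =>
    dead 23 11 c (candList 23 c allDeg) (rows allDeg 23 11 c) [] false) = true := by
  decide +kernel

theorem full23_ok : (([12, 288] : List ℕ).all fun c => (c % 2 == 0) &&
    (candList 23 c allDeg == cand70) && (cList 23 22 c []).all (full23 c)) = true := by
  decide +kernel

theorem cand23_eq : candList 23 1 allDeg = cand23 := by decide +kernel

end Cfsg.Agent.M23Order
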