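import Cfsg.Agent.Lib.M23Order.Data

/-!
# Values at a central involution of the principal 23-block
-/

set_option autoImplicit false
set_option maxHeartbeats 4000000

namespace Cfsg.Agent.M23Order

theorem scanM_ok : (rows231.all scanM) = true := by
  decide +kernel

end Cfsg.Agent.M23Order
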