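import Cfsg.Agent.Lib.M23Order.ScanFive

/-!
# The search at the prime 7 among the seventeen degrees
-/

set_option autoImplicit false
set_option maxHeartbeats 4000000

namespace Cfsg.Agent.M23Order

/-- The non-trivial degrees, with multiplicities. -/
def degs17 : List ℕ := [22, 45, 45, 230, 231, 231, 231, 253, 770, 770, 896, 896, 990, 990, 1035, 2024]

/-- One of the seventeen degrees. -/
def ok17 (d : ℕ) : Bool := degs17.contains d

/-- A row within the seventeen degrees, with multiplicities. -/
def fit17 (K : ℕ) (M : List ℤ) : Bool :=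
  (dgs K M).all fun d => Nat.ble ((dgs K M).count d) (degs17.count d)

theorem ec7_17 : ((ecList 7).all fun x => (x.2 % 5 == 0) || (x.2 % 11 == 0) || (x.2 % 23 == 0) ||
    (rows ok17 7 x.1 x.2).all fun M => !fit17 (6 / x.1) M ||
      ((x.1 == 3) && ([2, 16, 128] : List ℕ).contains x.2 && M.isPerm [-1035, 2024])) = true := by
  decide +kernel

end Cfsg.Agent.M23Order
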