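import Cfsg.Agent.Lib.M23Order.Involution
import Cfsg.Agent.Lib.M23Order.ScanM
import Cfsg.Agent.Lib.M23Order.ScanSeven

/-!
# Simple groups of order 10200960: the principal 23-block and the seventeen characters
-/

set_option autoImplicit false
set_option linter.style.haveILetI false
set_option linter.unusedSectionVars false
set_option maxHeartbeats 1000000

namespace Cfsg.Agent.M23Order

open Subgroup
open Cfsg.Agent.Characters Cfsg.Agent.Blocks Cfsg.Agent.PrimeBlock
open Cfsg.Agent.SmallSimple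
open Cfsg.Agent.M12Order (cen iv iv_spec iv_triv)
open Cfsg.Agent.M22Order (PRow Row combs combs_complete exists_perm_map forceLL_eq forceL_eq
  forceI_eq forceN_eq sqSum)
open scoped ComplexConjugate

universe u

theorem cand253_spec : (cand23.all fun z => (z % 11 != 0) || cand253.contains z) = true := by
  decide +kernel

theorem pairs_eq_M22 (K : ℕ) (M us : List ℤ) : pairs K M us = Cfsg.Agent.M22Order.pairs K M us := rfl

/-- The characters found through the blocks at 23, 11 and 5. -/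
structure Table (G : Type u) [Group G] [Finite G] extends Core G where
  a : Cfsg.IrrCharacter G
  h' : Cfsg.IrrCharacter G
  h'' : Cfsg.IrrCharacter G
  k : Cfsg.IrrCharacter G
  k' : Cfsg.IrrCharacter G
  f : Cfsg.IrrCharacter G
  f' : Cfsg.IrrCharacter G
  d : Cfsg.IrrCharacter G
  da : deg a = 22
  dh' : deg h' = 231
  dh'' : deg h'' = 231
  dk : deg k = 990
  dk' : deg k' = 990
  df : deg f = 770
  df' : deg f' = 770
  dd : deg d = 253
  nd : [trivIrr G, a, b, b', c, h, h', h'', d, f, f', g, g', k, k', m, n].Nodup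
  all : ∀ χ, χ ∈ [trivIrr G, a, b, b', c, h, h', h'', d, f, f', g, g', k, k', m, n]
  va : iv t a = 6
  vh' : iv t h' = 7
  vh'' : iv t h'' = 7
  vk : iv t k = -18
  vk' : iv t k' = -18
  vf : iv t f = -14
  vf' : iv t f' = -14
  vd : iv t d = 13
  rel23 : ∀ x : G, ¬ 23 ∣ orderOf x → (f : G → ℂ) x = (f' : G → ℂ) x ∧
    (f : G → ℂ) x = 1 - (a : G → ℂ) x - (b : G → ℂ) x - (b' : G → ℂ) x + (h : G → ℂ) x +
      (h' : G → ℂ) x + (h'' : G → ℂ) x - (g : G → ℂ) x - (g' : G → ℂ) x + (k : G → ℂ) x + (k' : G → ℂ) x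
  val23 : ∀ z : G, orderOf z = 23 → (a : G → ℂ) z = -1 ∧ (b : G → ℂ) z = -1 ∧ (b' : G → ℂ) z = -1 ∧
    (h : G → ℂ) z = 1 ∧ (h' : G → ℂ) z = 1 ∧ (h'' : G → ℂ) z = 1 ∧ (g : G → ℂ) z = -1 ∧
    (g' : G → ℂ) z = -1 ∧ (k : G → ℂ) z = 1 ∧ (k' : G → ℂ) z = 1 ∧
    (f : G → ℂ) z + (f' : G → ℂ) z = -1

variable {G : Type u} [Group G] [Finite G] [IsSimpleGroup G] (hcard : Nat.card G = 10200960)

include hcard

theorem exists_table : Nonempty (Table G) := by
  classical
  haveI := Fintype.ofFinite (Cfsg.IrrCharacter G)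
  have hG := not_comm hcard
  obtain ⟨T⟩ := exists_core hcard
  obtain ⟨P, D, R, hC, -, he, hK⟩ := exists_row_twentythree hcard
  have hp : (23 : ℕ) = 5 ∨ (23 : ℕ) = 7 ∨ (23 : ℕ) = 11 ∨ (23 : ℕ) = 23 := by omega
  have ht := T.ord_t
  have h23t : ¬ 23 ∣ orderOf T.t := by rw [ht]; norm_num
  have hnd8 := T.nodup
  have hne8 : ∀ χ ∈ [T.b, T.b', T.g, T.g', T.h, T.c, T.m, T.n], χ ≠ trivIrr G :=
    fun χ hχ e => T.ne_one (e ▸ hχ)
  -- the five known members
  have hfive : ∀ χ ∈ [T.b, T.b', T.g, T.g', T.h], χ ∈ R.cs := by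
    intro χ hχ
    have hne : χ ≠ trivIrr G := hne8 χ (by
      simp only [List.mem_cons, List.not_mem_nil, or_false] at hχ ⊢; tauto)
    have hd : deg χ = 45 ∨ deg χ = 896 ∨ deg χ = 231 := by
      simp only [List.mem_cons, List.not_mem_nil, or_false] at hχ
      rcases hχ with rfl | rfl | rfl | rfl | rfl <;> simp [T.db, T.db', T.dg, T.dg', T.dh]
    rcases List.mem_append.1 (R.mem_all_of_not_dvd hC hne (by
      rcases hd with e | e | e <;> rw [e] <;> norm_num)) with h | h
    · exact h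
    · have := R.cong_ys χ h
      rw [he] at this
      rcases hd with e | e | e <;> rw [e] at this <;>
        rcases R.δ_eq with e' | e' <;> rw [e'] at this <;> omega
  set K5 := [T.b, T.b', T.g, T.g', T.h] with hK5
  have hK5nd : K5.Nodup := by
    have h : ([T.b, T.b', T.g, T.g', T.h] ++ [T.c, T.m, T.n]).Nodup := hnd8
    exact (List.nodup_append.1 h).1
  set rest := R.cs.filter fun χ => decide (χ ∉ K5) with hrest
  have hndR : R.cs.Nodup := (List.nodup_append.1 R.nodup).1
  have hperm : (K5 ++ rest).Perm R.cs := by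
    refine List.perm_of_nodup_nodup_toFinset_eq (List.nodup_append.2 ⟨hK5nd, hndR.filter _,
      fun x hx y hy e => ?_⟩) hndR ?_
    · rw [List.mem_filter, decide_eq_true_eq] at hy; exact hy.2 (e ▸ hx)
    · ext χ
      simp only [List.mem_toFinset, List.mem_append, hrest, List.mem_filter, decide_eq_true_eq]
      exact ⟨fun h => h.elim (hfive χ) (fun h' => h'.1), fun h =>
        (em (χ ∈ K5)).imp id fun h' => ⟨h, h'⟩⟩
  have hlen : rest.length = 5 := by
    have := hperm.length_eq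
    rw [List.length_append, R.len_cs, he, hK5] at this
    simp only [List.length_cons, List.length_nil] at this
    omega
  have h11 : ∀ χ : Cfsg.IrrCharacter G, χ ≠ trivIrr G → χ ∉ K5 → χ ≠ T.m → χ ≠ T.c →
      11 ∣ deg χ := fun χ h1 h2 h3 h4 => by
    by_contra hd
    have := T.mem11 χ h1 hd
    simp only [hK5, List.mem_cons, List.not_mem_nil, or_false] at this h2
    tauto
  have hmc : ∀ χ ∈ R.all, χ ≠ T.m ∧ χ ≠ T.c ∧ χ ≠ T.n := fun χ hχ =>
    ⟨fun e => R.not_dvd_deg hχ (by rw [e, T.dm]; norm_num),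
      fun e => R.not_dvd_deg hχ (by rw [e, T.dc]; norm_num),
      fun e => R.not_dvd_deg hχ (by rw [e, T.dn]; norm_num)⟩
  have hp23 : ∀ χ ∈ R.cs, R.w χ * (deg χ : ℤ) ∈ cand23 := by
    intro χ hχ
    have hm : χ ∈ R.all := List.mem_append_left _ hχ
    rw [← cand23_eq]
    refine mem_candList hcard (R.ne_triv hm)
      (dOK_of_mem hcard D (c := 1) (by rw [hC]) (by norm_num) (R.mem_block hm) (R.ne_triv hm))
      rfl (R.w_eq χ hχ) ?_
    have := R.cong_cs χ hχ
    omega
  obtain ⟨M5, hM5, hperm5⟩ := combs_complete cand253 (rest.map fun χ => R.w χ * (deg χ : ℤ))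
    fun z hz => by
      obtain ⟨χ, hχ, rfl⟩ := List.mem_map.1 hz
      rw [List.mem_filter, decide_eq_true_eq] at hχ
      have hm : χ ∈ R.all := List.mem_append_left _ hχ.1
      have k := List.all_eq_true.1 cand253_spec _ (hp23 χ hχ.1)
      have hz : (R.w χ * (deg χ : ℤ)) % 11 = 0 := by
        have := Int.natCast_dvd_natCast.2 (h11 χ (R.ne_triv hm) hχ.2 (hmc χ hm).1 (hmc χ hm).2.1)
        exact Int.emod_eq_zero_of_dvd (this.mul_left _)
      simpa [hz] using k
  rw [List.length_map, hlen] at hM5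
  obtain ⟨l5, hl5, hl5M⟩ := exists_perm_map hperm5
  set S := R.perm ((hl5.append_left K5).trans hperm) with hSdef
  have hScs : S.cs = K5 ++ l5 := rfl
  have hwK : R.w T.b = -1 ∧ R.w T.b' = -1 ∧ R.w T.g = -1 ∧ R.w T.g' = -1 ∧ R.w T.h = 1 := by
    have key : ∀ χ ∈ K5, ∀ s : ℤ, (s = 1 ∨ s = -1) → (23 : ℤ) ∣ s * (deg χ : ℤ) - 1 → R.w χ = s := by
      intro χ hχ s hs hd
      have := R.cong_cs χ (hfive χ hχ)
      rcases hs with rfl | rfl <;> rcases R.w_eq χ (hfive χ hχ) with e | e <;> rw [e] at this ⊢ <;>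
        omega
    exact ⟨key _ (by simp [hK5]) _ (Or.inr rfl) (by rw [T.db]; norm_num),
      key _ (by simp [hK5]) _ (Or.inr rfl) (by rw [T.db']; norm_num),
      key _ (by simp [hK5]) _ (Or.inr rfl) (by rw [T.dg]; norm_num),
      key _ (by simp [hK5]) _ (Or.inr rfl) (by rw [T.dg']; norm_num),
      key _ (by simp [hK5]) _ (Or.inl rfl) (by rw [T.dh]; norm_num)⟩
  have hK5M : K5.map (fun χ => R.w χ * (deg χ : ℤ)) = [-45, -45, -896, -896, 231] := by
    obtain ⟨w1, w2, w3, w4, w5⟩ := hwK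
    simp [hK5, w1, w2, w3, w4, w5, T.db, T.db', T.dg, T.dg', T.dh]
  have hSM : S.M = [-45, -45, -896, -896, 231] ++ M5 := by
    show (K5 ++ l5).map (fun χ => R.w χ * (deg χ : ℤ)) = _
    rw [List.map_append, hK5M, hl5M]
  obtain ⟨θ, hθ⟩ := List.exists_mem_of_ne_nil _ S.ys_ne
  have hθR : θ ∈ R.all := List.mem_append_right _ hθ
  have hθm : θ ∈ S.all := List.mem_append_right _ hθ
  have hl : 1 + S.M.sum = S.δ * (deg θ : ℤ) := (S.rel θ hθ).symm
  have hl' : 231 + M5.sum - 1881 = S.δ * (deg θ : ℤ) := by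
    rw [← hl, hSM, List.sum_append]; norm_num; ring
  have hnd3 : (S.all ++ [T.c, T.m, T.n]).Nodup := by
    refine List.nodup_append.2 ⟨S.nodup, ?_, fun x hx y hy e => ?_⟩
    · have h : ([T.b, T.b', T.g, T.g', T.h] ++ [T.c, T.m, T.n]).Nodup := hnd8
      exact (List.nodup_append.1 h).2.1
    · subst e
      refine S.not_dvd_deg hx ?_
      simp only [List.mem_cons, List.not_mem_nil, or_false] at hy
      rcases hy with rfl | rfl | rfl
      · rw [T.dc]; norm_num
      · rw [T.dm]; norm_num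
      · rw [T.dn]; norm_num
  have htr3 : trivIrr G ∉ S.all ++ [T.c, T.m, T.n] := fun h => by
    rcases List.mem_append.1 h with h | h
    · exact S.ne_triv h rfl
    · exact hne8 _ (by simp only [List.mem_cons, List.not_mem_nil, or_false] at h ⊢; tauto) rfl
  have hθ11 : 11 ∣ deg θ := by
    refine h11 θ (R.ne_triv hθR) (fun h => ?_) (hmc θ hθR).1 (hmc θ hθR).2.1
    exact (List.nodup_append.1 R.nodup).2.2 θ (hfive θ h) θ hθ rfl
  have hsameθ : ∀ χ ∈ S.ys, deg χ = deg θ := fun χ hχ => by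
    have h1 := S.rel χ hχ
    rw [← S.rel θ hθ] at h1
    rcases S.δ_eq with e | e <;> rw [e] at h1 <;> omega
  have hM231 : M5 ∈ rows231 := by
    refine List.mem_filter.2 ⟨hM5, ?_⟩
    simp only [forceI_eq, forceN_eq, Bool.and_eq_true, beq_iff_eq, decide_eq_true_eq,
      List.contains_iff_mem, bne_iff_ne, ne_eq]
    have habs : (231 + M5.sum - 1881).natAbs = deg θ := by
      rw [hl', Row.natAbs_signed S.δ_eq, Int.natAbs_natCast]
    rw [habs]
    refine ⟨⟨?_, ⟨⟨Nat.mod_eq_zero_of_dvd hθ11, deg_ne_eleven hcard θ⟩,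
      deg_mem hcard (R.ne_triv hθR)⟩⟩, ?_⟩
    · have := S.cong_ys θ hθ
      rw [he, ← hl'] at this
      omega
    · have h := deg_sq_le hcard hnd3 htr3
      rw [Row.all, List.map_append, List.sum_append, List.map_append, List.sum_append] at h
      have h1 : (S.cs.map fun χ => (deg χ : ℤ) * (deg χ : ℤ)).sum = sqSum S.M := by
        rw [sqSum, Row.M, List.map_map]
        refine congrArg List.sum (List.map_congr_left fun χ hχ => ?_)
        rcases S.w_eq χ hχ with e | e <;> simp [e]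
      have h2 : (S.ys.map fun χ => (deg χ : ℤ) * (deg χ : ℤ)) =
          List.replicate 2 ((231 + M5.sum - 1881) * (231 + M5.sum - 1881)) := by
        refine List.eq_replicate_iff.2 ⟨by rw [List.length_map, S.len_ys, he], fun z hz => ?_⟩
        obtain ⟨χ, hχ, rfl⟩ := List.mem_map.1 hz
        rw [hl', hsameθ χ hχ]
        rcases S.δ_eq with e | e <;> rw [e] <;> ring
      rw [h1, h2, hSM] at h
      simp only [sqSum, List.map_cons, List.map_nil, List.sum_cons, List.sum_nil, List.map_append,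
        List.sum_append, List.sum_replicate, nsmul_eq_mul, T.dc, T.dm, T.dn] at h ⊢
      push_cast at h
      linarith
  -- the scan
  have hrel := S.relV h23t (f := iv T.t) fun χ _ => iv_spec hG ht χ
  have key := List.all_eq_true.1 scanM_ok M5 hM231
  simp only [scanM, forceL_eq, forceLL_eq] at key
  have hu : List.Forall₂ (fun u l => u ∈ l) (S.us (iv T.t))
      ([[3], [3], [0], [0], [7]] ++ M5.map (opts 2688)) := by
    rw [Row.us, hScs, List.map_append]
    refine List.rel_append ?_ ?_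
    · obtain ⟨w1, w2, w3, w4, w5⟩ := hwK
      show List.Forall₂ _ (K5.map fun χ => R.w χ * iv T.t χ) _
      simp [hK5, w1, w2, w3, w4, w5, T.vb, T.vb', T.vg, T.vg', T.vh]
    · rw [← hl5M, List.map_map, List.forall₂_map_left_iff, List.forall₂_map_right_iff,
        List.forall₂_same]
      intro χ hχ
      have hχ' : χ ∈ R.cs := (List.mem_filter.1 (hl5.mem_iff.1 hχ)).1
      show R.w χ * iv T.t χ ∈ opts 2688 (R.w χ * (deg χ : ℤ))
      rw [← T.cen_t]
      exact opts_iv hcard ht (R.ne_triv (List.mem_append_left _ hχ')) (R.w_eq χ hχ')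
  have hsq := us_sq_le hcard ht (by norm_num) S (l := [T.c, T.m, T.n]) (E := 1277) hnd3
    (fun h => htr3 (List.mem_append_right _ h)) (by
      simp only [List.map_cons, List.map_nil, List.sum_cons, List.sum_nil, T.vc, T.vm, T.vn]
      norm_num)
  rw [S.len_ys, he, T.cen_t] at hsq
  rw [← hSM] at key
  have hgood := allV_spec key hu (by
      rw [← hrel θ hθ, hl, ← T.cen_t]
      exact opts_iv hcard ht (S.ne_triv hθm) S.δ_eq)
    (by norm_num at hsq ⊢; omega)
  have hq := quadOK_iv hcard S (c := 1) (by rw [hC]) ht (by norm_num)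
  simp only [quadOK, he] at hq
  have hq0 : quad S.M (S.us (iv T.t)) = 0 := by simpa using hq
  have hKS : S.ys.length = 2 := by rw [S.len_ys, he]
  have hpairs : pairs 2 S.M (S.us (iv T.t)) = S.all.map fun χ => (deg χ, iv T.t χ) := by
    rw [← hKS, pairs_eq_M22]
    exact S.toRow.pairs_eq hrel
  have hcs := csOK_iv hcard ht hnd3 htr3
  rw [List.map_append, ← hpairs] at hcs
  simp only [List.map_cons, List.map_nil, T.dc, T.dm, T.dn, T.vc, T.vm, T.vn, T.cen_t] at hcs
  simp only [Bool.or_eq_true, bne_iff_ne, ne_eq, hq0, not_true_eq_false, false_or, hcs,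
    Bool.not_true, Bool.false_eq_true] at hgood
  rw [hpairs, List.isPerm_iff] at hgood
  -- the names
  rw [Row.all, hScs, hK5, List.append_assoc, List.map_append] at hgood
  simp only [targetM, List.map_cons, List.map_nil, List.cons_append, List.nil_append, T.db, T.db', T.dg,
    T.dg', T.dh, T.vb, T.vb', T.vg, T.vg', T.vh] at hgood
  replace hgood := hgood.cons_inv.cons_inv.cons_inv.cons_inv.cons_inv
  obtain ⟨l7, hl7, hl7M⟩ := exists_perm_map hgood.symm
  have hlen7 : l7.length = 7 := by rw [← List.length_map, hl7M]; rfl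
  obtain ⟨a, h', h'', k, k', f, f', rfl⟩ : ∃ a h' h'' k k' f f', l7 = [a, h', h'', k, k', f, f'] := by
    match l7, hlen7 with
    | [a, h', h'', k, k', f, f'], _ => exact ⟨a, h', h'', k, k', f, f', rfl⟩
  simp only [List.map_cons, List.map_nil, List.cons.injEq, Prod.mk.injEq, and_true] at hl7M
  obtain ⟨⟨da, va⟩, ⟨dh', vh'⟩, ⟨dh'', vh''⟩, ⟨dk, vk⟩, ⟨dk', vk'⟩, ⟨df, vf⟩, ⟨df', vf'⟩⟩ := hl7M
  have hlist : ([T.b, T.b', T.g, T.g', T.h, a, h', h'', k, k'] ++ [f, f']).Perm (S.cs ++ S.ys) := by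
    rw [hScs, hK5, List.append_assoc]
    exact hl7.append_left [T.b, T.b', T.g, T.g', T.h]
  have hin : ∀ χ ∈ [T.b, T.b', T.g, T.g', T.h, a, h', h'', k, k'] ++ [f, f'], χ ∈ S.cs ++ S.ys :=
    fun χ hχ => hlist.subset hχ
  have hys2 : S.ys.Perm [f, f'] := by
    have hsub : ∀ χ ∈ [f, f'], χ ∈ S.ys := by
      intro χ hχ
      rcases List.mem_append.1 (hin χ (List.mem_append_right _ hχ)) with h | h
      · have := S.cong_cs χ h
        simp only [List.mem_cons, List.not_mem_nil, or_false] at hχ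
        rcases hχ with rfl | rfl <;> rcases S.w_eq _ h with e | e <;> rw [e] at this <;> omega
      · exact h
    have hnd : [f, f'].Nodup := by
      have := (hlist.nodup_iff.2 S.nodup)
      exact (List.nodup_append.1 this).2.1
    exact ((List.subperm_of_subset hnd hsub).perm_of_length_le (by rw [hKS]; rfl)).symm
  have hcs10 : [T.b, T.b', T.g, T.g', T.h, a, h', h'', k, k'].Perm S.cs :=
    (List.perm_append_right_iff _).1 (hlist.trans (hys2.append_left _))
  set U := S.perm hcs10 with hU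
  have hUcs : U.cs = [T.b, T.b', T.g, T.g', T.h, a, h', h'', k, k'] := rfl
  have hw10 : ∀ χ ∈ U.cs, ∀ s : ℤ, (s = 1 ∨ s = -1) → (23 : ℤ) ∣ s * (deg χ : ℤ) - 1 → U.w χ = s := by
    intro χ hχ s hs hd
    have := U.cong_cs χ hχ
    rcases hs with rfl | rfl <;> rcases U.w_eq χ hχ with e | e <;> rw [e] at this ⊢ <;> omega
  have wb := hw10 T.b (by simp [hUcs]) (-1) (Or.inr rfl) (by rw [T.db]; norm_num)
  have wb' := hw10 T.b' (by simp [hUcs]) (-1) (Or.inr rfl) (by rw [T.db']; norm_num)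
  have wg := hw10 T.g (by simp [hUcs]) (-1) (Or.inr rfl) (by rw [T.dg]; norm_num)
  have wg' := hw10 T.g' (by simp [hUcs]) (-1) (Or.inr rfl) (by rw [T.dg']; norm_num)
  have wh := hw10 T.h (by simp [hUcs]) 1 (Or.inl rfl) (by rw [T.dh]; norm_num)
  have wa := hw10 a (by simp [hUcs]) (-1) (Or.inr rfl) (by rw [da]; norm_num)
  have wh' := hw10 h' (by simp [hUcs]) 1 (Or.inl rfl) (by rw [dh']; norm_num)
  have wh'' := hw10 h'' (by simp [hUcs]) 1 (Or.inl rfl) (by rw [dh'']; norm_num)
  have wk := hw10 k (by simp [hUcs]) 1 (Or.inl rfl) (by rw [dk]; norm_num)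
  have wk' := hw10 k' (by simp [hUcs]) 1 (Or.inl rfl) (by rw [dk']; norm_num)
  have hfU : f ∈ U.ys ∧ f' ∈ U.ys :=
    ⟨hys2.symm.subset (by simp), hys2.symm.subset (by simp)⟩
  have hδ : U.δ = 1 := by
    have := U.rel f hfU.1
    rw [hUcs] at this
    simp only [List.map_cons, List.map_nil, List.sum_cons, List.sum_nil, wb, wb', wg, wg', wh, wa, wh',
      wh'', wk, wk', T.db, T.db', T.dg, T.dg', T.dh, da, dh', dh'', dk, dk', df] at this
    rcases U.δ_eq with e | e
    · exact e
    · rw [e] at this; simp at this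
  -- the last character
  set L := [T.b, T.b', T.g, T.g', T.h, a, h', h'', k, k', f, f', T.c, T.m, T.n] with hL
  have hL15 : L.Perm (S.all ++ [T.c, T.m, T.n]) := by
    show ([T.b, T.b', T.g, T.g', T.h, a, h', h'', k, k'] ++ [f, f'] ++ [T.c, T.m, T.n]).Perm _
    exact hlist.append_right _
  have hLnd : L.Nodup := hL15.nodup_iff.2 hnd3
  have hLtr : trivIrr G ∉ L := fun h => htr3 (hL15.subset h)
  have hout : ∀ χ : Cfsg.IrrCharacter G, χ ∉ trivIrr G :: L → 253 ∣ deg χ := by
    intro χ hχ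
    have hne : χ ≠ trivIrr G := fun e => hχ (by simp [e])
    have hχL : χ ∉ L := fun h => hχ (List.mem_cons_of_mem _ h)
    have d23 : 23 ∣ deg χ := by
      by_contra hd
      exact hχL (hL15.symm.subset (List.mem_append_left _ (show χ ∈ S.all from
        (S.mem χ).2 ((R.mem χ).1 (R.mem_all_of_not_dvd hC hne hd)))))
    have d11 : 11 ∣ deg χ := h11 χ hne
      (fun h => hχL (by simp only [hK5, hL, List.mem_cons, List.not_mem_nil, or_false] at h ⊢; tauto))
      (fun e => hχL (by simp [hL, e])) (fun e => hχL (by simp [hL, e]))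
    exact Nat.Coprime.mul_dvd_of_dvd_of_dvd (by norm_num : Nat.Coprime 11 23) d11 d23
  set Sfin := (trivIrr G :: L).toFinset with hSfin
  have hnd16 : (trivIrr G :: L).Nodup := List.nodup_cons.2 ⟨hLtr, hLnd⟩
  have hdd : ∑ χ : Cfsg.IrrCharacter G, (deg χ : ℤ) * (deg χ : ℤ) = 10200960 := by
    have h := second_orthogonality (G := G) 1 1
    rw [if_pos (IsConj.refl _)] at h
    simp only [← deg_cast, map_natCast] at h
    rw [show Nat.card (centralizer ({(1 : G)} : Set G)) = 10200960 from cen_one hcard] at h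
    exact_mod_cast h
  have hdv : ∑ χ : Cfsg.IrrCharacter G, iv T.t χ * (deg χ : ℤ) = 0 := by
    have h := second_orthogonality (G := G) T.t 1
    rw [if_neg (fun hc => by
      have := isConj_one_left.1 hc; rw [this, orderOf_one] at ht; omega)] at h
    have e : ∀ χ : Cfsg.IrrCharacter G, (χ : G → ℂ) T.t * conj ((χ : G → ℂ) 1) =
        ((iv T.t χ * (deg χ : ℤ) : ℤ) : ℂ) := fun χ => by
      rw [iv_spec hG ht χ, ← deg_cast, map_natCast]; push_cast; rfl
    rw [Finset.sum_congr rfl fun χ _ => e χ] at h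
    exact_mod_cast h
  rw [← Finset.sum_add_sum_compl Sfin, List.sum_toFinset _ hnd16] at hdd hdv
  simp only [hL, List.map_cons, List.map_nil, List.sum_cons, List.sum_nil, deg_trivIrr, iv_triv,
    T.db, T.db', T.dg, T.dg', T.dh, T.dc, T.dm, T.dn, da, dh', dh'', dk, dk', df, df',
    T.vb, T.vb', T.vg, T.vg', T.vh, T.vc, T.vm, T.vn, va, vh', vh'', vk, vk', vf, vf'] at hdd hdv
  norm_num at hdd hdv
  have hbig : ∀ χ ∈ Sfinᶜ, 253 ≤ deg χ := fun χ hχ => by
    have := hout χ (by simpa [hSfin] using hχ)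
    exact Nat.le_of_dvd (charDegree_pos χ) this
  obtain ⟨d, hd⟩ : Sfinᶜ.Nonempty := by
    by_contra hc
    rw [Finset.not_nonempty_iff_eq_empty.1 hc] at hdd
    simp at hdd
  rw [← Finset.add_sum_erase _ _ hd] at hdd hdv
  have hrest0 : Sfinᶜ.erase d = ∅ := by
    by_contra hne
    obtain ⟨χ, hχ⟩ := Finset.nonempty_iff_ne_empty.2 hne
    have h1 := Finset.single_le_sum (f := fun ψ => (deg ψ : ℤ) * (deg ψ : ℤ))
      (fun ψ _ => mul_self_nonneg _) hχ
    have b1 : (253 : ℤ) ≤ deg χ := by exact_mod_cast hbig χ (Finset.mem_of_mem_erase hχ)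
    have b2 : (253 : ℤ) ≤ deg d := by exact_mod_cast hbig d hd
    nlinarith
  rw [hrest0, Finset.sum_empty] at hdd hdv
  have hd253 : deg d = 253 := by
    have b2 := hbig d hd
    have : deg d * deg d = 253 * 253 := by
      have h : ((deg d * deg d : ℕ) : ℤ) = ((253 * 253 : ℕ) : ℤ) := by push_cast; linarith
      exact_mod_cast h
    exact Nat.mul_self_inj.1 this
  have hvd : iv T.t d = 13 := by rw [hd253] at hdv; push_cast at hdv; omega
  have hd' : d ∉ trivIrr G :: L := by simpa [hSfin] using hd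
  have hall : ∀ χ : Cfsg.IrrCharacter G, χ ∈ trivIrr G :: L ∨ χ = d := fun χ => by
    by_cases hχ : χ ∈ Sfin
    · exact Or.inl (by simpa [hSfin] using hχ)
    · by_cases e : χ = d
      · exact Or.inr e
      · have : χ ∈ Sfinᶜ.erase d := Finset.mem_erase.2 ⟨e, Finset.mem_compl.2 hχ⟩
        rw [hrest0] at this; simp at this
  set N17 := [trivIrr G, a, T.b, T.b', T.c, T.h, h', h'', d, f, f', T.g, T.g', k, k', T.m, T.n] with hN17
  have hall17 : ∀ χ, χ ∈ N17 := fun χ => by
    rcases hall χ with h | h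
    · simp only [hL, hN17, List.mem_cons, List.not_mem_nil, or_false] at h ⊢
      rcases h with h | h | h | h | h | h | h | h | h | h | h | h | h | h | h | h <;> simp [h]
    · simp [hN17, h]
  refine ⟨{ T with
    a := a, h' := h', h'' := h'', k := k, k' := k', f := f, f' := f', d := d
    da := da, dh' := dh', dh'' := dh'', dk := dk, dk' := dk', df := df, df' := df', dd := hd253
    nd := ?_
    all := hall17
    va := va, vh' := vh', vh'' := vh'', vk := vk, vk' := vk', vf := vf, vf' := vf', vd := hvd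
    rel23 := fun x hx => ?_
    val23 := fun z hz => ?_ }⟩
  · have hnd17 : (d :: trivIrr G :: L).Nodup := List.nodup_cons.2 ⟨hd', hnd16⟩
    refine List.Nodup.of_map id ?_
    rw [List.map_id]
    have hsub : (d :: trivIrr G :: L) ⊆ N17 := fun χ _ => hall17 χ
    exact ((List.subperm_of_subset hnd17 hsub).perm_of_length_le (by simp [hN17, hL])).nodup_iff.1 hnd17
  · have r := U.relC f hfU.1 x hx
    have r' := U.relC f' hfU.2 x hx
    rw [hUcs] at r r'
    simp only [List.map_cons, List.map_nil, List.sum_cons, List.sum_nil, wb, wb', wg, wg', wh, wa, wh',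
      wh'', wk, wk', hδ] at r r'
    push_cast at r r'
    exact ⟨by linear_combination r - r', by linear_combination r⟩
  · obtain ⟨Q', hQ'⟩ := exists_sylow_eq hcard hp hz
    obtain ⟨x, hx⟩ := MulAction.exists_smul_eq G Q' P
    have hzQ : x * z * x⁻¹ ∈ (P : Subgroup G) := by
      rw [← hx, Sylow.coe_subgroup_smul]
      exact ⟨z, by rw [hQ']; exact mem_zpowers z, rfl⟩
    set z₀ := x * z * x⁻¹
    have hz01 : z₀ ≠ 1 := fun e => by
      have : z = 1 := by simpa [z₀] using e
      rw [this, orderOf_one] at hz; omega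
    have hv : ∀ χ : Cfsg.IrrCharacter G, (χ : G → ℂ) z = (χ : G → ℂ) z₀ := fun χ =>
      (irr_isClassFunction χ z x).symm
    have e : ∀ χ ∈ U.cs, (χ : G → ℂ) z = (U.w χ : ℂ) := fun χ hχ => by
      rw [hv]; exact U.val_cs χ hχ z₀ hzQ hz01
    have ef := U.val_ys z₀ hzQ hz01
    rw [hδ, (show U.ys.Perm [f, f'] from hys2).map _ |>.sum_eq] at ef
    simp only [List.map_cons, List.map_nil, List.sum_cons, List.sum_nil, add_zero, ← hv] at ef
    refine ⟨?_, ?_, ?_, ?_, ?_, ?_, ?_, ?_, ?_, ?_, ?_⟩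
    all_goals first
      | (rw [e _ (by simp [hUcs])]; simp [wb, wb', wg, wg', wh, wa, wh', wh'', wk, wk'])
      | (push_cast at ef; exact ef)

end Cfsg.Agent.M23Order
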