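import Cfsg.Agent.Lib.M23Order.View
import Cfsg.Agent.Lib.M23Order.Scan23

/-!
# Simple groups of order 10200960: the Sylow 23-subgroups are their own centralizers
-/

set_option autoImplicit false
set_option linter.style.haveILetI false
set_option linter.unusedSectionVars false

namespace Cfsg.Agent.M23Order

open Subgroup
open Cfsg.Agent.Characters Cfsg.Agent.Blocks Cfsg.Agent.PrimeBlock
open Cfsg.Agent.SmallSimple
open Cfsg.Agent.M12Order (cen iv iv_spec)
open Cfsg.Agent.M22Order (PRow Row combs forceN_eq forceL_eq dvd_deg_of_notMem)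

universe u

theorem mem_of_mem_combs : ∀ {X : List ℤ} {n : ℕ} {L : List ℤ}, L ∈ combs X n → ∀ z ∈ L, z ∈ X
  | [], 0, L, h, z, hz => by simp [combs] at h; subst h; simp at hz
  | [], n + 1, L, h, z, hz => by simp [combs] at h
  | a :: X, n, L, h, z, hz => by
    simp only [combs, List.mem_flatMap, List.mem_range, List.mem_map] at h
    obtain ⟨k, -, L', hL', rfl⟩ := h
    rcases List.mem_append.1 hz with hz | hz
    · rw [List.eq_of_mem_replicate hz]; exact List.mem_cons_self
    · exact List.mem_cons_of_mem _ (mem_of_mem_combs hL' z hz)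

theorem mem_of_mem_rows {ok : ℕ → Bool} {p e c : ℕ} {L : List ℤ} (h : L ∈ rows ok p e c) :
    ∀ z ∈ L, z ∈ candList p c ok := by
  rw [rows, forceL_eq, rowsIn] at h
  split_ifs at h <;> exact mem_of_mem_combs (List.mem_filter.1 h).1

theorem mem_optsP {p C : ℕ} {r z u : ℤ} (h : u ∈ optsP p C r z) :
    (4 : ℤ) ∣ z - u ∧ (p : ℤ) ∣ u - r := by
  simp only [optsP, opts, forceN_eq, congOK, memOK, List.mem_filter, Bool.and_eq_true, beq_iff_eq] at h
  exact ⟨Int.dvd_of_emod_eq_zero h.1.2.1, Int.dvd_of_emod_eq_zero h.2⟩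

/-- Counting the members whose signed degree is no multiple of 70. -/
theorem count70 (C : ℕ) : ∀ L : List (ℤ × ℤ),
    (∀ q ∈ L, q.1 ∈ cand70 ∧ q.2 ∈ optsP 23 C 1 q.1) → ∃ i j k : ℕ, i + j + k ≤ L.length ∧
      (70 : ℤ) ∣ (L.map Prod.fst).sum - (-160 * (i : ℤ) + 231 * (j : ℤ) + -528 * (k : ℤ)) ∧
      i * minSq C (optsP 23 C 1 (-160)) + j * minSq C (optsP 23 C 1 231) +
          k * minSq C (optsP 23 C 1 (-528)) + (L.length - (i + j + k)) * 484 ≤
        (L.map fun q => q.2.natAbs * q.2.natAbs).sum ∧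
      (optsP 23 C 1 (-160) = [] → i = 0) ∧ (optsP 23 C 1 231 = [] → j = 0) ∧
      (optsP 23 C 1 (-528) = [] → k = 0)
  | [], _ => ⟨0, 0, 0, le_rfl, by simp only [List.map_nil, List.sum_nil]; norm_num,
      by
        simp only [zero_mul, add_zero, List.map_nil, List.sum_nil, List.length_nil, Nat.sub_zero, le_refl],
      fun _ => rfl, fun _ => rfl, fun _ => rfl⟩
  | q :: L, h => by
    obtain ⟨i, j, k, hl, hs, hw, hi, hj, hk⟩ := count70 C L fun r hr => h r (List.mem_cons_of_mem _ hr)
    obtain ⟨hz, hu⟩ := h q List.mem_cons_self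
    simp only [List.length_cons, List.map_cons, List.sum_cons]
    have hbig : (70 : ℤ) ∣ q.1 → (2 : ℤ) ∣ q.1 → ∃ i j k : ℕ, i + j + k ≤ L.length + 1 ∧
      (70 : ℤ) ∣ q.1 + (L.map Prod.fst).sum - (-160 * (i : ℤ) + 231 * (j : ℤ) + -528 * (k : ℤ)) ∧
      i * minSq C (optsP 23 C 1 (-160)) + j * minSq C (optsP 23 C 1 231) +
          k * minSq C (optsP 23 C 1 (-528)) + (L.length + 1 - (i + j + k)) * 484 ≤
        q.2.natAbs * q.2.natAbs + (L.map fun q => q.2.natAbs * q.2.natAbs).sum ∧
      (optsP 23 C 1 (-160) = [] → i = 0) ∧ (optsP 23 C 1 231 = [] → j = 0) ∧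
      (optsP 23 C 1 (-528) = [] → k = 0) := by
      intro h70 h2
      obtain ⟨h4, h23⟩ := mem_optsP hu
      have h22 : 22 ≤ q.2.natAbs := by omega
      have h484 : 484 ≤ q.2.natAbs * q.2.natAbs := Nat.mul_le_mul h22 h22
      refine ⟨i, j, k, by omega, ?_, ?_, hi, hj, hk⟩
      · rw [add_sub_assoc]; exact dvd_add h70 hs
      · rw [show L.length + 1 - (i + j + k) = (L.length - (i + j + k)) + 1 by omega, add_mul, one_mul]
        linarith
    have hm := minSq_le (B := C) hu
    have hne : optsP 23 C 1 q.1 ≠ [] := List.ne_nil_of_mem hu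
    simp only [cand70, List.mem_cons, List.not_mem_nil, or_false] at hz
    rcases hz with e | e | e | e | e | e
    · exact hbig (e ▸ by norm_num) (e ▸ by norm_num)
    · rw [e] at hm hne ⊢
      clear hbig
      refine ⟨i + 1, j, k, by omega, ?_, ?_, fun h => absurd h hne, hj, hk⟩
      · convert hs using 1; push_cast; ring
      · rw [show L.length + 1 - (i + 1 + j + k) = L.length - (i + j + k) by omega, add_mul, one_mul]
        omega
    · rw [e] at hm hne ⊢
      clear hbig
      refine ⟨i, j + 1, k, by omega, ?_, ?_, hi, fun h => absurd h hne, hk⟩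
      · convert hs using 1; push_cast; ring
      · rw [show L.length + 1 - (i + (j + 1) + k) = L.length - (i + j + k) by omega, add_mul, one_mul]
        omega
    · rw [e] at hm hne ⊢
      clear hbig
      refine ⟨i, j, k + 1, by omega, ?_, ?_, hi, hj, fun h => absurd h hne⟩
      · convert hs using 1; push_cast; ring
      · rw [show L.length + 1 - (i + j + (k + 1)) = L.length - (i + j + k) by omega,
          add_mul (a := k), one_mul]
        omega
    · exact hbig (e ▸ by norm_num) (e ▸ by norm_num)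
    · exact hbig (e ▸ by norm_num) (e ▸ by norm_num)

theorem full23_false {c C : ℕ} (h : full23 c C = true) {L : List (ℤ × ℤ)} (hlen : L.length = 22)
    (hsum : (L.map Prod.fst).sum = -1) (hL : ∀ q ∈ L, q.1 ∈ cand70 ∧ q.2 ∈ optsP 23 C 1 q.1)
    (hB : 1 + (L.map fun q => q.2.natAbs * q.2.natAbs).sum ≤ C) : False := by
  obtain ⟨i, j, k, hl, hs, hw, hi, hj, hk⟩ := count70 C L hL
  rw [hlen] at hl hw
  rw [hsum] at hs
  simp only [full23, forceL_eq, forceN_eq, Bool.and_eq_true, List.all_eq_true, List.mem_range,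
    Bool.or_eq_true, Nat.blt_eq, bne_iff_ne, ne_eq] at h
  have hcnt : ∀ (os : List ℤ) (n : ℕ), (os = [] → n = 0) → n ≤ 22 → n < maxCnt os + 1 := by
    intro os n h1 h2
    unfold maxCnt
    by_cases he : os = []
    · simp [he, h1 he]
    · rw [if_neg (by simpa using he)]; omega
  rcases h.2 j (hcnt _ _ hj (by omega)) i (hcnt _ _ hi (by omega)) k (hcnt _ _ hk (by omega)) with
    (h' | h') | h'
  · omega
  · exact h' (by omega)
  · omega

variable {G : Type u} [Group G] [Finite G] [IsSimpleGroup G] (hcard : Nat.card G = 10200960)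

include hcard

theorem not_twenty_two {P : Sylow 23 G} {D : PBlock P} (R : PRow D) (he : D.e = 22) {c : ℕ}
    (hc : c = 12 ∨ c = 288)
    (hC : Nat.card (centralizer ((P : Subgroup G) : Set G)) = 23 * c)
    (hN : Nat.card (normalizer ((P : Subgroup G) : Set G)) = 23 * c * D.e) : False := by
  classical
  have hG := not_comm hcard
  have hp : (23 : ℕ) = 5 ∨ (23 : ℕ) = 7 ∨ (23 : ℕ) = 11 ∨ (23 : ℕ) = 23 := by omega
  have key := List.all_eq_true.1 full23_ok c (by simp [hc])
  simp only [Bool.and_eq_true, beq_iff_eq, List.all_eq_true] at key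
  obtain ⟨t, ht, htC⟩ := exists_inv_centralizer hC (Nat.dvd_of_mod_eq_zero key.1.1)
  have hf := key.2 _ (mem_cList hcard hp (he ▸ hN) ht htC (ex := []) (by simp))
  obtain ⟨hcs, hys⟩ := optsP_iv hcard ht (by norm_num) R htC
  obtain ⟨θ, hθ⟩ := List.length_eq_one_iff.1 (R.len_ys.trans (by rw [he]))
  have hθm : θ ∈ R.all := List.mem_append_right _ (by simp [hθ])
  have hns : -R.δ = 1 ∨ -R.δ = -1 := by rcases R.δ_eq with e | e <;> simp [e]
  have hcand : ∀ χ ∈ R.all, ∀ s : ℤ, (s = 1 ∨ s = -1) → (23 : ℤ) ∣ s * (deg χ : ℤ) - 1 →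
      s * (deg χ : ℤ) ∈ cand70 := by
    intro χ hχ s hs hd
    have hd' : (s * (deg χ : ℤ)) % ((23 : ℕ) : ℤ) = 1 := by push_cast; omega
    rw [← key.1.2]
    exact mem_candList hcard (R.ne_triv hχ)
      (dOK_of_mem hcard D hC (p_not_dvd_c hcard hp hC) (R.mem_block hχ) (R.ne_triv hχ)) rfl hs hd'
  have hcong := R.cong_ys θ (by simp [hθ])
  rw [he] at hcong
  let L : List (ℤ × ℤ) := (R.cs.map fun χ => (R.w χ * (deg χ : ℤ), R.w χ * iv t χ)) ++
    [(-R.δ * (deg θ : ℤ), -R.δ * iv t θ)]
  have hrel := R.rel θ (by simp [hθ])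
  refine full23_false hf (L := L) ?_ ?_ ?_ ?_
  · simp [L, R.len_cs, he]
  · simp only [L, List.map_append, List.map_map, List.sum_append, List.map_cons, List.map_nil,
      List.sum_cons, List.sum_nil, add_zero, Function.comp_def]
    linarith
  · intro q hq
    rcases List.mem_append.1 hq with hq | hq
    · obtain ⟨χ, hχ, rfl⟩ := List.mem_map.1 hq
      exact ⟨hcand χ (List.mem_append_left _ hχ) _ (R.w_eq χ hχ) (R.cong_cs χ hχ), hcs χ hχ⟩
    · rw [List.mem_singleton.1 hq]
      have h1 : (23 : ℤ) ∣ -R.δ * (deg θ : ℤ) - 1 := by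
        obtain ⟨k, hk⟩ := hcong
        exact ⟨-k - 1, by push_cast at hk ⊢; linear_combination -hk⟩
      refine ⟨hcand θ hθm _ hns h1, List.mem_filter.2 ⟨opts_iv hcard ht (R.ne_triv hθm) hns, ?_⟩⟩
      have h2 := (hys θ (by simp [hθ]))
      have h3 := (mem_optsP h2).2
      rw [he] at h3
      simp only [congOK, beq_iff_eq]
      obtain ⟨k, hk⟩ := h3
      exact Int.emod_eq_zero_of_dvd ⟨-k - 1, by push_cast at hk ⊢; linear_combination -hk⟩
  · have hsq := Cfsg.Agent.M22Order.sq_le R.nodup (fun h => R.ne_triv h rfl) t (f := iv t)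
      fun χ _ => iv_spec hG ht χ
    rw [hθ, List.map_append, List.sum_append] at hsq
    have h1 : (((L.map fun q => q.2.natAbs * q.2.natAbs).sum : ℕ) : ℤ) =
        (R.cs.map fun χ => iv t χ * iv t χ).sum + iv t θ * iv t θ := by
      simp only [L, List.map_append, List.map_map, List.sum_append, List.map_cons, List.map_nil,
        List.sum_cons, List.sum_nil, add_zero, Nat.cast_add, Nat.cast_list_sum]
      congr 1
      · refine congrArg List.sum (List.map_congr_left fun χ hχ => ?_)
        simp only [Function.comp_apply, Row.natAbs_signed (R.w_eq χ hχ)]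
        rw [Nat.cast_mul, Int.natCast_natAbs, abs_mul_abs_self]
      · rw [Row.natAbs_signed hns, Nat.cast_mul, Int.natCast_natAbs, abs_mul_abs_self]
    simp only [List.map_cons, List.map_nil, List.sum_cons, List.sum_nil, add_zero] at hsq
    omega

/-- **The Sylow 23-subgroups are their own centralizers, of index eleven in their normalizers.** -/
theorem sylow_twentythree (P : Sylow 23 G) (D : PBlock P) (ht : trivIrr G ∈ D.X)
    (hts : D.sgn (trivIrr G) = 1) : D.e = 11 ∧
      Nat.card (centralizer ((P : Subgroup G) : Set G)) = 23 ∧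
      Nat.card (normalizer ((P : Subgroup G) : Set G)) = 253 := by
  have hp : (23 : ℕ) = 5 ∨ (23 : ℕ) = 7 ∨ (23 : ℕ) = 11 ∨ (23 : ℕ) = 23 := by omega
  obtain ⟨c, hc, hN, he2, hmem⟩ := sylow_params hcard hp D
  obtain ⟨R, hR⟩ := exists_prow hcard hp ht hts hc allDeg fun χ _ _ => rfl
  have key := List.all_eq_true.1 ec23 (D.e, c) hmem
  simp only [Bool.or_eq_true, beq_iff_eq, Prod.mk.injEq, List.isEmpty_iff] at key
  rcases key with ((((⟨he, hc1⟩ | ⟨he, hc1⟩) | ⟨he, hc1⟩) | ⟨he, hc1⟩) | ⟨he, hc1⟩) | h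
  · rw [hc1] at hc hN; rw [he] at hN
    exact ⟨he, hc, hN⟩
  iterate 2
    · have hd := List.all_eq_true.1 dead23 c (by simp [hc1])
      rw [← he] at hd
      obtain ⟨t, ht', htC⟩ := exists_inv_centralizer hc (even_of_dead hd)
      exact absurd (dead_apply hcard hp hc hN R (mem_of_mem_rows hR) hR hd ht' htC) (by simp)
  · exact (not_twenty_two hcard R he (Or.inl hc1) hc hN).elim
  · exact (not_twenty_two hcard R he (Or.inr hc1) hc hN).elim
  · rw [h] at hR; exact absurd hR (by simp)

/-- A row of the principal 23-block. -/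
theorem exists_row_twentythree : ∃ (P : Sylow 23 G) (D : PBlock P) (R : PRow D),
    Nat.card (centralizer ((P : Subgroup G) : Set G)) = 23 ∧
    Nat.card (normalizer ((P : Subgroup G) : Set G)) = 253 ∧ D.e = 11 ∧ R.ys.length = 2 := by
  obtain ⟨P⟩ : Nonempty (Sylow 23 G) := inferInstance
  obtain ⟨D, ht, hts⟩ := exists_pblock' (not_comm hcard) (by norm_num) P
    (card_sylow hcard (q := 23) (Or.inr (Or.inr (Or.inr rfl))) P)
  obtain ⟨he, hC, hN⟩ := sylow_twentythree hcard P D ht hts
  obtain ⟨R⟩ := Cfsg.Agent.M22Order.exists_prow' ht hts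
  exact ⟨P, D, R, hC, hN, he, by rw [R.len_ys, he]⟩

/-- The degrees modulo 23. -/
theorem deg_in23 {χ : Cfsg.IrrCharacter G} (hne : χ ≠ trivIrr G) : in23 (deg χ) = true := by
  obtain ⟨P, D, R, hC, -, he, -⟩ := exists_row_twentythree hcard
  simp only [in23, Bool.or_eq_true, beq_iff_eq]
  by_cases hd : 23 ∣ deg χ
  · omega
  rcases List.mem_append.1 (R.mem_all_of_not_dvd hC hne hd) with h | h
  · have := R.cong_cs χ h
    rcases R.w_eq χ h with e | e <;> rw [e] at this <;> omega
  · have := R.cong_ys χ h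
    rw [he] at this
    rcases R.δ_eq with e | e <;> rw [e] at this <;> omega

/-- The exceptional degrees agree. -/
theorem deg_excOK (l : List (Cfsg.IrrCharacter G)) (hl : trivIrr G ∉ l) :
    excOK (l.map deg) = true := by
  obtain ⟨P, D, R, hC, -, he, -⟩ := exists_row_twentythree hcard
  have key : ∀ χ ∈ l, (deg χ % 23 = 11 ∨ deg χ % 23 = 12) → χ ∈ R.ys := by
    intro χ hχ hm
    rcases List.mem_append.1 (R.mem_all_of_not_dvd hC (fun e => hl (e ▸ hχ)) (by omega)) with h | h
    · have := R.cong_cs χ h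
      rcases R.w_eq χ h with e | e <;> rw [e] at this <;> omega
    · exact h
  simp only [excOK, List.all_eq_true, List.mem_filter, List.mem_map, Bool.or_eq_true, beq_iff_eq]
  rintro a ⟨⟨χ, hχ, rfl⟩, ha⟩ b ⟨⟨ψ, hψ, rfl⟩, hb⟩
  have h1 := R.rel χ (key χ hχ ha)
  rw [← R.rel ψ (key ψ hψ hb)] at h1
  rcases R.δ_eq with e | e <;> rw [e] at h1 <;> simpa using h1

end Cfsg.Agent.M23Order
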