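import Cfsg.Agent.Lib.M23Order.Quad

/-!
# Simple groups of order 10200960: rows of integers and values at an involution
-/

set_option autoImplicit false
set_option linter.style.haveILetI false
set_option linter.unusedSectionVars false

namespace Cfsg.Agent.M23Order

open Subgroup
open Cfsg.Agent.Characters Cfsg.Agent.Blocks Cfsg.Agent.PrimeBlock
open Cfsg.Agent.SmallSimple
open Cfsg.Agent.M12Order (cen cls iv iv_eq iv_spec iv_four iv_lt)
open Cfsg.Agent.M22Order (PRow Row exists_prow' exists_perm_map combs_complete sqSum forceN_eq forceI_eq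
  forceL_eq forceLL_eq allPick_spec sqrtB sqrtB_spec sq_le deg_dvd_cls' relIndex_mod combs
  card_centralizer_of_lt_two_mul block_cong)

universe u

theorem forceNL_eq {β : Type} : ∀ (l : List ℕ) (k : List ℕ → β), forceNL l k = k l
  | [], _ => rfl
  | a :: l, k => by rw [forceNL, forceN_eq, forceNL_eq]

theorem minSq_le {B : ℕ} : ∀ {l : List ℤ} {u : ℤ}, u ∈ l → minSq B l ≤ u.natAbs * u.natAbs
  | v :: l, u, h => by
    simp only [minSq, forceN_eq]
    cases hb : Nat.blt (v.natAbs * v.natAbs) (minSq B l)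
    · simp only [cond_false]
      rcases List.mem_cons.1 h with rfl | h
      · exact not_lt.1 fun hlt => absurd (Nat.blt_eq ▸ hlt : Nat.blt (u.natAbs * u.natAbs) (minSq B l) = true) (by simp [hb])
      · exact minSq_le h
    · simp only [cond_true]
      rcases List.mem_cons.1 h with rfl | h
      · exact le_rfl
      · exact (le_of_lt (Nat.blt_eq ▸ hb : v.natAbs * v.natAbs < minSq B l)).trans (minSq_le h)

theorem sum_minSq_le {B : ℕ} : ∀ {os : List (List ℤ)} {us : List ℤ},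
    List.Forall₂ (fun u l => u ∈ l) us os →
      (os.map (minSq B)).sum ≤ (us.map fun u => u.natAbs * u.natAbs).sum
  | [], _, h => by cases h; simp
  | o :: os, us, h => by
    obtain ⟨a, as, ha, has, rfl⟩ := List.forall₂_cons_right_iff.1 h
    simp only [List.map_cons, List.sum_cons]
    exact Nat.add_le_add (minSq_le ha) (sum_minSq_le has)

theorem allV_spec {B K : ℕ} {os : List (List ℤ)} {oW : List ℤ} {good : List ℤ → Bool}
    (h : allV B K os oW good = true) {us : List ℤ} (hu : List.Forall₂ (fun u l => u ∈ l) us os)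
    (hW : 1 + us.sum ∈ oW)
    (hB : (us.map fun u => u.natAbs * u.natAbs).sum +
      K * ((1 + us.sum).natAbs * (1 + us.sum).natAbs) ≤ B) : good us = true := by
  simp only [allV, Bool.or_eq_true, Nat.blt_eq] at h
  rcases h with (h | h) | h
  · rw [List.isEmpty_iff] at h; rw [h] at hW; exact absurd hW (by simp)
  · have h1 := sum_minSq_le (B := B) hu
    have h2 := Nat.mul_le_mul_left K (minSq_le (B := B) hW)
    omega
  · have h2 := allPick_spec h hu (by omega)
    simp only [forceI_eq, Bool.or_eq_true, Bool.not_eq_true', Nat.blt_eq] at h2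
    rcases h2 with (h2 | h2) | h2
    · rw [List.contains_iff_mem.2 hW] at h2; exact absurd h2 (by simp)
    · omega
    · exact h2

theorem lookOpt_map (f : ℤ → List ℤ) : ∀ {X : List ℤ} {z : ℤ}, z ∈ X → lookOpt X (X.map f) z = f z
  | x :: X, z, h => by
    rw [List.map_cons, lookOpt]
    cases hb : x == z
    · simp only [cond_false]
      exact lookOpt_map f ((List.mem_cons.1 h).resolve_left fun e => by simp [e] at hb)
    · simp only [cond_true, beq_iff_eq.1 hb]

theorem mem_opts {C : ℕ} (hC : C ≤ 10200960) {z u : ℤ} (h4 : (4 : ℤ) ∣ z - u) (hlt : |u| < |z|)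
    (hsq : u * u ≤ (C : ℤ)) (hdvd : z ∣ ((10200960 / C : ℕ) : ℤ) * u) : u ∈ opts C z := by
  have hz : z.natAbs ≠ 0 := fun h => by
    rw [Int.natAbs_eq_zero] at h; subst h; simp at hlt; exact absurd hlt (not_lt.2 (abs_nonneg u))
  simp only [opts, forceN_eq, List.mem_filter, List.mem_map, List.mem_range, memOK, Bool.and_eq_true,
    beq_iff_eq, Nat.blt_eq]
  set K := 10200960 / C with hK
  set g := Nat.gcd z.natAbs K with hg
  have hgpos : 0 < g := Nat.gcd_pos_of_pos_left _ (Nat.pos_of_ne_zero hz)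
  set s := z.natAbs / g with hs
  have hspos : 0 < s := Nat.div_pos (Nat.le_of_dvd (Nat.pos_of_ne_zero hz) (Nat.gcd_dvd_left _ _)) hgpos
  have h1 : z.natAbs ∣ K * u.natAbs := by
    have := Int.natAbs_dvd_natAbs.2 hdvd
    rwa [Int.natAbs_mul, Int.natAbs_natCast] at this
  have hsu : s ∣ u.natAbs := by
    refine (Nat.coprime_div_gcd_div_gcd (m := z.natAbs) (n := K) hgpos).dvd_of_dvd_mul_left ?_
    refine Nat.dvd_of_mul_dvd_mul_left hgpos ?_
    rw [← mul_assoc, Nat.mul_div_cancel' (Nat.gcd_dvd_left _ _),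
      Nat.mul_div_cancel' (Nat.gcd_dvd_right _ _)]
    exact h1
  obtain ⟨j, hj⟩ : (s : ℤ) ∣ u := Int.natCast_dvd.2 hsu
  have hr : u.natAbs * u.natAbs ≤ C := by
    have : ((u.natAbs * u.natAbs : ℕ) : ℤ) ≤ C := by
      rw [Nat.cast_mul, Int.natCast_natAbs, abs_mul_abs_self]; exact hsq
    exact_mod_cast this
  have hr' := sqrtB_spec C 12 0 4096 (by omega) (by omega) (by norm_num) hr
  have hja : u.natAbs = s * j.natAbs := by rw [hj, Int.natAbs_mul, Int.natAbs_natCast]
  have hjn : j.natAbs ≤ sqrtB C 12 0 4096 / s := by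
    rw [Nat.le_div_iff_mul_le hspos, mul_comm, ← hja]; exact hr'
  refine ⟨⟨(j + (sqrtB C 12 0 4096 / s : ℕ)).toNat, by omega, ?_⟩, Int.emod_eq_zero_of_dvd h4, ?_⟩
  · rw [Int.toNat_of_nonneg (by omega), add_sub_cancel_right, hj, mul_comm]
  · have : (u.natAbs : ℤ) < z.natAbs := by rwa [Int.natCast_natAbs, Int.natCast_natAbs]
    exact_mod_cast this

theorem csOK_apply {α : Type*} {C : ℕ} {dg : α → ℕ} {f : α → ℤ} {l : List α}
    (ha : 1 + (l.map fun χ => f χ * f χ).sum ≤ (C : ℤ))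
    (hb : 1 + (l.map fun χ => (dg χ : ℤ) * (dg χ : ℤ)).sum ≤ ord)
    (hs : (1 + (l.map fun χ => (dg χ : ℤ) * f χ).sum) * (1 + (l.map fun χ => (dg χ : ℤ) * f χ).sum) ≤
      (ord - (1 + (l.map fun χ => (dg χ : ℤ) * (dg χ : ℤ)).sum)) *
        ((C : ℤ) - (1 + (l.map fun χ => f χ * f χ).sum))) :
    csOK C (l.map fun χ => (dg χ, f χ)) = true := by
  simp only [csOK, List.map_map, Function.comp_def, Bool.and_eq_true, decide_eq_true_eq]
  exact ⟨⟨ha, hb⟩, hs⟩

variable {G : Type u} [Group G] [Finite G]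

section

variable [IsSimpleGroup G] (hcard : Nat.card G = 10200960)

include hcard

theorem cen_one : cen (1 : G) = 10200960 := by
  rw [← hcard]
  have : centralizer ({(1 : G)} : Set G) = ⊤ := by ext x; simp [mem_centralizer_singleton_iff]
  rw [cen, this, card_top]

theorem deg_sq_le {l : List (Cfsg.IrrCharacter G)} (hnd : l.Nodup) (ht : trivIrr G ∉ l) :
    1 + (l.map fun χ => (deg χ : ℤ) * (deg χ : ℤ)).sum ≤ ord := by
  have h := sq_le hnd ht (1 : G) (f := fun χ => (deg χ : ℤ)) fun χ _ => by simp [← deg_cast]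
  rwa [cen_one hcard] at h

theorem cen_lt {t : G} (ht : t ≠ 1) : cen t < 10200960 := by
  have h := Nat.le_of_dvd (by norm_num) (cen_dvd hcard t)
  refine lt_of_le_of_ne h fun he => ht (Subgroup.mem_bot.1 ((Basic.center_eq_bot (not_comm hcard)) ▸ ?_))
  refine Subgroup.mem_center_iff.2 fun a => mem_centralizer_singleton_iff.1 ?_
  have htop : centralizer ({t} : Set G) = ⊤ := eq_top_of_card_eq _ (by rw [hcard]; exact he)
  rw [htop]; trivial

theorem two_dvd_cen {t : G} (ht : orderOf t = 2) : 2 ∣ cen t := by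
  have h := orderOf_dvd_natCard
    (⟨t, mem_centralizer_singleton_iff.2 rfl⟩ : centralizer ({t} : Set G))
  rwa [Subgroup.orderOf_mk, ht] at h

theorem opts_iv {t : G} (ht : orderOf t = 2) {χ : Cfsg.IrrCharacter G} (hne : χ ≠ trivIrr G) {s : ℤ}
    (hs : s = 1 ∨ s = -1) : s * iv t χ ∈ opts (cen t) (s * (deg χ : ℤ)) := by
  have hG := not_comm hcard
  have ht1 : t ≠ 1 := fun h => by rw [h, orderOf_one] at ht; omega
  refine mem_opts (cen_lt hcard ht1).le ?_ ?_ ?_ ?_
  · rw [← mul_sub]; exact (iv_four hG ht χ).mul_left s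
  · rw [abs_mul, abs_mul]
    rcases hs with rfl | rfl <;> simpa using iv_lt hG ht hne
  · have h := sq_le (l := [χ]) (by simp) (by simpa using hne.symm) t (f := iv t)
      fun ψ _ => iv_spec hG ht ψ
    simp only [List.map_singleton, List.sum_singleton] at h
    rcases hs with rfl | rfl <;> nlinarith
  · rw [show 10200960 / cen t = cls t by
      rw [← cen_mul_cls hcard t, Nat.mul_div_cancel_left _ (Nat.card_pos (α := centralizer ({t} : Set G)))]]
    rw [mul_left_comm]
    exact mul_dvd_mul_left s (deg_dvd_cls' χ (iv_spec hG ht χ))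

theorem dOK_of_mem {p : ℕ} [Fact p.Prime] {P : Sylow p G}
    (D : PBlock P) {c : ℕ} (hC : Nat.card (centralizer ((P : Subgroup G) : Set G)) = p * c)
    (hpc : ¬ p ∣ c) {χ : Cfsg.IrrCharacter G} (hχ : χ ∈ Cfsg.principalBlock D.M G)
    (hne : χ ≠ trivIrr G) : dOK p c (deg χ) = true := by
  have key : ∀ q f : ℕ, q.Prime → q ^ (Nat.card G).factorization q = f →
      c % q ≠ 0 ∨ deg χ % f ≠ 0 := by
    intro q f hq hf
    by_cases hd : q ∣ c
    · right
      rw [← hf]
      intro h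
      refine D.not_full hq (fun e => hpc (e ▸ hd)) (hC ▸ hd.mul_left p) hχ ?_
      exact Nat.dvd_of_mod_eq_zero h
    · left; exact fun h => hd (Nat.dvd_of_mod_eq_zero h)
  simp only [dOK, List.all_cons, List.all_nil, Bool.and_true, Bool.and_eq_true, Bool.or_eq_true,
    bne_iff_ne, ne_eq, beq_iff_eq, decide_eq_true_eq]
  refine ⟨⟨key 2 128 Nat.prime_two ?_, key 3 9 Nat.prime_three ?_, key 5 5 (by norm_num) ?_,
    key 7 7 (by norm_num) ?_, key 11 11 (by norm_num) ?_, key 23 23 (by norm_num) ?_⟩, ?_⟩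
  · obtain ⟨S⟩ : Nonempty (Sylow 2 G) := inferInstance
    rw [← Basic.card_sylow_eq S, card_sylow_two hcard S]
  · rw [factorization_three hcard]; norm_num
  · rw [factorization_one hcard (Or.inl rfl), pow_one]
  · rw [factorization_one hcard (Or.inr (Or.inl rfl)), pow_one]
  · rw [factorization_one hcard (Or.inr (Or.inr (Or.inl rfl))), pow_one]
  · rw [factorization_one hcard (Or.inr (Or.inr (Or.inr rfl))), pow_one]
  · by_contra h
    push Not at h
    have := card_centralizer_of_lt_two_mul (not_comm hcard) D hχ hne h.2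
    rw [hC] at this
    exact h.1 (Nat.eq_of_mul_eq_mul_left (Fact.out : p.Prime).pos (this.trans (mul_one p).symm))

theorem mem_candList {p c : ℕ} {ok : ℕ → Bool} {χ : Cfsg.IrrCharacter G} (hne : χ ≠ trivIrr G)
    (hd : dOK p c (deg χ) = true) (hok : ok (deg χ) = true) {s : ℤ} (hs : s = 1 ∨ s = -1)
    (hm : (s * (deg χ : ℤ)) % (p : ℤ) = 1) : s * (deg χ : ℤ) ∈ candList p c ok := by
  refine List.mem_filter.2 ⟨List.mem_flatMap.2 ⟨deg χ,
    List.mem_filter.2 ⟨deg_mem hcard hne, by simp [hd, hok]⟩, ?_⟩, by simpa using hm⟩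
  rcases hs with rfl | rfl <;> simp

/-- The row of the principal block, in the order of the list of candidates. -/
theorem exists_prow {p : ℕ} [Fact p.Prime] (hp : p = 5 ∨ p = 7 ∨ p = 11 ∨ p = 23) {P : Sylow p G}
    {D : PBlock P} (ht : trivIrr G ∈ D.X) (hts : D.sgn (trivIrr G) = 1) {c : ℕ}
    (hC : Nat.card (centralizer ((P : Subgroup G) : Set G)) = p * c) (ok : ℕ → Bool)
    (hok' : ∀ χ ∈ Cfsg.principalBlock D.M G, χ ≠ trivIrr G → ok (deg χ) = true) :
    ∃ R : PRow D, R.M ∈ rows ok p D.e c := by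
  classical
  rw [rows, forceL_eq]
  set X := candList p c ok with hXdef
  have hpc : ¬ p ∣ c := p_not_dvd_c hcard hp hC
  have hX : ∀ χ : Cfsg.IrrCharacter G, ∀ s : ℤ, s * (deg χ : ℤ) ∈ candList p c ok →
      s * (deg χ : ℤ) ∈ X := fun _ _ h => h
  obtain ⟨R₀⟩ := exists_prow' ht hts
  have hpp : p.Prime := Fact.out
  have hone : ∀ z : ℤ, (p : ℤ) ∣ z - 1 → z % (p : ℤ) = 1 := fun z h => by
    obtain ⟨k, hk⟩ := h
    rw [show z = 1 + (p : ℤ) * k by linarith, Int.add_mul_emod_self_left]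
    exact Int.emod_eq_of_lt (by norm_num) (by exact_mod_cast hpp.one_lt)
  have hok : ∀ (R : PRow D), ∀ χ ∈ R.all, dOK p c (deg χ) = true := fun R χ hχ =>
    dOK_of_mem hcard D hC hpc (R.mem_block hχ) (R.ne_triv hχ)
  have hMX : ∀ (R : PRow D), ∀ z ∈ R.M, z ∈ X := fun R z hz => by
    obtain ⟨χ, hχ, rfl⟩ := List.mem_map.1 hz
    have hm : χ ∈ R.all := List.mem_append_left _ hχ
    exact hX χ _
      (mem_candList hcard (R.ne_triv hm) (hok R χ hm) (hok' χ (R.mem_block hm) (R.ne_triv hm))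
        (R.w_eq χ hχ) (hone _ (R.cong_cs χ hχ)))
  have hcanon : ∀ R : PRow D, ∃ R' : PRow D, R'.M ∈ combs X (D.e - 1) ∧ R'.M.Perm R.M ∧
      R'.ys = R.ys ∧ R'.δ = R.δ := fun R => by
    obtain ⟨M', hM', hperm⟩ := combs_complete X R.M (hMX R)
    obtain ⟨l, hl, hm⟩ := exists_perm_map (m := M') (l := R.cs) hperm
    rw [show R.M.length = D.e - 1 by rw [Row.M, List.length_map, R.len_cs]] at hM'
    refine ⟨R.perm hl, ?_, ?_, rfl, rfl⟩
    · show l.map (fun χ => R.w χ * (deg χ : ℤ)) ∈ _; rw [hm]; exact hM'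
    · show (l.map fun χ => R.w χ * (deg χ : ℤ)).Perm _; rw [hm]; exact hperm
  have hF : ∀ (R : PRow D), ∀ θ ∈ R.ys, 1 + R.M.sum = R.δ * (deg θ : ℤ) := fun R θ hθ => (R.rel θ hθ).symm
  have hsq : ∀ (R : PRow D), ∀ θ ∈ R.ys,
      1 + sqSum R.M + (R.ys.length : ℤ) * ((1 + R.M.sum) * (1 + R.M.sum)) ≤ ord := by
    intro R θ hθ
    have h := deg_sq_le hcard (l := R.all) R.nodup fun h => R.ne_triv h rfl
    rw [Row.all, List.map_append, List.sum_append] at h
    rw [show (R.ys.map fun χ => (deg χ : ℤ) * (deg χ : ℤ)) =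
        List.replicate R.ys.length ((deg θ : ℤ) * (deg θ : ℤ)) from
      List.eq_replicate_iff.2 ⟨List.length_map _, fun b hb => by
      obtain ⟨θ', hθ', rfl⟩ := List.mem_map.1 hb
      show _ = (deg θ : ℤ) * (deg θ : ℤ)
      have e1 := hF R θ hθ
      have e2 := hF R θ' hθ'
      rw [e1] at e2
      rcases R.δ_eq with e | e <;> rw [e] at e2 <;> simp at e2 <;> rw [e2]⟩] at h
    rw [List.sum_replicate, nsmul_eq_mul] at h
    rw [sqSum, Row.M, List.map_map, ← Row.M, hF R θ hθ]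
    rw [List.map_congr_left (g := fun χ => (deg χ : ℤ) * (deg χ : ℤ)) fun χ hχ => by
      rcases R.w_eq χ hχ with e | e <;> simp [e]]
    rcases R.δ_eq with e | e <;> rw [e] <;> linarith
  by_cases he : D.e + 1 = p
  · have hK : R₀.ys.length = 1 := by
      rw [R₀.len_ys, show p - 1 = D.e by omega, Nat.div_self D.e_pos]
    obtain ⟨χ₀, h₀, hmax⟩ := Finset.exists_max_image R₀.all.toFinset (fun χ => deg χ)
      (List.toFinset_nonempty_iff _ |>.2 fun h => by
        have := congrArg List.length h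
        simp [Row.all, hK] at this)
    obtain ⟨R₁, h1⟩ := R₀.exists_pivot hK he (List.mem_toFinset.1 h₀)
    obtain ⟨R, hR, -, hys, -⟩ := hcanon R₁
    rw [h1] at hys
    have hχ₀ : χ₀ ∈ R.ys := by simp [hys]
    have hF0 := hF R χ₀ hχ₀
    have hmem : χ₀ ∈ R.all := List.mem_append_right _ hχ₀
    refine ⟨R, ?_⟩
    rw [rowsIn, if_pos he, List.mem_filter]
    simp only [forceI_eq, forceN_eq, Bool.and_eq_true, List.all_eq_true, Nat.ble_eq, decide_eq_true_eq,
      List.contains_iff_mem]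
    have hneg : -1 - R.M.sum = -R.δ * (deg χ₀ : ℤ) := by linear_combination -hF0
    have hns : -R.δ = 1 ∨ -R.δ = -1 := by rcases R.δ_eq with e | e <;> simp [e]
    refine ⟨hR, ⟨?_, fun z hz => ?_⟩, ?_⟩
    · rw [hneg]
      refine hX χ₀ _
        (mem_candList hcard (R.ne_triv hmem) (hok R χ₀ hmem) (hok' χ₀ (R.mem_block hmem) (R.ne_triv hmem))
          hns (hone _ ?_))
      obtain ⟨k, hk⟩ := R.cong_ys χ₀ hχ₀
      have h2 : (p : ℤ) = (D.e : ℤ) + 1 := by exact_mod_cast he.symm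
      exact ⟨-k - 1, by linear_combination -hk + h2⟩
    · obtain ⟨χ, hχ, rfl⟩ := List.mem_map.1 hz
      rw [hneg, Row.natAbs_signed (R.w_eq χ hχ), Row.natAbs_signed hns, Int.natAbs_natCast,
        Int.natAbs_natCast]
      refine hmax χ (List.mem_toFinset.2 ((R₀.mem χ).2 ((R.mem χ).1 (List.mem_append_left _ hχ))))
    · have h := hsq R χ₀ hχ₀
      rw [hys, List.length_singleton] at h
      push_cast at h
      linarith [show (-1 - R.M.sum) * (-1 - R.M.sum) = (1 + R.M.sum) * (1 + R.M.sum) by ring]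
  · obtain ⟨R, hR, -, -, -⟩ := hcanon R₀
    refine ⟨R, ?_⟩
    obtain ⟨θ, hθ⟩ := List.exists_mem_of_ne_nil _ R.ys_ne
    have hmem : θ ∈ R.all := List.mem_append_right _ hθ
    have habs : (1 + R.M.sum).natAbs = deg θ := by
      rw [hF R θ hθ, Row.natAbs_signed R.δ_eq, Int.natAbs_natCast]
    rw [rowsIn, if_neg he, List.mem_filter]
    simp only [forceI_eq, forceN_eq, Bool.and_eq_true, decide_eq_true_eq, beq_iff_eq,
      List.contains_iff_mem, habs]
    refine ⟨hR, ⟨?_, ⟨hok' θ (R.mem_block hmem) (R.ne_triv hmem), deg_mem hcard (R.ne_triv hmem)⟩,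
      hok R θ hmem⟩, ?_⟩
    · rw [hF R θ hθ]
      exact Int.emod_eq_zero_of_dvd (R.cong_ys θ hθ)
    · have h := hsq R θ hθ
      rwa [R.len_ys] at h


theorem csOK_iv {t : G} (ht : orderOf t = 2) {l : List (Cfsg.IrrCharacter G)} (hnd : l.Nodup)
    (htr : trivIrr G ∉ l) : csOK (cen t) (l.map fun χ => (deg χ, iv t χ)) = true := by
  classical
  have hG := not_comm hcard
  have ht1 : t ≠ 1 := fun h => by rw [h, orderOf_one] at ht; omega
  refine csOK_apply (sq_le hnd htr t fun χ _ => iv_spec hG ht χ) (deg_sq_le hcard hnd htr) ?_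
  have hnc : ¬ IsConj (1 : G) t := fun h => ht1 (isConj_one_right.1 h)
  obtain ⟨h, -⟩ := Cfsg.Agent.M22Order.cauchy_rest hnc (insert (trivIrr G) l.toFinset)
    (fun χ => (deg χ : ℤ)) (iv t) (fun χ _ => by simp [← deg_cast]) fun χ _ => iv_spec hG ht χ
  simp only [Finset.sum_insert (show trivIrr G ∉ l.toFinset by simpa using htr),
    List.sum_toFinset _ hnd, deg_trivIrr, Cfsg.Agent.M12Order.iv_triv, cen_one hcard] at h
  simpa [ord] using h

variable {p : ℕ} [Fact p.Prime] {P : Sylow p G} {D : PBlock P}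

/-- The signed values at an involution commuting with `P`, congruent to `1` or `e`. -/
theorem optsP_iv {t : G} (ht : orderOf t = 2) (hp : p ≠ 2) (R : PRow D)
    (htC : t ∈ centralizer ((P : Subgroup G) : Set G)) :
    (∀ χ ∈ R.cs, R.w χ * iv t χ ∈ optsP p (cen t) 1 (R.w χ * (deg χ : ℤ))) ∧
    ∀ θ ∈ R.ys, R.δ * iv t θ ∈ optsP p (cen t) (D.e : ℤ) (R.δ * (deg θ : ℤ)) := by
  have hnd : ¬ p ∣ orderOf t := by
    rw [ht]; exact fun hd => hp ((Nat.prime_dvd_prime_iff_eq Fact.out Nat.prime_two).1 hd)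
  have hG := not_comm hcard
  have key : ∀ χ ∈ R.all, ∀ s r : ℤ, (p : ℤ) ∣ s * (deg χ : ℤ) - r → (p : ℤ) ∣ s * iv t χ - r := by
    intro χ hχ s r h
    have h' := (block_cong D (R.mem_block hχ) htC hnd (iv_spec hG ht χ)).mul_left s
    have := dvd_sub h h'
    rwa [show s * (deg χ : ℤ) - r - s * ((deg χ : ℤ) - iv t χ) = s * iv t χ - r by ring] at this
  refine ⟨fun χ hχ => ?_, fun θ hθ => ?_⟩
  · exact List.mem_filter.2 ⟨opts_iv hcard ht (R.ne_triv (List.mem_append_left _ hχ)) (R.w_eq χ hχ),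
      beq_iff_eq.2 (Int.emod_eq_zero_of_dvd (key χ (List.mem_append_left _ hχ) _ _ (R.cong_cs χ hχ)))⟩
  · exact List.mem_filter.2 ⟨opts_iv hcard ht (R.ne_triv (List.mem_append_right _ hθ)) R.δ_eq,
      beq_iff_eq.2 (Int.emod_eq_zero_of_dvd (key θ (List.mem_append_right _ hθ) _ _ (R.cong_ys θ hθ)))⟩

/-- The squared signed values of the row, with further characters worth `E`. -/
theorem us_sq_le {t : G} (ht : orderOf t = 2) (hp : p ≠ 2) (R : PRow D)
    {l : List (Cfsg.IrrCharacter G)} (hnd : (R.all ++ l).Nodup) (htr : trivIrr G ∉ l) {E : ℕ}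
    (hE : (E : ℤ) ≤ (l.map fun χ => iv t χ * iv t χ).sum) :
    ((R.us (iv t)).map fun u => u.natAbs * u.natAbs).sum +
      R.ys.length * ((1 + (R.us (iv t)).sum).natAbs * (1 + (R.us (iv t)).sum).natAbs) + 1 + E ≤
        cen t := by
  have hG := not_comm hcard
  have hnp : ¬ p ∣ orderOf t := by
    rw [ht]; exact fun hd => hp ((Nat.prime_dvd_prime_iff_eq Fact.out Nat.prime_two).1 hd)
  have hrel := R.relV hnp (f := iv t) fun χ _ => iv_spec hG ht χ
  have hsq := sq_le hnd (fun h => by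
    rcases List.mem_append.1 h with h | h
    · exact R.ne_triv h rfl
    · exact htr h) t (f := iv t) fun χ _ => iv_spec hG ht χ
  rw [Row.all, List.map_append, List.map_append, List.sum_append, List.sum_append] at hsq
  have h2 : R.ys.map (fun χ => iv t χ * iv t χ) =
      List.replicate R.ys.length ((1 + (R.us (iv t)).sum) * (1 + (R.us (iv t)).sum)) :=
    List.eq_replicate_iff.2 ⟨List.length_map _, fun b hb => by
      obtain ⟨θ, hθ, rfl⟩ := List.mem_map.1 hb
      rw [← hrel θ hθ]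
      rcases R.δ_eq with e | e <;> rw [e] <;> ring⟩
  rw [h2, List.sum_replicate, nsmul_eq_mul] at hsq
  have h1 : ((((R.us (iv t)).map fun u => u.natAbs * u.natAbs).sum : ℕ) : ℤ) =
      (R.cs.map fun χ => iv t χ * iv t χ).sum := by
    rw [Nat.cast_list_sum, Row.us, List.map_map, List.map_map]
    refine congrArg List.sum (List.map_congr_left fun χ hχ => ?_)
    simp only [Function.comp_apply, Row.natAbs_signed (R.w_eq χ hχ)]
    rw [Nat.cast_mul, Int.natCast_natAbs, abs_mul_abs_self]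
  have h3 : (((1 + (R.us (iv t)).sum).natAbs * (1 + (R.us (iv t)).sum).natAbs : ℕ) : ℤ) =
      (1 + (R.us (iv t)).sum) * (1 + (R.us (iv t)).sum) := by
    rw [Nat.cast_mul, Int.natCast_natAbs, abs_mul_abs_self]
  have : ((((R.us (iv t)).map fun u => u.natAbs * u.natAbs).sum +
      R.ys.length * ((1 + (R.us (iv t)).sum).natAbs * (1 + (R.us (iv t)).sum).natAbs) + 1 + E : ℕ) : ℤ) ≤
        (cen t : ℤ) := by
    push_cast [h1] at *
    rw [h3]
    linarith
  exact_mod_cast this

/-- The order of `N(P) ∩ C(t)`. -/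
theorem exists_norm_inter (hp : p = 5 ∨ p = 7 ∨ p = 11 ∨ p = 23) {n : ℕ}
    (hN : Nat.card (normalizer ((P : Subgroup G) : Set G)) = n) {t : G}
    (htC : t ∈ centralizer ((P : Subgroup G) : Set G)) :
    ∃ m : ℕ, p ∣ m ∧ m ∣ n ∧ m ∣ cen t ∧ cen t / m % p = 1 ∧
      ∀ S : Subgroup G, S ≤ normalizer ((P : Subgroup G) : Set G) → S ≤ centralizer ({t} : Set G) →
        Nat.card S ∣ m := by
  set C := centralizer ({t} : Set G)
  set NQ := normalizer ((P : Subgroup G) : Set G)
  have hQC : (P : Subgroup G) ≤ C := fun z hz =>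
    mem_centralizer_singleton_iff.2 (mem_centralizer_iff.1 htC z hz)
  have hmul : Nat.card (NQ ⊓ C : Subgroup G) * NQ.relIndex C = cen t := by
    rw [← Subgroup.inf_relIndex_right, Subgroup.relIndex,
      ← Nat.card_congr (subgroupOfEquivOfLe (inf_le_right : NQ ⊓ C ≤ C)).toEquiv, card_mul_index]
  refine ⟨Nat.card (NQ ⊓ C : Subgroup G), ?_, hN ▸ card_dvd_of_le (inf_le_left : NQ ⊓ C ≤ NQ),
    Dvd.intro _ hmul, ?_, fun S h1 h2 => card_dvd_of_le (le_inf h1 h2)⟩
  · have := card_dvd_of_le (le_inf (le_normalizer : (P : Subgroup G) ≤ NQ) hQC)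
    rwa [card_sylow hcard hp P] at this
  · rw [← hmul, Nat.mul_div_cancel_left _ Nat.card_pos]
    exact relIndex_mod P C hQC

/-- The centralizer orders allowed for an involution centralizing `P`. -/
theorem mem_cList (hp : p = 5 ∨ p = 7 ∨ p = 11 ∨ p = 23) {c e : ℕ}
    (hN : Nat.card (normalizer ((P : Subgroup G) : Set G)) = p * c * e) {t : G} (ht : orderOf t = 2)
    (htC : t ∈ centralizer ((P : Subgroup G) : Set G)) {ex : List ℕ} (hex : cen t ∉ ex) :
    cen t ∈ cList p e c ex := by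
  have ht1 : t ≠ 1 := fun h => by rw [h, orderOf_one] at ht; omega
  obtain ⟨m, hmp, hmn, hmC, hmod, -⟩ := exists_norm_inter hcard hp hN htC
  simp only [cList, forceN_eq, forceNL_eq, List.mem_filter, Bool.and_eq_true, beq_iff_eq,
    List.any_eq_true, Nat.blt_eq, Bool.not_eq_true', List.contains_eq_mem, decide_eq_false_iff_not]
  exact ⟨mem_divs (cen_dvd hcard t), ⟨⟨⟨Nat.mod_eq_zero_of_dvd (hmp.trans hmC),
    Nat.mod_eq_zero_of_dvd (two_dvd_cen hcard ht)⟩, cen_lt hcard ht1⟩, hex⟩,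
    m, ⟨mem_divs (hmC.trans (cen_dvd hcard t)),
      Nat.mod_eq_zero_of_dvd hmp, Nat.mod_eq_zero_of_dvd hmn⟩, Nat.mod_eq_zero_of_dvd hmC, hmod⟩

omit hcard in
theorem exists_inv_centralizer {c : ℕ} (hC : Nat.card (centralizer ((P : Subgroup G) : Set G)) = p * c)
    (h2 : 2 ∣ c) : ∃ t : G, orderOf t = 2 ∧ t ∈ centralizer ((P : Subgroup G) : Set G) := by
  obtain ⟨⟨t, htC⟩, ht⟩ := exists_prime_orderOf_dvd_card'
    (G := centralizer ((P : Subgroup G) : Set G)) 2 (by rw [hC]; exact h2.mul_left p)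
  rw [Subgroup.orderOf_mk] at ht
  exact ⟨t, ht, htC⟩

omit hcard in
theorem even_of_dead {e c : ℕ} {X : List ℤ} {Ms : List (List ℤ)} {ex : List ℕ} {uq : Bool}
    (h : dead p e c X Ms ex uq = true) : 2 ∣ c := by
  simp only [dead, Bool.and_eq_true, beq_iff_eq] at h
  exact Nat.dvd_of_mod_eq_zero h.1

theorem quadOK_iv (R : PRow D) {c : ℕ}
    (hC : Nat.card (centralizer ((P : Subgroup G) : Set G)) = p * c) {t : G} (ht : orderOf t = 2)
    (hp : p ≠ 2) : quadOK p D.e c (cen t) (quad R.M (R.us (iv t))) = true := by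
  haveI := Fintype.ofFinite G
  have hG := not_comm hcard
  have hnd : ¬ p ∣ orderOf t := by
    rw [ht]; exact fun hd => hp ((Nat.prime_dvd_prime_iff_eq Fact.out Nat.prime_two).1 hd)
  have hf : ∀ χ ∈ R.all, (χ : G → ℂ) t = (iv t χ : ℂ) := fun χ _ => iv_spec hG ht χ
  obtain ⟨T, hT, hle, hodd⟩ := quad_gen hC R hcard ht hf (R.relV hnd hf)
  have hc : (0 : ℤ) < c := by
    exact_mod_cast Nat.pos_of_ne_zero fun h => by
      rw [h, mul_zero] at hC; exact Nat.card_pos.ne' hC
  unfold quadOK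
  split_ifs with he
  · rw [hodd he, Nat.cast_zero, mul_zero] at hT
    rw [beq_iff_eq]
    exact (mul_eq_zero.1 hT).resolve_right hc.ne'
  · simp only [Bool.and_eq_true, decide_eq_true_eq, beq_iff_eq]
    refine ⟨⟨?_, ?_⟩, ?_⟩
    · have : 0 ≤ quad R.M (R.us (iv t)) * (c : ℤ) := hT ▸ by positivity
      exact nonneg_of_mul_nonneg_left this hc
    · rw [hT]; exact Int.mul_emod_right _ _
    · rw [hT]; gcongr

/-- The signed values are found among the options looked up by signed degree. -/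
theorem forall₂_us (R : PRow D) {t : G} {f : ℤ → List ℤ} {X : List ℤ} (hX : ∀ z ∈ R.M, z ∈ X)
    (h : ∀ χ ∈ R.cs, R.w χ * iv t χ ∈ f (R.w χ * (deg χ : ℤ))) :
    List.Forall₂ (fun u l => u ∈ l) (R.us (iv t)) (R.M.map (lookOpt X (X.map f))) := by
  rw [Row.us, List.forall₂_map_left_iff, Row.M, List.map_map, List.forall₂_map_right_iff,
    List.forall₂_same]
  intro χ hχ
  rw [Function.comp_apply, lookOpt_map f (hX _ (List.mem_map.2 ⟨χ, hχ, rfl⟩))]
  exact h χ hχ

/-- A row list without values: the exceptional orders are all that is left. -/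
theorem dead_apply (hp : p = 5 ∨ p = 7 ∨ p = 11 ∨ p = 23) {c : ℕ}
    (hC : Nat.card (centralizer ((P : Subgroup G) : Set G)) = p * c)
    (hN : Nat.card (normalizer ((P : Subgroup G) : Set G)) = p * c * D.e) (R : PRow D)
    {X : List ℤ} {Ms : List (List ℤ)} (hX : ∀ z ∈ R.M, z ∈ X) (hM : R.M ∈ Ms) {ex : List ℕ}
    {uq : Bool} (h : dead p D.e c X Ms ex uq = true) {t : G} (ht : orderOf t = 2)
    (htC : t ∈ centralizer ((P : Subgroup G) : Set G)) : cen t ∈ ex := by
  classical
  simp only [dead, forceNL_eq, Bool.and_eq_true, beq_iff_eq, List.all_eq_true] at h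
  by_contra hex
  have hp2 : p ≠ 2 := by omega
  have hG := not_comm hcard
  have hnp : ¬ p ∣ orderOf t := by
    rw [ht]; exact fun hd => hp2 ((Nat.prime_dvd_prime_iff_eq Fact.out Nat.prime_two).1 hd)
  have hd := h.2 _ (mem_cList hcard hp hN ht htC hex)
  simp only [deadAt, forceLL_eq, forceL_eq, forceI_eq, List.all_eq_true] at hd
  obtain ⟨hcs, hys⟩ := optsP_iv hcard ht hp2 R htC
  obtain ⟨θ, hθ⟩ := List.exists_mem_of_ne_nil _ R.ys_ne
  have hsq := us_sq_le hcard ht hp2 R (l := []) (by rw [List.append_nil]; exact R.nodup) (by simp) (E := 0) (by simp)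
  have hg := allV_spec (hd R.M hM) (forall₂_us hcard R hX hcs) (by
      rw [← R.relV hnp (fun χ _ => iv_spec hG ht χ) θ hθ, Row.M, ← R.rel θ hθ]
      exact hys θ hθ)
    (by rw [← R.len_ys]; omega)
  rw [quadOK_iv hcard R hC ht hp2] at hg
  simp at hg

end

end Cfsg.Agent.M23Order
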